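import Cfsg.Agent.Lib.PushingUp2.Config

/-!
# A biadditive commutator pairing `W × Y → T`
-/

set_option autoImplicit false

namespace Cfsg.Agent.PU2

open Subgroup
open scoped commutatorElement

universe u

variable {Γ : Type u} [Group Γ]

/-- `[W, Y] ≤ T` with `T` centralised by `W` and `Y`. -/
structure Bracket (W Y T : Subgroup Γ) : Prop where
  mem : ∀ x ∈ W, ∀ y ∈ Y, ⁅x, y⁆ ∈ T
  commW : ∀ t ∈ T, ∀ x ∈ W, x * t = t * x
  commY : ∀ t ∈ T, ∀ y ∈ Y, y * t = t * y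
  commT : ∀ t ∈ T, ∀ t' ∈ T, t * t' = t' * t

namespace Bracket

variable {W Y T : Subgroup Γ} (hb : Bracket W Y T) {x x' y y' : Γ}
include hb

theorem mul_left (hx : x ∈ W) (hx' : x' ∈ W) (hy : y ∈ Y) : ⁅x * x', y⁆ = ⁅x, y⁆ * ⁅x', y⁆ := by
  rw [show ⁅x * x', y⁆ = x * ⁅x', y⁆ * x⁻¹ * ⁅x, y⁆ by simp only [commutatorElement_def]; group,
    hb.commW _ (hb.mem x' hx' y hy) x hx, mul_inv_cancel_right,
    hb.commT _ (hb.mem x' hx' y hy) _ (hb.mem x hx y hy)]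

theorem mul_right (hx : x ∈ W) (hy : y ∈ Y) (hy' : y' ∈ Y) : ⁅x, y * y'⁆ = ⁅x, y⁆ * ⁅x, y'⁆ := by
  rw [show ⁅x, y * y'⁆ = ⁅x, y⁆ * (y * ⁅x, y'⁆ * y⁻¹) by simp only [commutatorElement_def]; group,
    hb.commY _ (hb.mem x hx y' hy') y hy, mul_inv_cancel_right]

theorem inv_left (hx : x ∈ W) (hy : y ∈ Y) : ⁅x⁻¹, y⁆ = ⁅x, y⁆⁻¹ := by
  refine eq_inv_of_mul_eq_one_left ?_
  rw [← hb.mul_left (inv_mem hx) hx hy, inv_mul_cancel, commutatorElement_one_left]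

theorem inv_right (hx : x ∈ W) (hy : y ∈ Y) : ⁅x, y⁻¹⁆ = ⁅x, y⁆⁻¹ := by
  refine eq_inv_of_mul_eq_one_left ?_
  rw [← hb.mul_right hx (inv_mem hy) hy, inv_mul_cancel, commutatorElement_one_right]

omit hb in
theorem eq_one {x y : Γ} (h : x * y = y * x) : ⁅x, y⁆ = 1 :=
  commutatorElement_eq_one_iff_mul_comm.mpr h

/-- The commutator of two elements of `Y` commutes with `W`. -/
theorem comm_commutator (hx : x ∈ W) (hy : y ∈ Y) (hy' : y' ∈ Y) : ⁅x, ⁅y, y'⁆⁆ = 1 := by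
  rw [show ⁅y, y'⁆ = y * (y' * (y⁻¹ * y'⁻¹)) by simp only [commutatorElement_def, mul_assoc],
    hb.mul_right hx hy (mul_mem hy' (mul_mem (inv_mem hy) (inv_mem hy'))),
    hb.mul_right hx hy' (mul_mem (inv_mem hy) (inv_mem hy')), hb.mul_right hx (inv_mem hy) (inv_mem hy'),
    hb.inv_right hx hy, hb.inv_right hx hy', ← mul_assoc, hb.commT _ (hb.mem x hx y hy) _ (hb.mem x hx y' hy'),
    mul_assoc, mul_inv_cancel_left, mul_inv_cancel]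

theorem mono {W' Y' : Subgroup Γ} (hW : W' ≤ W) (hY : Y' ≤ Y) : Bracket W' Y' T :=
  ⟨fun x hx y hy => hb.mem x (hW hx) y (hY hy), fun t ht x hx => hb.commW t ht x (hW hx),
    fun t ht y hy => hb.commY t ht y (hY hy), hb.commT⟩

/-- `x ↦ [x, y]`. -/
def homLeft (y : Γ) (hy : y ∈ Y) : ↥W →* ↥T :=
  MonoidHom.mk' (fun x => ⟨⁅(x : Γ), y⁆, hb.mem x x.2 y hy⟩) fun a b =>
    Subtype.ext (hb.mul_left a.2 b.2 hy)

/-- `y ↦ [x, y]`. -/
def homRight (x : Γ) (hx : x ∈ W) : ↥Y →* ↥T :=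
  MonoidHom.mk' (fun y => ⟨⁅x, (y : Γ)⁆, hb.mem x hx y y.2⟩) fun a b =>
    Subtype.ext (hb.mul_right hx a.2 b.2)

end Bracket

end Cfsg.Agent.PU2
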