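import Cfsg.Agent.Lib.PushingUp2.Gallery
import Cfsg.Agent.Lib.PushingUp2.Bracket
import Cfsg.Agent.Lib.PushingUp.Common
import Cfsg.Agent.Lib.PushingUp.Series

/-!
# The subgroups `Φ(H)` and `S₀(H)` as subgroups of the ambient group

* `Fr`, `S0Of`, their images under homomorphisms
* `Fr_sup_le`, `comm_sup_central_le`, `comm_le_of_sup`, `pow_mem_of_comm`
* `S0_le`: `S₀ ≤ Φ(Q)` when `S = A Q` with `A` elementary abelian and `[A, Q]` elementary central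
* `Base.le_Z`: what `A` centralises inside `Z(S)` is central
-/

set_option autoImplicit false

namespace Cfsg.Agent.PU2

open Subgroup
open PushingUp (Cfg Base cj_sup cj_le_cj cj_centralizer cj_eq_self_of_mem_normalizer pow_qa)
open FFPair (cj mem_cj cj_cj)
open scoped commutatorElement

variable {Γ : Type*} [Group Γ] {p : ℕ}

/-- `[H, H] H^p`. -/
def Fr (p : ℕ) (H : Subgroup Γ) : Subgroup Γ := ⁅H, H⁆ ⊔ powerClosure p 1 H

/-- `S₀` of a `p`-subgroup. -/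
def S0Of (p : ℕ) (H : Subgroup Γ) : Subgroup Γ :=
  if p = 2 then ⁅Fr p H, H⁆ ⊔ Fr p (Fr p H)
  else if p = 3 then ⁅⁅Fr p H, H⁆, H⁆ ⊔ Fr p (Fr p H)
  else ⁅Fr p H, H⁆ ⊔ powerClosure p 1 H

theorem map_Fr {G : Type*} [Group G] (f : Γ →* G) (H : Subgroup Γ) :
    (Fr p H).map f = Fr p (H.map f) := by
  rw [Fr, Fr, Subgroup.map_sup, Subgroup.map_commutator, PGroup.map_powerClosure]

theorem map_S0Of {G : Type*} [Group G] (f : Γ →* G) (H : Subgroup Γ) :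
    (S0Of p H).map f = S0Of p (H.map f) := by
  unfold S0Of
  split_ifs <;> simp only [Subgroup.map_sup, Subgroup.map_commutator, PGroup.map_powerClosure, map_Fr]

theorem Fr_le {H : Subgroup Γ} : Fr p H ≤ H :=
  sup_le (Subgroup.commutator_le_self _) (PGroup.powerClosure_le _ _)

theorem Fr_mono {H K : Subgroup Γ} (h : H ≤ K) : Fr p H ≤ Fr p K :=
  sup_le_sup (commutator_mono h h) (PGroup.powerClosure_mono h 1)

theorem pow_mem_Fr {H : Subgroup Γ} {x : Γ} (hx : x ∈ H) : x ^ p ∈ Fr p H :=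
  mem_sup_right (by simpa using PGroup.pow_mem_powerClosure (p := p) hx 1)

theorem comm_mem_Fr {H : Subgroup Γ} {x y : Γ} (hx : x ∈ H) (hy : y ∈ H) : ⁅x, y⁆ ∈ Fr p H :=
  mem_sup_left (commutator_mem_commutator hx hy)

theorem Fr_le_iff {H K : Subgroup Γ} :
    Fr p H ≤ K ↔ (∀ x ∈ H, ∀ y ∈ H, ⁅x, y⁆ ∈ K) ∧ ∀ x ∈ H, x ^ p ∈ K := by
  refine ⟨fun h => ⟨fun x hx y hy => h (comm_mem_Fr hx hy), fun x hx => h (pow_mem_Fr hx)⟩,
    fun h => sup_le (commutator_le.mpr h.1) (PGroup.powerClosure_le_iff.mpr fun x hx => ?_)⟩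
  rw [pow_one]
  exact h.2 x hx

theorem normalizer_Fr {X H : Subgroup Γ} (h : X ≤ normalizer (H : Set Γ)) :
    X ≤ normalizer (Fr p H : Set Γ) := fun x hx =>
  PGroup.mem_normalizer_of_map_conj_eq (by rw [map_Fr, PGroup.map_conj_eq_of_mem_normalizer (h hx)])

theorem pow_mem_of_comm {D : Subgroup Γ} {a b : Γ} (ha : a ∈ normalizer (D : Set Γ))
    (hb : b ∈ normalizer (D : Set Γ)) (hab : ⁅a, b⁆ ∈ D) {n : ℕ} (han : a ^ n ∈ D) (hbn : b ^ n ∈ D) :
    (a * b) ^ n ∈ D := by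
  set π := QuotientGroup.mk' (D.subgroupOf (normalizer (D : Set Γ)))
  have hc : Commute (π ⟨a, ha⟩) (π ⟨b, hb⟩) := commutatorElement_eq_one_iff_commute.mp (by
    rw [← map_commutatorElement]
    exact (QuotientGroup.eq_one_iff _).mpr (mem_subgroupOf.mpr hab))
  have h1 : π ((⟨a, ha⟩ * ⟨b, hb⟩) ^ n) = 1 := by
    rw [map_pow, map_mul, hc.mul_pow, ← map_pow, ← map_pow, ← map_mul]
    exact (QuotientGroup.eq_one_iff _).mpr (mem_subgroupOf.mpr (mul_mem han hbn))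
  exact mem_subgroupOf.mp ((QuotientGroup.eq_one_iff _).mp h1)

theorem Fr_sup_le {V W : Subgroup Γ} (hV : IsElementaryAbelian p V) (hVW : V ≤ centralizer (W : Set Γ)) :
    Fr p (V ⊔ W) ≤ Fr p W := by
  have hn : V ≤ normalizer (W : Set Γ) := hVW.trans (centralizer_le_normalizer _)
  refine Fr_le_iff.mpr ⟨fun x hx y hy => ?_, fun x hx => ?_⟩
  · obtain ⟨v, hv, w, hw, rfl⟩ := (Coprime.mem_sup_iff_of_le_normalizer hn).mp hx
    obtain ⟨v', hv', w', hw', rfl⟩ := (Coprime.mem_sup_iff_of_le_normalizer hn).mp hy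
    refine mem_sup_left ?_
    have c : ∀ {u z : Γ}, u ∈ V → z ∈ W → Commute u z := fun hu hz => (hVW hu _ hz).symm
    have cV : Commute v v' := PGroup.mul_comm_of_isMulCommutative hV.1 hv hv'
    rw [show ⁅v * w, v' * w'⁆ = v * (w * v') * w' * (w⁻¹ * v⁻¹) * (w'⁻¹ * v'⁻¹) by
        simp only [commutatorElement_def]; group,
      (c hv' hw).symm.eq, ← (c (inv_mem hv) (inv_mem hw)).eq, ← (c (inv_mem hv') (inv_mem hw')).eq]
    have e : v * (v' * w) * w' * (v⁻¹ * w⁻¹) * (v'⁻¹ * w'⁻¹) = ⁅w, w'⁆ := by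
      calc v * (v' * w) * w' * (v⁻¹ * w⁻¹) * (v'⁻¹ * w'⁻¹)
          = v * v' * ((w * w') * v⁻¹) * (w⁻¹ * v'⁻¹) * w'⁻¹ := by group
        _ = v * v' * (v⁻¹ * (w * w')) * (v'⁻¹ * w⁻¹) * w'⁻¹ := by
          rw [← (c (inv_mem hv) (mul_mem hw hw')).eq, ← (c (inv_mem hv') (inv_mem hw)).eq]
        _ = v * v' * v⁻¹ * ((w * w') * v'⁻¹) * w⁻¹ * w'⁻¹ := by group
        _ = v * v' * v⁻¹ * (v'⁻¹ * (w * w')) * w⁻¹ * w'⁻¹ := by
          rw [← (c (inv_mem hv') (mul_mem hw hw')).eq]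
        _ = _ := by rw [cV.eq, commutatorElement_def]; group
    rw [e]
    exact commutator_mem_commutator hw hw'
  · obtain ⟨v, hv, w, hw, rfl⟩ := (Coprime.mem_sup_iff_of_le_normalizer hn).mp hx
    rw [(show Commute v w from (hVW hv _ hw).symm).mul_pow, hV.2 v hv, one_mul]
    exact pow_mem_Fr hw

theorem comm_sup_central_le {S Z W : Subgroup Γ} (hZS : Z ≤ S) (hZ : Z ≤ centralizer (S : Set Γ))
    (hWn : S ≤ normalizer (W : Set Γ)) : ⁅Z ⊔ W, S⁆ ≤ W := by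
  refine commutator_le.mpr fun y hy s hs => ?_
  obtain ⟨z, hz, w, hw, rfl⟩ := (Coprime.mem_sup_iff_of_le_normalizer (hZS.trans hWn)).mp hy
  have e : ⁅z, s⁆ = 1 := commutatorElement_eq_one_iff_commute.mpr (hZ hz s hs).symm
  rw [show ⁅z * w, s⁆ = z * ⁅w, s⁆ * z⁻¹ * ⁅z, s⁆ by simp only [commutatorElement_def]; group, e, mul_one]
  refine (mem_normalizer_iff.mp (hWn (hZS hz)) _).mp ?_
  rw [commutatorElement_def, show w * s * w⁻¹ * s⁻¹ = w * (s * w⁻¹ * s⁻¹) by group]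
  exact W.mul_mem hw ((mem_normalizer_iff.mp (hWn hs) _).mp (inv_mem hw))

theorem comm_le_of_sup {S A Q K : Subgroup Γ} (hsup : A ⊔ Q = S) (hn : S ≤ normalizer (Q : Set Γ))
    (hK : S ≤ normalizer (K : Set Γ)) (hA : A ≤ centralizer (A : Set Γ))
    (hAQ : ∀ a ∈ A, ∀ q ∈ Q, ⁅a, q⁆ ∈ K) (hQQ : ∀ x ∈ Q, ∀ y ∈ Q, ⁅x, y⁆ ∈ K) : ⁅S, S⁆ ≤ K := by
  have hdec : ∀ {s : Γ}, s ∈ S → ∃ a ∈ A, ∃ q ∈ Q, a * q = s := fun hs =>
    (Coprime.mem_sup_iff_of_le_normalizer ((le_sup_left.trans hsup.le).trans hn)).mp (hsup.ge hs)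
  refine commutator_le.mpr fun x hx y hy => ?_
  obtain ⟨a, ha, q, hq, rfl⟩ := hdec hx
  obtain ⟨a', ha', q', hq', rfl⟩ := hdec hy
  have hc : ∀ {u z : Γ}, u ∈ A → z ∈ K → u * z * u⁻¹ ∈ K := fun hu hz =>
    (mem_normalizer_iff.mp (hK (hsup.le (mem_sup_left hu))) _).mp hz
  have e1 : ⁅a, a'⁆ = 1 := commutatorElement_eq_one_iff_commute.mpr (hA ha a' ha').symm
  rw [show ⁅a * q, a' * q'⁆ = a * (⁅a', q⁆⁻¹ * (a' * ⁅q, q'⁆ * a'⁻¹)) * a⁻¹ * (⁅a, a'⁆ * (a' * ⁅a, q'⁆ * a'⁻¹)) by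
    simp only [commutatorElement_def]; group, e1, one_mul]
  exact mul_mem (hc ha (mul_mem (inv_mem (hAQ a' ha' q hq)) (hc ha' (hQQ q hq q' hq'))))
    (hc ha' (hAQ a ha q' hq'))

theorem S0_le [Fact p.Prime] {S A Q Z : Subgroup Γ} (hsup : A ⊔ Q = S) (hn : S ≤ normalizer (Q : Set Γ))
    (hA : IsElementaryAbelian p A) (hZS : Z ≤ S) (hZ : Z ≤ centralizer (S : Set Γ))
    (hZe : IsElementaryAbelian p Z) (hAQ : ∀ a ∈ A, ∀ q ∈ Q, ⁅a, q⁆ ∈ Z) :
    S0Of p S ≤ Fr p Q := by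
  have hΦ := normalizer_Fr (p := p) hn
  set K := Z ⊔ Fr p Q
  have hK : S ≤ normalizer (K : Set Γ) := fun s hs => by
    refine PGroup.mem_normalizer_of_map_conj_eq ?_
    rw [Subgroup.map_sup, PGroup.map_conj_eq_of_mem_normalizer (hΦ hs), PGroup.map_conj_eq_of_mem_normalizer
      (centralizer_le_normalizer _ ((le_centralizer_iff.mp hZ) hs))]
  have hAS : A ≤ S := le_sup_left.trans hsup.le
  have hQS : Q ≤ S := le_sup_right.trans hsup.le
  have hFr : Fr p S ≤ K := by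
    refine sup_le (comm_le_of_sup hsup hn hK (PGroup.le_centralizer_of_isMulCommutative hA.1)
      (fun a ha q hq => mem_sup_left (hAQ a ha q hq)) fun x hx y hy => mem_sup_right (comm_mem_Fr hx hy))
      (PGroup.powerClosure_le_iff.mpr fun s hs => ?_)
    rw [pow_one]
    obtain ⟨a, ha, q, hq, rfl⟩ := (Coprime.mem_sup_iff_of_le_normalizer (hAS.trans hn)).mp (hsup.ge hs)
    exact pow_mem_of_comm (hK (hAS ha)) (hK (hQS hq)) (mem_sup_left (hAQ a ha q hq))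
      (by rw [hA.2 a ha]; exact one_mem _) (mem_sup_right (pow_mem_Fr hq))
  have h1 : ⁅Fr p S, S⁆ ≤ Fr p Q := (commutator_mono hFr le_rfl).trans (comm_sup_central_le hZS hZ hΦ)
  have h2 : Fr p (Fr p S) ≤ Fr p Q := (Fr_mono hFr).trans
    ((Fr_sup_le hZe (hZ.trans (centralizer_le (SetLike.coe_subset_coe.mpr (Fr_le.trans hQS))))).trans
      (Fr_mono Fr_le))
  unfold S0Of
  split_ifs with hp2 hp3
  · exact sup_le h1 h2
  · refine sup_le ((commutator_mono h1 le_rfl).trans (commutator_le.mpr fun x hx s hs => ?_)) h2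
    rw [commutatorElement_def, show x * s * x⁻¹ * s⁻¹ = x * (s * x⁻¹ * s⁻¹) by group]
    exact (Fr p Q).mul_mem hx ((mem_normalizer_iff.mp (hΦ hs) _).mp (inv_mem hx))
  · refine sup_le h1 (PGroup.powerClosure_le_iff.mpr fun s hs => ?_)
    rw [pow_one]
    obtain ⟨q, hq, a, ha, rfl⟩ := (Coprime.mem_sup_iff_of_le_normalizer' (hAS.trans hn)).mp (hsup.ge hs)
    have hz := hAQ a ha q hq
    rw [pow_qa (z := ⁅a, q⁆) (by simp only [commutatorElement_def]; group) (hZ hz q (hQS hq)) (hZ hz a (hAS ha))]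
    obtain ⟨c, hc⟩ := (Fact.out : p.Prime).dvd_choose_self (k := 2) two_ne_zero
      (lt_of_le_of_ne (Fact.out : p.Prime).two_le (Ne.symm hp2))
    rw [hA.2 a ha, hc, pow_mul, hZe.2 _ hz, one_pow, mul_one, mul_one]
    exact pow_mem_Fr hq

/-- A pairing into an elementary abelian group kills `Φ(Y)`. -/
theorem Bracket.le_centralizer_Fr {Γ : Type*} [Group Γ] {W Y T : Subgroup Γ} (hb : Bracket W Y T)
    (hT : IsElementaryAbelian p T) : W ≤ centralizer (Fr p Y : Set Γ) := by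
  rw [le_centralizer_iff, Fr_le_iff]
  refine ⟨fun x hx y hy t ht => (commutatorElement_eq_one_iff_mul_comm.mp (hb.comm_commutator ht hx hy)),
    fun x hx t ht => commutatorElement_eq_one_iff_mul_comm.mp ?_⟩
  have := congrArg Subtype.val (map_pow (hb.homRight t ht) ⟨x, hx⟩ p)
  exact this.trans (hT.2 _ (hb.mem t ht x hx))

/-- An element of `Z(S)` in a `G`-invariant subgroup centralised by a cover `A` of `S / Q` lies in `Z`. -/
theorem Base.le_Z {c : Cfg Γ} (h : PushingUp.Base p c) {A W : Subgroup Γ} (hAQ : A ⊔ c.Q = c.S)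
    (hW : c.G ≤ normalizer (W : Set Γ)) (hA : A ≤ centralizer (W : Set Γ)) : c.Zs ⊓ W ≤ c.Z := by
  intro z hz
  have hzS : ∀ s ∈ c.S, s * z = z * s := fun s hs =>
    (h.Zs_eq ▸ hz.1 : z ∈ c.S ⊓ centralizer (c.S : Set Γ)).2 s hs
  obtain ⟨g, hg, -, hgen⟩ := h.gen
  have hle : c.G ≤ centralizer ({z} : Set Γ) := by
    rw [← hgen]
    refine sup_le (fun s hs => ?_) ?_
    · rw [mem_centralizer_iff]; intro _ hu; rw [Set.mem_singleton_iff.mp hu]; exact (hzS s hs).symm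
    rw [← hAQ, cj_sup, h.conj_Q hg]
    refine sup_le ((cj_le_cj.mpr hA).trans ?_) fun s hs => ?_
    · rw [cj_centralizer, cj_eq_self_of_mem_normalizer (hW hg)]
      exact centralizer_le (Set.singleton_subset_iff.mpr hz.2)
    · rw [mem_centralizer_iff]; intro _ hu; rw [Set.mem_singleton_iff.mp hu]
      exact (hzS s (h.QS hs)).symm
  rw [h.Z_eq]
  exact ⟨h.ZsV hz.1, fun y hy => ((hle hy) z rfl).symm⟩

end Cfsg.Agent.PU2
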