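import Cfsg.Agent.Lib.PushingUp.LargeTransport
import Cfsg.Agent.Lib.PushingUp2.S0

/-!
# Transport of the attached subgroups along isomorphisms

* `mcp_le_of_injective`, `mcp_congr`, `mcp_of_large`
* `map_mclJoin`, `map_frattiniJoin`
* `frattini_eq_Fr`, `map_frattini_eq_Fr`
-/

set_option autoImplicit false

namespace Cfsg.Agent.PU2

open Subgroup

universe u

variable {A B : Type u} [Group A] [Group B]

theorem mcp_le_of_injective [Finite A] [Finite B] {f : A →* B} (hf : Function.Injective f) :
    maxCentralProduct A ≤ maxCentralProduct B := by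
  obtain ⟨R, hR⟩ := CLarge.exists_isCentrallyLarge (G := A)
  rw [← hR, ← PushingUp.card_mul_center_map hf]
  exact CLarge.le_maxCentralProduct _

theorem mcp_congr [Finite A] [Finite B] (e : A ≃* B) : maxCentralProduct A = maxCentralProduct B :=
  le_antisymm (mcp_le_of_injective (f := e.toMonoidHom) e.injective)
    (mcp_le_of_injective (f := e.symm.toMonoidHom) e.symm.injective)

theorem mcp_of_large [Finite A] {R : Subgroup A} (hR : IsCentrallyLarge R) :
    maxCentralProduct ↥R = maxCentralProduct A := by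
  refine le_antisymm (mcp_le_of_injective R.subtype_injective) ?_
  rw [← hR]
  have h := CLarge.le_maxCentralProduct (⊤ : Subgroup ↥R)
  rw [Subgroup.card_top, Nat.card_congr (Subgroup.centerCongr (Subgroup.topEquiv (G := ↥R))).toEquiv] at h
  exact h

theorem cl_iso [Finite A] [Finite B] (e : A ≃* B) (R : Subgroup A) :
    IsCentrallyLarge (R.map e.toMonoidHom) ↔ IsCentrallyLarge R := by
  rw [IsCentrallyLarge, IsCentrallyLarge, PushingUp.card_mul_center_map (f := e.toMonoidHom) e.injective,
    mcp_congr e]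

theorem map_map_symm (e : A ≃* B) (X : Subgroup B) : (X.map e.symm.toMonoidHom).map e.toMonoidHom = X := by
  rw [Subgroup.map_map, show e.toMonoidHom.comp e.symm.toMonoidHom = MonoidHom.id B from
    MonoidHom.ext e.apply_symm_apply, Subgroup.map_id]

theorem mcl_iso [Finite A] [Finite B] (e : A ≃* B) {R : Subgroup A} (hR : IsMinimalCentrallyLarge R) :
    IsMinimalCentrallyLarge (R.map e.toMonoidHom) := by
  refine ⟨(cl_iso e R).mpr hR.1, fun X hX hXc => ?_⟩
  rw [← map_map_symm e X] at hX hXc ⊢
  rw [hR.2 _ ((map_le_map_iff_of_injective e.injective).mp hX) ((cl_iso e _).mp hXc)]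

theorem map_mclJoin [Finite A] [Finite B] (e : A ≃* B) :
    (minimalCentrallyLargeJoin A).map e.toMonoidHom = minimalCentrallyLargeJoin B := by
  refine le_antisymm (map_le_iff_le_comap.mpr (sSup_le fun R hR => map_le_iff_le_comap.mp
    (le_sSup (mcl_iso e hR)))) (sSup_le fun R hR => ?_)
  rw [← map_map_symm e R]
  exact map_mono (le_sSup (mcl_iso e.symm hR))

variable {p : ℕ}

theorem maxOmega_congr [Finite A] [Finite B] (e : A ≃* B) :
    maxOmegaCenterOfMinimalCL p A = maxOmegaCenterOfMinimalCL p B := by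
  unfold maxOmegaCenterOfMinimalCL
  congr 1
  ext k
  constructor
  · rintro ⟨Q, hQ, rfl⟩
    exact ⟨_, mcl_iso e hQ, PushingUp.card_omegaOneCenter_map (f := e.toMonoidHom) e.injective Q⟩
  · rintro ⟨Q, hQ, rfl⟩
    exact ⟨_, mcl_iso e.symm hQ, PushingUp.card_omegaOneCenter_map (f := e.symm.toMonoidHom) e.symm.injective Q⟩

theorem map_frattiniJoin_le [Finite A] [Finite B] [Fact p.Prime] (hA : IsPGroup p A) (e : A ≃* B) :
    (frattiniOfMinimalCLJoin p A).map e.toMonoidHom ≤ frattiniOfMinimalCLJoin p B := by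
  refine map_le_iff_le_comap.mpr (iSup_le fun ⟨Q, hQ, hm⟩ => map_le_iff_le_comap.mp ?_)
  refine le_trans (PushingUp.phiSub_map (f := e.toMonoidHom) (hA.to_subgroup Q)).ge ?_
  exact le_iSup_of_le ⟨Q.map e.toMonoidHom, mcl_iso e hQ, by
    rw [PushingUp.card_omegaOneCenter_map (f := e.toMonoidHom) e.injective, hm, maxOmega_congr e]⟩ le_rfl

theorem map_frattiniJoin [Finite A] [Finite B] [Fact p.Prime] (hA : IsPGroup p A) (e : A ≃* B) :
    (frattiniOfMinimalCLJoin p A).map e.toMonoidHom = frattiniOfMinimalCLJoin p B := by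
  refine le_antisymm (map_frattiniJoin_le hA e) ?_
  have h := map_mono (f := e.toMonoidHom) (map_frattiniJoin_le (hA.of_equiv e) e.symm)
  rwa [map_map_symm] at h

theorem frattini_eq_Fr [Finite A] [Fact p.Prime] (hA : IsPGroup p A) : frattini A = Fr p (⊤ : Subgroup A) := by
  rw [PGroup.frattini_eq hA, Fr, commutator_def, powerClosure]
  congr 2
  ext x
  simp [eq_comm]

theorem map_frattini_eq_Fr [Finite A] [Fact p.Prime] (hA : IsPGroup p A) (H : Subgroup A) :
    (frattini ↥H).map H.subtype = Fr p H := by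
  rw [frattini_eq_Fr (hA.to_subgroup H), map_Fr, map_top]

end Cfsg.Agent.PU2
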