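import Cfsg.Agent.Lib.PushingUp2.Universal
import Cfsg.Agent.Lib.PushingUp2.Iso
import Cfsg.Agent.S3008
import Cfsg.Agent.Lib.PGroup.Basic

/-!
# The pair `S₁, S₂`

* `Sol`: the properties asked of the pair
* `exists_sol_of_S0`, `exists_sol`, `exists_sol_elem`: outside the exceptional class
-/

set_option autoImplicit false
set_option linter.unusedSectionVars false

namespace Cfsg.Agent.PU2

open Subgroup
open PushingUp (Hyp normal_of_le_center)
open scoped commutatorElement Pointwise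

universe u

/-- `Z(J(S))`. -/
def zj (S : Type u) [Group S] : Subgroup S :=
  thompsonSubgroupA S ⊓ centralizer (thompsonSubgroupA S : Set S)

/-- `C_S(Z(J(S)))`. -/
def jt (S : Type u) [Group S] : Subgroup S := centralizer (zj S : Set S)

/-- The properties asked of the pair. -/
structure Sol (p : ℕ) (S : Type u) [Group S] (S₁ S₂ : Subgroup S) : Prop where
  ne₁ : S₁ ≠ ⊥
  ne₂ : S₂ ≠ ⊥
  char₁ : S₁.Characteristic
  char₂ : S₂.Characteristic
  le₁ : S₁ ≤ Subgroup.center S
  le₂ : S₂ ≤ jt S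
  charJ : (S₂.subgroupOf (jt S)).Characteristic
  normal : ∀ (G : Type u) [Group G] [Finite G] (τ : S →* G), Function.Injective τ → ∀ (P : Sylow p G),
    (P : Subgroup G) = τ.range → ∀ M : Subgroup G, Hyp p P M → (S₁.map τ).Normal ∨ (S₂.map τ).Normal

/-- The exceptional class. -/
def Exceptional (p : ℕ) (S : Type u) [Group S] : Prop :=
  ¬ IsMulCommutative S ∧ thompsonSubgroupA S = ⊤ ∧ IsElementaryAbelian p (Subgroup.center S) ∧
    IsElementaryAbelian p (frattini S) ∧ (p = 2 → frattini S ≤ Subgroup.center S) ∧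
    (p = 3 → frattini S ≤ Subgroup.upperCentralSeries S 2) ∧
    (3 < p → frattini S ≤ Subgroup.center S ∧ Monoid.exponent S = p) ∧
    (∀ A ∈ maxAbelianSubgroups S, ∀ B ∈ maxAbelianSubgroups S, ∀ Q : Subgroup S,
      Nat.card ↥A ^ 2 = Nat.card S * Nat.card ↥(Subgroup.center S) ∧
      Nat.card ↥Q * Nat.card ↥(Subgroup.center ↥Q) ≤ Nat.card S * Nat.card ↥(Subgroup.center S) ∧
      ((A ⊔ B : Subgroup S) : Set S) = (A : Set S) * (B : Set S) ∧
      A ⊔ B = centralizer ((A ⊓ B : Subgroup S) : Set S))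

variable {S : Type u} [Group S] [Finite S] {p : ℕ} [Fact p.Prime]

theorem char_inf {H K : Subgroup S} (hH : H.Characteristic) (hK : K.Characteristic) :
    (H ⊓ K).Characteristic :=
  characteristic_iff_map_eq.mpr fun φ => by
    rw [Subgroup.map_inf _ _ _ φ.injective, characteristic_iff_map_eq.mp hH φ,
      characteristic_iff_map_eq.mp hK φ]

theorem char_S0Of : (S0Of p (⊤ : Subgroup S)).Characteristic :=
  characteristic_iff_map_eq.mpr fun φ => by rw [map_S0Of, map_top_of_surjective _ φ.surjective]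

theorem char_powerClosure {H : Subgroup S} (hH : H.Characteristic) (n : ℕ) :
    (powerClosure p n H).Characteristic :=
  characteristic_iff_map_eq.mpr fun φ => by rw [PGroup.map_powerClosure, characteristic_iff_map_eq.mp hH φ]

theorem char_zj : (zj S).Characteristic :=
  have hJ : (thompsonSubgroupA S).Characteristic := PGroup.thompsonSubgroupA_characteristic
  char_inf hJ (Subgroup.characteristic_centralizer (hH := hJ))

theorem char_jt : (jt S).Characteristic := Subgroup.characteristic_centralizer (hH := char_zj)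

theorem center_ne_bot [Nontrivial S] (hS : IsPGroup p S) : Subgroup.center S ≠ ⊥ := by
  have := hS.center_nontrivial
  exact (Subgroup.nontrivial_iff_ne_bot _).mp this

theorem ne_bot_of_center_le [Nontrivial S] (hS : IsPGroup p S) {H : Subgroup S}
    (h : Subgroup.center S ≤ H) : H ≠ ⊥ := fun e => center_ne_bot hS (le_bot_iff.mp (e ▸ h))

theorem jt_eq_top (h : ⁅zj S, (⊤ : Subgroup S)⁆ = ⊥) : jt S = ⊤ :=
  top_le_iff.mp (le_centralizer_iff.mp (commutator_eq_bot_iff_le_centralizer.mp h))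

theorem charJ_of_top {T : Subgroup S} (hT : T.Characteristic) (hj : jt S = ⊤) :
    (T.subgroupOf (jt S)).Characteristic := by
  rw [hj]
  refine characteristic_iff_map_eq.mpr fun φ => ?_
  have h := characteristic_iff_map_eq.mp hT ((Subgroup.topEquiv.symm.trans φ).trans Subgroup.topEquiv)
  ext x
  rw [mem_subgroupOf]
  conv_rhs => rw [← h]
  constructor
  · rintro ⟨y, hy, rfl⟩
    exact ⟨(y : S), mem_subgroupOf.mp hy, rfl⟩
  · rintro ⟨y, hy, e⟩
    exact ⟨⟨y, mem_top y⟩, mem_subgroupOf.mpr hy, Subtype.ext e⟩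

section Transfer

variable {G : Type u} [Group G] [Finite G] (τ : S →* G) (hτ : Function.Injective τ) {P : Sylow p G}
  (eP : (P : Subgroup G) = τ.range)
include hτ eP

theorem map_center_eq :
    (Subgroup.center S).map τ = (P : Subgroup G) ⊓ centralizer ((P : Subgroup G) : Set G) := by
  rw [center_map τ hτ, eP]; rfl

theorem map_zj : (zj S).map τ = centerThompsonAOf (P : Subgroup G) := by
  rw [centerThompsonAOf, eP, thompsonAOf_range τ hτ, zj, Subgroup.map_inf _ _ _ hτ, cs_map τ hτ, cs,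
    ← inf_assoc, inf_eq_left.mpr ((map_mono le_top).trans (MonoidHom.range_eq_map τ).ge)]

theorem map_jt : (jt S).map τ = (P : Subgroup G) ⊓ centralizer (centerThompsonAOf (P : Subgroup G) : Set G) := by
  rw [jt, cs_map τ hτ, map_zj τ hτ eP, eP]; rfl

theorem le_centralizer_thompson (hj : jt S = ⊤) :
    (P : Subgroup G) ≤ centralizer (centerThompsonAOf (P : Subgroup G) : Set G) := by
  have := map_jt τ hτ eP
  rw [hj, ← MonoidHom.range_eq_map, ← eP] at this
  exact inf_eq_left.mp this.symm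

theorem exists_equiv : ∃ e : S ≃* ↥(P : Subgroup G), ∀ T : Subgroup S,
    (T.map e.toMonoidHom).map (P : Subgroup G).subtype = T.map τ := by
  refine ⟨(MonoidHom.ofInjective hτ).trans (MulEquiv.subgroupCongr eP.symm), fun T => ?_⟩
  rw [Subgroup.map_map]
  congr 1

/-- A subgroup of the centre is normal when `Z(S)` is. -/
theorem normal_of_center_normal {M : Subgroup G} (h : Hyp p P M)
    (hZn : ((P : Subgroup G) ⊓ centralizer ((P : Subgroup G) : Set G)).Normal) {T : Subgroup S}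
    (hT : T ≤ Subgroup.center S) : (T.map τ).Normal :=
  normal_of_le_center (((map_mono hT).trans (map_center_eq τ hτ eP).le).trans (h.center_of_normal hZn))

end Transfer

variable [Nontrivial S] (hS : IsPGroup p S)
include hS

theorem sol_commutator (h : ⁅zj S, (⊤ : Subgroup S)⁆ ≠ ⊥) :
    Sol p S (⁅zj S, (⊤ : Subgroup S)⁆ ⊓ Subgroup.center S) (jt S) where
  ne₁ :=
    have := char_zj (S := S)
    PGroup.inf_center_ne_bot hS _ h
  ne₂ := ne_bot_of_center_le hS (Subgroup.center_le_centralizer _)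
  char₁ := char_inf (characteristic_iff_map_eq.mpr fun φ => by
    rw [Subgroup.map_commutator, characteristic_iff_map_eq.mp char_zj φ,
      map_top_of_surjective _ φ.surjective]) inferInstance
  char₂ := char_jt
  le₁ := inf_le_right
  le₂ := le_rfl
  charJ := by rw [Subgroup.subgroupOf_self]; infer_instance
  normal G _ _ τ hτ P eP M hM := by
    rcases hM.commutator_case with hn | hn
    · left
      rwa [Subgroup.map_inf _ _ _ hτ, Subgroup.map_commutator, map_zj τ hτ eP, map_center_eq τ hτ eP,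
        ← MonoidHom.range_eq_map, ← eP]
    · exact Or.inr (by rwa [map_jt τ hτ eP])

theorem sol_power (hj : jt S = ⊤) (hZ : ¬ IsElementaryAbelian p (Subgroup.center S)) :
    Sol p S (powerClosure p 1 (Subgroup.center S)) ⊤ where
  ne₁ e := hZ ⟨inferInstance, fun a ha => mem_bot.mp (e ▸ by simpa using PGroup.pow_mem_powerClosure (p := p) ha 1)⟩
  ne₂ := top_ne_bot
  char₁ := char_powerClosure inferInstance 1
  char₂ := inferInstance
  le₁ := PGroup.powerClosure_le _ _
  le₂ := hj.ge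
  charJ := charJ_of_top inferInstance hj
  normal G _ _ τ hτ P eP M hM := by
    rcases hM.not_elementary_case with hn | hn
    · exact Or.inl (by rwa [PGroup.map_powerClosure, map_center_eq τ hτ eP])
    · exact Or.inr (by rwa [← hj, map_jt τ hτ eP])

theorem sol_mcl (hj : jt S = ⊤) {Q : Subgroup S} (hQ : IsMinimalCentrallyLarge Q) (hQQ : ⁅Q, Q⁆ ≠ ⊥) :
    Sol p S (Subgroup.center S ⊓ ⁅Q, Q⁆) (minimalCentrallyLargeJoin S) := by
  have hc := PushingUp.commutator_map_equiv hS hQ
  have hcl := CLarge.isCentrallyLarge_minimalCentrallyLargeJoin (G := S)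
  have hchar : (minimalCentrallyLargeJoin S).Characteristic := characteristic_iff_map_eq.mpr map_mclJoin
  refine ⟨?_, ne_bot_of_center_le hS ?_, char_inf inferInstance hc, hchar, inf_le_left, hj ▸ le_top,
    charJ_of_top hchar hj, fun G _ _ τ hτ P eP M hM => ?_⟩
  · rw [inf_comm]
    exact PGroup.inf_center_ne_bot hS _ hQQ
  · exact (Subgroup.center_le_centralizer _).trans (CLarge.isCentrallyLarge_iff.mp hcl).2
  · by_cases hZn : ((P : Subgroup G) ⊓ centralizer ((P : Subgroup G) : Set G)).Normal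
    · exact Or.inl (normal_of_center_normal τ hτ eP hM hZn inf_le_left)
    · obtain ⟨hA, hV⟩ := hM.act_of_not_normal hZn (le_centralizer_thompson τ hτ eP hj)
      obtain ⟨e, he⟩ := exists_equiv τ hτ eP
      rcases hM.minimalJoin_or hA hV (mcl_iso e hQ) with hn | hn
      · left
        rw [← Subgroup.map_commutator, he, Subgroup.map_commutator] at hn
        rwa [Subgroup.map_inf _ _ _ hτ, map_center_eq τ hτ eP, Subgroup.map_commutator]
      · right
        rwa [← map_mclJoin e, he] at hn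

theorem sol_frattini (hj : jt S = ⊤) (hne : frattiniOfMinimalCLJoin p S ≠ ⊥) :
    Sol p S (Subgroup.center S) (frattiniOfMinimalCLJoin p S) := by
  have hchar : (frattiniOfMinimalCLJoin p S).Characteristic := characteristic_iff_map_eq.mpr (map_frattiniJoin hS)
  refine ⟨center_ne_bot hS, hne, inferInstance, hchar, le_rfl, hj ▸ le_top, charJ_of_top hchar hj,
    fun G _ _ τ hτ P eP M hM => ?_⟩
  by_cases hZn : ((P : Subgroup G) ⊓ centralizer ((P : Subgroup G) : Set G)).Normal
  · exact Or.inl (normal_of_center_normal τ hτ eP hM hZn le_rfl)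
  · obtain ⟨hA, hV⟩ := hM.act_of_not_normal hZn (le_centralizer_thompson τ hτ eP hj)
    obtain ⟨e, he⟩ := exists_equiv τ hτ eP
    have := hM.frattiniJoin_normal hA hV
    rw [← map_frattiniJoin hS e, he] at this
    exact Or.inr this

theorem exists_elementary (hΦ : frattiniOfMinimalCLJoin p S = ⊥) :
    ∃ A ∈ maxAbelianSubgroups S, IsElementaryAbelian p A := by
  obtain ⟨R₀, hR₀⟩ := CLarge.exists_isCentrallyLarge (G := S)
  obtain ⟨R₁, -, hR₁⟩ := CLarge.exists_isMinimalCentrallyLarge_le hR₀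
  obtain ⟨R, hR, hmax⟩ := Set.exists_max_image {Q : Subgroup S | IsMinimalCentrallyLarge Q}
    (fun Q => Nat.card ↥(omegaOneCenter p Q)) (Set.toFinite _) ⟨R₁, hR₁⟩
  have hRm : Nat.card ↥(omegaOneCenter p R) = maxOmegaCenterOfMinimalCL p S :=
    le_antisymm (le_csSup ⟨Nat.card ↥(omegaOneCenter p R), fun k hk => by
        obtain ⟨Q, hQ, e⟩ := Set.mem_ofPred.mp hk
        exact e ▸ hmax Q hQ⟩ (Set.mem_ofPred.mpr ⟨R, hR, rfl⟩))
      (csSup_le ⟨_, Set.mem_ofPred.mpr ⟨R, hR, rfl⟩⟩ fun k hk => by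
        obtain ⟨Q, hQ, e⟩ := Set.mem_ofPred.mp hk
        exact e ▸ hmax Q hQ)
  have h0 : frattini ↥R = ⊥ := by
    refine (Subgroup.map_eq_bot_iff_of_injective _ R.subtype_injective).mp (le_bot_iff.mp ?_)
    exact le_trans (le_iSup_of_le (⟨R, hR, hRm⟩ : {Q : Subgroup S //
      IsMinimalCentrallyLarge Q ∧ Nat.card ↥(omegaOneCenter p Q) = maxOmegaCenterOfMinimalCL p S}) le_rfl) hΦ.le
  obtain ⟨hab, hexp⟩ := (PGroup.frattini_eq_bot_iff (hS.to_subgroup R)).mp h0
  exact ⟨R, ((S3007.result _ hS R R hR hR).2.2.2.2 hab R).mp hR, hab,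
    fun a ha => congrArg Subtype.val (hexp ⟨a, ha⟩)⟩

theorem residual_of (hj : jt S = ⊤) (hZ : IsElementaryAbelian p (Subgroup.center S)) {Q : Subgroup S}
    (hQ : IsMinimalCentrallyLarge Q) (hQQ : ⁅Q, Q⁆ = ⊥) : Residual p S := by
  have hab : IsMulCommutative ↥Q :=
    CLarge.isMulCommutative_iff_le_centralizer.mpr (commutator_eq_bot_iff_le_centralizer.mp hQQ)
  have hiff := (S3007.result S hS Q Q hQ hQ).2.2.2.2 hab
  have hJ : thompsonSubgroupA S = ⊤ :=
    ((S3008.result S hS).2.2.2 fun R hR => ((hiff R).mp hR).1).symm.trans hj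
  refine ⟨?_, fun A hA => ((hiff A).mpr hA).1, hJ, hZ⟩
  have := CLarge.isCentrallyLarge_sup_thompsonSubgroupA hQ.1
  rwa [hJ, sup_top_eq] at this

theorem exists_sol_residual (hR : Residual p S) (hj : jt S = ⊤) (h0 : S0Of p (⊤ : Subgroup S) ≠ ⊥) :
    ∃ S₁ S₂, Sol p S S₁ S₂ ∧ maxCentralProduct ↥S₂ = maxCentralProduct S := by
  obtain ⟨S₂, hchar, hcl, hle, hn⟩ := exists_universal hR
  refine ⟨_, S₂, ⟨?_, ne_bot_of_center_le hS hle, char_inf inferInstance (char_S0Of (p := p)), hchar, inf_le_left,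
    hj ▸ le_top, charJ_of_top hchar hj, fun G _ _ τ hτ P eP M hM => ?_⟩, mcp_of_large hcl⟩
  · have := char_S0Of (p := p) (S := S)
    rw [inf_comm]
    exact PGroup.inf_center_ne_bot hS _ h0
  · exact or_iff_not_imp_left.mpr fun hm =>
      hn { G := G, τ := τ, inj := hτ, P := P, eP := eP, M := M, hyp := hM, moved := hm }

theorem exceptional_of (hR : Residual p S) (hnab : ¬ IsMulCommutative S)
    (h0 : S0Of p (⊤ : Subgroup S) = ⊥) : Exceptional p S := by
  have hΦ : frattini S = Fr p (⊤ : Subgroup S) := frattini_eq_Fr hS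
  have hZ2 : ∀ {H : Subgroup S}, ⁅H, (⊤ : Subgroup S)⁆ = ⊥ → H ≤ Subgroup.center S := fun {H} h => by
    have := commutator_eq_bot_iff_le_centralizer.mp h
    rwa [coe_top, centralizer_univ] at this
  have hFF : ∀ {H : Subgroup S}, Fr p H = ⊥ → IsElementaryAbelian p H := fun {H} h => by
    obtain ⟨h1, h2⟩ := Fr_le_iff.mp h.le
    exact ⟨PGroup.isMulCommutative_of_forall fun a ha b hb =>
      commutatorElement_eq_one_iff_mul_comm.mp (mem_bot.mp (h1 a ha b hb)), fun a ha => mem_bot.mp (h2 a ha)⟩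
  rw [S0Of] at h0
  have hp := (Fact.out : p.Prime)
  refine ⟨hnab, hR.join, hR.elem, ?_, fun h2 => ?_, fun h3 => ?_, fun h3 => ?_, fun A hA B hB Q => ?_⟩
  · rw [hΦ]
    split_ifs at h0 with h2 h3
    · exact hFF (sup_eq_bot_iff.mp h0).2
    · exact hFF (sup_eq_bot_iff.mp h0).2
    · exact PGroup.isElementaryAbelian_mono hR.elem (hZ2 (sup_eq_bot_iff.mp h0).1)
  · rw [if_pos h2] at h0
    exact hΦ ▸ hZ2 (sup_eq_bot_iff.mp h0).1
  · rw [if_neg (by omega), if_pos h3] at h0
    intro x hx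
    rw [Subgroup.mem_upperCentralSeries_succ_iff]
    intro y
    rw [Subgroup.upperCentralSeries_one]
    exact hZ2 (sup_eq_bot_iff.mp h0).1 (commutator_mem_commutator (hΦ ▸ hx) (mem_top y))
  · rw [if_neg (by omega), if_neg (by omega)] at h0
    refine ⟨hΦ ▸ hZ2 (sup_eq_bot_iff.mp h0).1, ?_⟩
    have hexp : Monoid.exponent S ∣ p := Monoid.exponent_dvd_of_forall_pow_eq_one fun x => by
      have := (sup_eq_bot_iff.mp h0).2.le (PGroup.pow_mem_powerClosure (p := p) (mem_top x) 1)
      simpa using this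
    refine ((Nat.dvd_prime hp).mp hexp).resolve_left fun h1 => ?_
    obtain ⟨a, b, hab⟩ := exists_pair_ne S
    have := Monoid.exp_eq_one_iff.mp h1
    exact hab (Subsingleton.elim a b)
  · obtain ⟨hAm, -⟩ := CLarge.isCentrallyLarge_iff.mp (hR.maxCL A hA)
    obtain ⟨hBm, -⟩ := CLarge.isCentrallyLarge_iff.mp (hR.maxCL B hB)
    have eA := CLarge.centralizer_eq_of_mem_maxAbelian hA
    have eB := CLarge.centralizer_eq_of_mem_maxAbelian hB
    have htop : maxCentralProduct S = Nat.card S * Nat.card ↥(Subgroup.center S) := by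
      rw [CLarge.maxCentralProduct_eq, ← (CLarge.isCentrallyLarge_iff.mp hR.large).1, Subgroup.card_top,
        coe_top, centralizer_univ]
    obtain ⟨hmul, -, -, -, -, hcent⟩ := CLarge.chermakDelgado hAm hBm
    refine ⟨?_, htop ▸ CLarge.le_maxCentralProduct Q, hmul, ?_⟩
    · rw [← htop, CLarge.maxCentralProduct_eq, ← hAm, eA, sq]
    · rw [hcent, eA, eB]

theorem sol_abelian (hab : IsMulCommutative S) : Sol p S ⊤ ⊤ ∧ jt S = ⊤ := by
  have hc : Subgroup.center S = ⊤ := top_le_iff.mp fun x _ =>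
    Subgroup.mem_center_iff.mpr fun y => hab.is_comm.comm y x
  have hj : jt S = ⊤ := top_le_iff.mp (hc ▸ Subgroup.center_le_centralizer _)
  refine ⟨⟨top_ne_bot, top_ne_bot, inferInstance, inferInstance, hc.ge, hj.ge,
    charJ_of_top inferInstance hj, fun G _ _ τ hτ P eP M hM => absurd ?_ hM.not_le⟩, hj⟩
  intro x hx
  refine hM.cent fun q hq => ?_
  obtain ⟨a, rfl⟩ := eP.le hx
  obtain ⟨b, rfl⟩ := eP.le (PCore.pCore_le_sylow P hq)
  rw [← map_mul, ← map_mul, hab.is_comm.comm b a]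

/-- Outside the exceptional class, with a centrally large second member. -/
theorem exists_sol_or : (∃ S₁ S₂, Sol p S S₁ S₂ ∧
      maxCentralProduct ↥S₂ = maxCentralProduct ↥(jt S)) ∨
    (jt S = ⊤ ∧ Exceptional p S ∧ S0Of p (⊤ : Subgroup S) = ⊥) := by
  by_cases h1 : ⁅zj S, (⊤ : Subgroup S)⁆ = ⊥
  swap
  · exact Or.inl ⟨_, _, sol_commutator hS h1, rfl⟩
  have hj := jt_eq_top h1
  have hmcp : maxCentralProduct ↥(jt S) = maxCentralProduct S := by
    rw [hj]; exact mcp_congr Subgroup.topEquiv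
  by_cases h2 : IsElementaryAbelian p (Subgroup.center S)
  swap
  · exact Or.inl ⟨_, _, sol_power hS hj h2, by rw [hj]⟩
  obtain ⟨Q₀, hQ₀⟩ := CLarge.exists_isCentrallyLarge (G := S)
  obtain ⟨Q, -, hQ⟩ := CLarge.exists_isMinimalCentrallyLarge_le hQ₀
  by_cases h3 : ⁅Q, Q⁆ = ⊥
  swap
  · exact Or.inl ⟨_, _, sol_mcl hS hj hQ h3,
      by rw [hmcp, mcp_of_large CLarge.isCentrallyLarge_minimalCentrallyLargeJoin]⟩
  have hR := residual_of hS hj h2 hQ h3
  by_cases h4 : S0Of p (⊤ : Subgroup S) = ⊥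
  swap
  · obtain ⟨S₁, S₂, hsol, e⟩ := exists_sol_residual hS hR hj h4
    exact Or.inl ⟨S₁, S₂, hsol, e.trans hmcp.symm⟩
  by_cases h5 : IsMulCommutative S
  · exact Or.inl ⟨⊤, ⊤, (sol_abelian hS h5).1, by rw [hj]⟩
  exact Or.inr ⟨hj, exceptional_of hS hR h5 h4, h4⟩

theorem exists_sol (hexc : ¬ Exceptional p S) :
    ∃ S₁ S₂, Sol p S S₁ S₂ ∧ maxCentralProduct ↥S₂ = maxCentralProduct ↥(jt S) :=
  (exists_sol_or hS).resolve_right fun h => hexc h.2.1

theorem exists_sol_elem
    (hexc : ¬ (Exceptional p S ∧ ∃ A ∈ maxAbelianSubgroups S, IsElementaryAbelian p A)) :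
    ∃ S₁ S₂, Sol p S S₁ S₂ := by
  rcases exists_sol_or hS with ⟨S₁, S₂, h, -⟩ | ⟨hj, he, -⟩
  · exact ⟨S₁, S₂, h⟩
  · exact ⟨_, _, sol_frattini hS hj fun h => hexc ⟨he, exists_elementary hS h⟩⟩

theorem exists_sol_of_S0 (h : ⁅zj S, (⊤ : Subgroup S)⁆ ≠ ⊥ ∨ S0Of p (⊤ : Subgroup S) ≠ ⊥) :
    ∃ S₁ S₂, Sol p S S₁ S₂ := by
  rcases exists_sol_or hS with ⟨S₁, S₂, hs, -⟩ | ⟨hj, -, h0⟩
  · exact ⟨S₁, S₂, hs⟩
  · refine (h.resolve_right (not_not.mpr h0) ?_).elim
    rw [commutator_eq_bot_iff_le_centralizer, le_centralizer_iff]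
    exact hj.ge

end Cfsg.Agent.PU2
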