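import Cfsg.Agent.Lib.PushingUp2.OutShort

/-!
# Failures happen at distance at most one

* `Alt`: a long path with two alternating types all of whose windows fail
* `Alt.le_one`: `m ≤ 1`
-/

set_option autoImplicit false
set_option linter.unusedSectionVars false

namespace Cfsg.Agent.PU2

open Subgroup
open PushingUp (Cfg Base card_cj cj_inf cj_centralizer cj_normalizer cj_sup cj_le_cj cj_one mem_cj_conj
  cj_eq_self_of_mem_normalizer le_centralizer_cj_iff)
open FFPair (cj mem_cj cj_cj)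
open scoped commutatorElement

universe u v

variable {Γ : Type u} [Group Γ] [Finite Γ] {p : ℕ} [Fact p.Prime] {ι : Type v} {C : ι → Cfg Γ}
  {Sg : Subgroup Γ}

/-- An alternating path whose windows fail. -/
structure Alt (C : ι → Cfg Γ) (m L : ℕ) (t : ℕ → ι) (e : ℕ → Γ) : Prop where
  step : ∀ l < L, (e l)⁻¹ * e (l + 1) ∈ gens C (t (l + 1))
  per : ∀ l, l + 2 ≤ L → t l = t (l + 2)
  window : ∀ i, i + m ≤ L → Crit C m (fun l => t (i + l)) (fun l => e (i + l))

theorem exists_alt (F : Fam p Sg C) (hsrc : ∀ i, HasSource p (C i)) {m : ℕ} (hg : Good C m) (hm : 0 < m)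
    {t₀ : ℕ → ι} {e₀ : ℕ → Γ} (hc : Crit C m t₀ e₀) (L : ℕ) : ∃ t e, Alt C m L t e := by
  have key : ∀ j, ∃ (t : ℕ → ι) (e : ℕ → Γ), (∀ l < j, t l = t (l + 2)) ∧
      (∀ l < j + m, (e l)⁻¹ * e (l + 1) ∈ gens C (t (l + 1))) ∧
      ∀ i ≤ j, Crit C m (fun l => t (i + l)) (fun l => e (i + l)) := by
    intro j
    induction j with
    | zero =>
      refine ⟨t₀, e₀, fun l hl => absurd hl (by omega), fun l hl => hc.step l (by omega), fun i hi => ?_⟩
      obtain rfl : i = 0 := by omega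
      simpa using hc
    | succ j ih =>
      obtain ⟨t, e, hp', hs, hw⟩ := ih
      have hc0 : Crit C m t e := by simpa using hw 0 (Nat.zero_le _)
      obtain ⟨g, hgG, hgm⟩ := (F.base (t 0)).moving
      have hc' := Crit.shift F hg hc0 hm (Crit.out F hg hc0 hsrc hm) (g := g) ⟨hgG, hgm⟩
      refine ⟨fun l => match l with | 0 => t 1 | l + 1 => t l,
        fun l => match l with | 0 => e 0 * g⁻¹ | l + 1 => e l, fun l hl => ?_, fun l hl => ?_, fun i hi => ?_⟩
      · cases l with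
        | zero => rfl
        | succ l => exact hp' l (by omega)
      · cases l with
        | zero => exact hc'.step 0 hm
        | succ l => exact hs l (by omega)
      · cases i with
        | zero =>
          convert hc' using 1 <;> funext l <;> cases l <;> simp [Nat.zero_add]
        | succ i =>
          convert hw i (by omega) using 1 <;> funext l
          · show (match i + 1 + l with | 0 => t 1 | l + 1 => t l) = t (i + l)
            rw [show i + 1 + l = i + l + 1 by omega]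
          · show (match i + 1 + l with | 0 => e 0 * g⁻¹ | l + 1 => e l) = e (i + l)
            rw [show i + 1 + l = i + l + 1 by omega]
  obtain ⟨t, e, hp', hs, hw⟩ := key L
  exact ⟨t, e, fun l hl => hs l (by omega), fun l hl => hp' l (by omega), fun i hi => hw i (by omega)⟩

theorem eq_sup_inter {R A B E : Subgroup Γ} (hRB : R ≤ B) (hBE : B ≤ E) (hE : E ≤ R ⊔ A)
    (hRn : R ≤ normalizer (A : Set Γ)) : B = R ⊔ (A ⊓ B) := by
  refine le_antisymm (fun z hz => ?_) (sup_le hRB inf_le_right)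
  obtain ⟨r, hr, a, ha', rfl⟩ := (Coprime.mem_sup_iff_of_le_normalizer hRn).mp (hE (hBE hz))
  refine mul_mem (mem_sup_left hr) (mem_sup_right ⟨ha', ?_⟩)
  have := mul_mem (inv_mem (hRB hr)) hz
  rwa [inv_mul_cancel_left] at this

namespace Alt

variable {m L : ℕ} {t : ℕ → ι} {e : ℕ → Γ} (F : Fam p Sg C) (hg : Good C m) (ha : Alt C m L t e)
include F hg ha

local notation:max "U " l:max => cj (e l) (Cfg.V (C (t l)))
local notation:max "K " l:max => cj (e l) (cs Sg Sg)
local notation:max "Zv " l:max => cj (e l) (Cfg.Z (C (t l)))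

theorem conj_prev {l : ℕ} (hl : l < L) :
    cj (e l) (C (t (l + 1))).V = cj (e (l + 1)) (C (t (l + 1))).V ∧
      cj (e l) (C (t (l + 1))).Q = cj (e (l + 1)) (C (t (l + 1))).Q ∧
      cj (e l) (C (t (l + 1))).Z = cj (e (l + 1)) (C (t (l + 1))).Z := by
  have hs := ha.step l hl
  have h := F.base (t (l + 1))
  have e1 : e (l + 1) = e l * ((e l)⁻¹ * e (l + 1)) := by group
  refine ⟨?_, ?_, ?_⟩ <;> conv_rhs => rw [e1, ← cj_cj]
  · rw [h.conj_V hs.1]
  · rw [h.conj_Q hs.1]
  · rw [h.conj_Z hs.1]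

theorem vertex {i : ℕ} (hi : i < L) :
    K i ⊔ K (i + 1) = U (i + 1) ∧ K i ⊓ K (i + 1) = Zv (i + 1) := by
  have hs := ha.step i hi
  obtain ⟨-, h2, h3⟩ := ((F.base (t (i + 1))).dich _ hs.1).resolve_left hs.2
  rw [F.Zs_eq] at h2 h3
  obtain ⟨eV, -, eZ⟩ := conj_prev F hg ha hi
  have e1 : cj (e (i + 1)) (cs Sg Sg) = cj (e i) (cj ((e i)⁻¹ * e (i + 1)) (cs Sg Sg)) := by
    rw [cj_cj, mul_inv_cancel_left]
  refine ⟨?_, ?_⟩
  · show cj (e i) _ ⊔ cj (e (i + 1)) _ = cj (e (i + 1)) _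
    rw [e1, ← cj_sup, h2, eV]
  · show cj (e i) _ ⊓ cj (e (i + 1)) _ = cj (e (i + 1)) _
    rw [e1, ← cj_inf, h3, eZ]

theorem dist {i d : ℕ} (hd : i + d ≤ L) : (e i)⁻¹ * e (i + d) ∈ ball C d := by
  induction d with
  | zero => rw [Nat.add_zero, inv_mul_cancel]; exact one_mem_ball
  | succ d ih =>
    rw [← Nat.add_assoc,
      show (e i)⁻¹ * e (i + d + 1) = (e i)⁻¹ * e (i + d) * ((e (i + d))⁻¹ * e (i + d + 1)) by group]
    exact ball_add (ih (by omega)) (gens_mem_ball (ha.step _ (by omega)))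

theorem inter_const {i : ℕ} (hi : i + 2 ≤ L) : Zv i ⊓ Zv (i + 1) = Zv (i + 1) ⊓ Zv (i + 2) := by
  set g := (e i)⁻¹ * e (i + 1) with hgdef
  have hgG : g ∈ (C (t (i + 1))).G := (ha.step i (by omega)).1
  set f := e i * g * (e i)⁻¹
  have h1 := (conj_prev F hg ha (l := i) (by omega)).2.2
  have hn : ∀ z ∈ Zv (i + 1), f * z * f⁻¹ = z := fun z hz => by
    have hb := (F.base (t (i + 1))).conj (e i)
    exact hb.Z_central (show z ∈ ((C (t (i + 1))).conj (e i)).Z from h1.ge hz) (mem_cj_conj hgG)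
  have h2 : Zv (i + 2) = cj f (Zv i) := by
    show cj (e (i + 2)) (C (t (i + 2))).Z = cj f (cj (e i) (C (t i)).Z)
    rw [← (conj_prev F hg ha (l := i + 1) (by omega)).2.2, ← ha.per i hi, cj_cj]
    congr 1
    simp only [f, hgdef]; group
  refine le_antisymm (fun z hz => ⟨hz.2, h2.ge ⟨z, hz.1, hn z hz.2⟩⟩) fun z hz => ⟨?_, hz.1⟩
  obtain ⟨y, hy, hyz⟩ := h2.le hz.2
  have : y = z := (MulAut.conj f).injective (hyz.trans (hn z hz.1).symm)
  exact this ▸ hy

theorem right_le {i : ℕ} (hi : i + m < L) : U (i + m + 1) ≤ cj (e i) Sg := by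
  show cj (e (i + m + 1)) _ ≤ _
  rw [← (conj_prev F hg ha (l := i + m) hi).1, ← mul_inv_cancel_left (e i) (e (i + m)), ← cj_cj, cj_le_cj]
  exact F.le_S hg le_rfl (dist F hg ha hi.le) _

theorem left_le {i : ℕ} (hi : i + m ≤ L) : U i ≤ cj (e (i + m)) Sg := by
  show cj (e i) _ ≤ _
  rw [← mul_inv_cancel_left (e (i + m)) (e i), ← cj_cj, cj_le_cj]
  refine F.le_S hg le_rfl ?_ _
  simpa using ball_inv (dist F hg ha hi)

theorem moves {i : ℕ} (hi : i + m < L) : ¬ U i ≤ centralizer (U (i + m + 1) : Set Γ) := by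
  have h := (ha.window i hi.le).moves
  simp only [Nat.add_zero, ← Nat.add_assoc] at h
  rw [(conj_prev F hg ha hi).1] at h
  exact h

theorem exists_right {i : ℕ} (hi : i + m < L) :
    ∃ a ∈ U (i + m + 1), a ∈ cj (e i) Sg ∧ a ∉ cj (e i) (C (t i)).Q := by
  by_contra hc
  push Not at hc
  exact moves F hg ha hi (le_centralizer_iff.mp fun a ha' =>
    ((F.base (t i)).conj (e i)).QV (hc a ha' (right_le F hg ha hi ha')))

theorem exists_left {i : ℕ} (hi : i + m < L) :
    ∃ a ∈ U i, a ∈ cj (e (i + m)) Sg ∧ a ∉ cj (e (i + m)) (C (t (i + m + 1))).Q := by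
  by_contra hc
  push Not at hc
  refine moves F hg ha hi fun a ha' => ?_
  have h := ((F.base (t (i + m + 1))).conj (e (i + m))).QV (hc a ha' (left_le F hg ha hi.le ha'))
  show a ∈ centralizer (cj (e (i + m + 1)) (C (t (i + m + 1))).V : Set Γ)
  rw [← (conj_prev F hg ha hi).1]
  exact h

/-- The commutator of the ends of a window. -/
theorem window_data {i : ℕ} (hi : i + m < L) :
    K i ≤ ⁅U (i + m + 1), U i⁆ ⊔ Zv i ∧ K (i + m) ≤ ⁅U (i + m + 1), U i⁆ ⊔ Zv (i + m + 1) ∧
    ⁅U (i + m + 1), U i⁆ ≤ K i ⊓ K (i + m) := by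
  have hb := (F.base (t i)).conj (e i)
  have hf := (F.base (t (i + m + 1))).conj (e (i + m))
  obtain ⟨eV, -, eZ⟩ := conj_prev F hg ha hi
  refine ⟨fun z hz => ?_, fun z hz => ?_, le_inf (commutator_le.mpr fun a ha' v hv => ?_)
    (commutator_le.mpr fun a ha' v hv => ?_)⟩
  · obtain ⟨a, ha', haS, haQ⟩ := exists_right F hg ha hi
    obtain ⟨v, hv, hvz⟩ := hb.comm_cover (by simpa [Cfg.conj, F.sylow] using haS) haQ
      (by simpa [Cfg.conj, F.Zs_eq] using hz : z ∈ ((C (t i)).conj (e i)).Zs)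
    have := mul_mem_sup (commutator_mem_commutator ha' hv) hvz
    rwa [commutatorElement_def, mul_inv_cancel_left] at this
  · obtain ⟨a, ha', haS, haQ⟩ := exists_left F hg ha hi
    obtain ⟨v, hv, hvz⟩ := hf.comm_cover (by simpa [Cfg.conj, F.sylow] using haS) haQ
      (by simpa [Cfg.conj, F.Zs_eq] using hz : z ∈ ((C (t (i + m + 1))).conj (e (i + m))).Zs)
    rw [commutator_comm]
    have := mul_mem_sup (commutator_mem_commutator ha' (eV.le hv)) (eZ.le hvz)
    rwa [commutatorElement_def, mul_inv_cancel_left] at this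
  · rw [commutatorElement_def]
    have := hb.quad a (by simpa [Cfg.conj, F.sylow] using right_le F hg ha hi ha') v hv
    simpa [Cfg.conj, F.Zs_eq] using this
  · rw [← commutatorElement_inv, commutatorElement_def]
    refine inv_mem ?_
    have := hf.quad v (by simpa [Cfg.conj, F.sylow] using left_le F hg ha hi.le hv) a (eV.ge ha')
    simpa [Cfg.conj, F.Zs_eq] using this

theorem K_le_U (l : ℕ) : K l ≤ U l := cj_le_cj.mpr (F.center_le_V _)

theorem le_Z_left (hm : 2 ≤ m) {i : ℕ} (hi : i + m + 1 < L) : ⁅U (i + m + 1), U i⁆ ≤ Zv (i + 1) := by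
  intro r hr
  have hR := (window_data F hg ha (i := i) (by omega)).2.2
  rw [← (vertex F hg ha (i := i) (by omega)).2]
  refine ⟨(hR hr).1, ?_⟩
  obtain ⟨a, ha', haS, haQ⟩ := exists_right F hg ha (i := i + 1) (by omega)
  have hrV : r ∈ U (i + 1) := (vertex F hg ha (i := i) (by omega)).1 ▸ mem_sup_left (hR hr).1
  have hcomm : a * r = r * a := by
    have h1 : U (i + m + 2) ≤ centralizer (U (i + m) : Set Γ) := by
      show cj (e (i + m + 1 + 1)) _ ≤ _
      rw [← (conj_prev F hg ha (l := i + m + 1) (by omega)).1]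
      exact hg.comm (show 1 < m from hm) (dist F hg ha (i := i + m) (d := 1) (by omega)) _ _
    have ha'' : a ∈ U (i + m + 2) := by rwa [show i + m + 2 = i + 1 + m + 1 by omega]
    exact (h1 ha'' r (K_le_U F hg ha (i + m) (hR hr).2)).symm
  have := ((F.base (t (i + 1))).conj (e (i + 1))).sharp a (by simpa [Cfg.conj, F.sylow] using haS) haQ r hrV
    (by rw [hcomm, mul_inv_cancel_right, mul_inv_cancel]; exact one_mem _)
  simpa [Cfg.conj, F.Zs_eq] using this

theorem le_Z_right (hm : 1 ≤ m) {i : ℕ} (hi : i + m + 1 < L) :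
    ⁅U (i + 1 + m + 1), U (i + 1)⁆ ≤ Zv (i + m + 1) := by
  intro r hr
  have hR := (window_data F hg ha (i := i + 1) (by omega)).2.2
  have hv := vertex F hg ha (i := i + m) (by omega)
  rw [← hv.2]
  have hr2 : r ∈ K (i + m + 1) := by
    rw [show i + m + 1 = i + 1 + m by omega]; exact (hR hr).2
  refine ⟨?_, hr2⟩
  obtain ⟨a, ha', haS, haQ⟩ := exists_left F hg ha (i := i) (by omega)
  have hcomm : a * r = r * a := by
    have h1 : U (i + 1) ≤ centralizer (U i : Set Γ) := by
      show cj (e (i + 1)) _ ≤ _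
      rw [← (conj_prev F hg ha (l := i) (by omega)).1]
      exact hg.comm (show 0 < m by omega) (dist F hg ha (i := i) (d := 0) (by omega)) _ _
    exact h1 (K_le_U F hg ha (i + 1) (hR hr).1) a ha'
  have := ((F.base (t (i + m + 1))).conj (e (i + m))).sharp a (by simpa [Cfg.conj, F.sylow] using haS) haQ r
    ((conj_prev F hg ha (l := i + m) (by omega)).1.ge (hv.1.le (mem_sup_right hr2)))
    (by rw [hcomm, mul_inv_cancel_right, mul_inv_cancel]; exact one_mem _)
  simpa [Cfg.conj, F.Zs_eq] using this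

theorem Z_periodic (hm : 2 ≤ m) {i : ℕ} (hi : i + m + 2 < L) : Zv (i + 2) = Zv (i + 1 + m) := by
  obtain ⟨hE, hE', hR⟩ := window_data F hg ha (i := i + 1) (by omega)
  have h1 := le_Z_left F hg ha hm (i := i + 1) (by omega)
  have h2 := le_Z_right F hg ha (by omega) (i := i) (by omega)
  set R := ⁅U (i + 1 + m + 1), U (i + 1)⁆
  rw [show i + m + 1 = i + 1 + m by omega] at h2
  have hZK : ∀ l, Zv l ≤ K l := fun l => by
    show cj (e l) _ ≤ cj (e l) _
    rw [cj_le_cj, ← F.Zs_eq (t l)]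
    exact (F.base (t l)).Z_le_Zs
  have hv1 := vertex F hg ha (i := i + 1) (by omega)
  have hv2 := vertex F hg ha (i := i + 1 + m) (by omega)
  have hUc : ∀ {l : ℕ} {A B : Subgroup Γ}, A ≤ U l → B ≤ U l → A ≤ normalizer (B : Set Γ) :=
    fun {l _ _} hA hB r hr => centralizer_le_normalizer _ fun z hz =>
      ((F.base (t l)).conj (e l)).V_comm (hB hz) (hA hr)
  have hA := eq_sup_inter h1 (hv1.2.ge.trans inf_le_left) hE
    (hUc (l := i + 1) (hR.trans (inf_le_left.trans (K_le_U F hg ha _)))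
      ((hZK _).trans (K_le_U F hg ha _)))
  have hB := eq_sup_inter h2 (hZK _) hE'
    (hUc (l := i + 1 + m + 1) (hR.trans (inf_le_right.trans (le_sup_left.trans hv2.1.le)))
      ((hZK _).trans (K_le_U F hg ha _)))
  have hK : ∀ l, i + 1 + l + 1 ≤ L → Zv (i + 1 + l) ⊓ Zv (i + 1 + l + 1) = Zv (i + 1) ⊓ Zv (i + 2) := by
    intro l
    induction l with
    | zero => intro _; rfl
    | succ l ih =>
      intro hl
      rw [← ih (by omega)]
      exact (inter_const F hg ha (i := i + 1 + l) (by omega)).symm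
  rw [show i + 1 + 1 = i + 2 by omega] at hA
  rw [hA, hB, inf_comm (Zv (i + 1 + m + 1)), ← hK m (by omega)]

theorem Zs_eq_sup (hm : 2 ≤ m) {i : ℕ} (hi : i + m + 1 < L) : K i = Zv i ⊔ Zv (i + 1) := by
  refine le_antisymm ?_ (sup_le ?_ ((vertex F hg ha (i := i) (by omega)).2.ge.trans inf_le_left))
  · refine (window_data F hg ha (i := i) (by omega)).1.trans (sup_le ?_ le_sup_left)
    exact (le_Z_left F hg ha hm hi).trans le_sup_right
  · show cj (e i) _ ≤ cj (e i) _
    rw [cj_le_cj, ← F.Zs_eq (t i)]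
    exact (F.base (t i)).Z_le_Zs

/-- Long alternating failures force `m ≤ 1`. -/
theorem le_one (hL : 2 * m + 6 ≤ L) : m ≤ 1 := by
  by_contra hc
  push Not at hc
  have hm : 2 ≤ m := hc
  have p1 := Z_periodic F hg ha (i := 0) hm (by omega)
  have p2 := Z_periodic F hg ha (i := 1) hm (by omega)
  have p3 := Z_periodic F hg ha (i := 2) hm (by omega)
  have s1 := Zs_eq_sup F hg ha (i := m + 1) hm (by omega)
  have s2 := Zs_eq_sup F hg ha (i := m + 2) hm (by omega)
  rw [show 0 + 1 + m = m + 1 by omega] at p1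
  rw [show 1 + 1 + m = m + 2 by omega] at p2
  rw [show 2 + 1 + m = m + 3 by omega] at p3
  simp only [Nat.zero_add, Nat.reduceAdd] at p1 p2 p3
  rw [show m + 1 + 1 = m + 2 by omega] at s1
  rw [show m + 2 + 1 = m + 3 by omega] at s2
  have t2 := Zs_eq_sup F hg ha (i := 2) hm (by omega)
  have t3 := Zs_eq_sup F hg ha (i := 3) hm (by omega)
  simp only [Nat.reduceAdd] at t2 t3
  have k1 : K (m + 1) = K 2 := by rw [s1, t2, p1, p2]
  have k2 : K (m + 2) = K 3 := by rw [s2, t3, p2, p3]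
  have hv := (vertex F hg ha (i := m + 1) (by omega)).1
  have hv3 := (vertex F hg ha (i := 2) (by omega)).1
  rw [show m + 1 + 1 = m + 2 by omega, k1, k2] at hv
  simp only [Nat.reduceAdd] at hv3
  have hV : U (m + 2) = U 3 := hv.symm.trans hv3
  refine moves F hg ha (i := 1) (by omega) ?_
  rw [show 1 + m + 1 = m + 2 by omega, hV, le_centralizer_iff]
  show cj (e (2 + 1)) _ ≤ _
  rw [← (conj_prev F hg ha (l := 2) (by omega)).1]
  exact hg.comm (show 1 < m from hm) (dist F hg ha (i := 1) (d := 1) (by omega)) _ _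

end Alt

/-- Failures happen at `m ≤ 1`. -/
theorem crit_le_one (F : Fam p Sg C) (hsrc : ∀ i, HasSource p (C i)) {m : ℕ} (hg : Good C m)
    {t : ℕ → ι} {e : ℕ → Γ} (hc : Crit C m t e) : m ≤ 1 := by
  by_contra h
  push Not at h
  obtain ⟨t', e', ha⟩ := exists_alt F hsrc hg (by omega) hc (2 * m + 6)
  exact absurd (Alt.le_one F hg ha le_rfl) (by omega)

end Cfsg.Agent.PU2
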