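import Cfsg.Agent.Lib.PushingUp2.TwoCase

/-!
# The subgroup generated by all translates

* `total`: generated by `Z(S)` and all translates of the modules
* when all translates commute it is abelian, in the lattice, inside every `Q`, normal in every group, minimal
-/

set_option autoImplicit false
set_option linter.unusedSectionVars false

namespace Cfsg.Agent.PU2

open Subgroup
open PushingUp (Cfg card_cj cj_sup cj_le_cj cj_one cj_eq_self_of_mem_normalizer le_centralizer_cj_iff)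
open FFPair (cj mem_cj cj_cj)

universe u v

variable {Γ : Type u} [Group Γ] [Finite Γ] {p : ℕ} [Fact p.Prime] {ι : Type v} {C : ι → Cfg Γ}
  {Sg : Subgroup Γ}

/-- `Z(S)` and all translates. -/
def total (C : ι → Cfg Γ) (Sg : Subgroup Γ) : Subgroup Γ :=
  cs Sg Sg ⊔ ⨆ (w : {w : Γ // ∃ k, w ∈ ball C k}) (b : ι), cj (w : Γ) (C b).V

theorem center_le_total : cs Sg Sg ≤ total C Sg := le_sup_left

theorem translate_le_total {k : ℕ} {w : Γ} (hw : w ∈ ball C k) (b : ι) : cj w (C b).V ≤ total C Sg :=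
  le_trans (le_iSup_of_le (⟨w, k, hw⟩ : {w : Γ // ∃ k, w ∈ ball C k}) (le_iSup (fun b => cj w (C b).V) b))
    le_sup_right

theorem V_le_total (b : ι) : (C b).V ≤ total C Sg :=
  (cj_one _).ge.trans (translate_le_total one_mem_ball b)

theorem total_le_iff {Y : Subgroup Γ} :
    total C Sg ≤ Y ↔ cs Sg Sg ≤ Y ∧ ∀ k, ∀ w ∈ ball C k, ∀ b, cj w (C b).V ≤ Y := by
  refine ⟨fun h => ⟨center_le_total.trans h, fun k w hw b => (translate_le_total hw b).trans h⟩,
    fun h => sup_le h.1 (iSup_le fun w => iSup_le fun b => ?_)⟩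
  obtain ⟨k, hk⟩ := w.2
  exact h.2 k w hk b

namespace Fam

variable (F : Fam p Sg C) (hall : ∀ k, Good C k)
include F hall

theorem translate_le_Q {k : ℕ} {w : Γ} (hw : w ∈ ball C k) (i b : ι) : cj w (C b).V ≤ (C i).Q :=
  F.le_Q (hall (k + 1)) (Nat.lt_succ_self k) hw i b

theorem total_le_Q (i : ι) : total C Sg ≤ (C i).Q :=
  total_le_iff.mpr ⟨(F.center_le_V i).trans (F.base i).VQ, fun _ _ hw b => F.translate_le_Q hall hw i b⟩

theorem total_le : total C Sg ≤ Sg :=
  total_le_iff.mpr ⟨cs_le, fun k _ hw b => F.le_S (hall k) le_rfl hw b⟩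

theorem total_comm : total C Sg ≤ centralizer (total C Sg : Set Γ) := by
  have hc : cs Sg Sg ≤ centralizer (total C Sg : Set Γ) :=
    cs_le_centralizer.trans (centralizer_le (SetLike.coe_subset_coe.mpr (F.total_le hall)))
  refine total_le_iff.mpr ⟨hc, fun k w hw b => ?_⟩
  rw [le_centralizer_iff]
  refine total_le_iff.mpr ⟨le_centralizer_iff.mp ?_, fun l w' hw' a => ?_⟩
  · exact le_centralizer_iff.mp (hc.trans (centralizer_le (SetLike.coe_subset_coe.mpr (translate_le_total hw b))))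
  · rw [← mul_inv_cancel_left w w', ← cj_cj, le_centralizer_cj_iff]
    exact hall (k + l + 1) (k + l) (Nat.lt_succ_self _) _ (ball_add (ball_inv hw) hw') b a

theorem gens_total {i : ι} {g : Γ} (hg : g ∈ gens C i) : cj g (total C Sg) = total C Sg := by
  refine eq_of_le_of_card_ge ?_ (card_cj g _).ge
  rw [total, cj_sup]
  refine sup_le ?_ (Subgroup.map_le_iff_le_comap.mpr (iSup_le fun w => iSup_le fun b =>
    Subgroup.map_le_iff_le_comap.mp ?_))
  · exact ((cj_le_cj.mpr (F.center_le_V i)).trans ((F.base i).conj_V hg.1).le).trans (V_le_total i)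
  · obtain ⟨k, hk⟩ := w.2
    show cj g (cj (w : Γ) (C b).V) ≤ _
    rw [cj_cj]
    exact translate_le_total (ball_add (gens_mem_ball hg) hk) b

theorem total_normal (i : ι) : (C i).G ≤ normalizer (total C Sg : Set Γ) := by
  intro g hg
  refine PGroup.mem_normalizer_of_map_conj_eq ?_
  show cj g (total C Sg) = _
  obtain ⟨g₀, hg₀, hm⟩ := (F.base i).moving
  by_cases hgm : cj g (C i).Zs = (C i).Zs
  · have h1 : g * g₀ ∈ gens C i := ⟨mul_mem hg hg₀, fun e => hm (by
      rw [← cj_cj] at e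
      exact PushingUp.cj_inj (e := g) (e.trans hgm.symm))⟩
    have h2 := F.gens_total hall h1
    rwa [← cj_cj, F.gens_total hall ⟨hg₀, hm⟩] at h2
  · exact F.gens_total hall ⟨hg, hgm⟩

theorem total_cd : CD Sg (total C Sg) := by
  obtain ⟨L, ⟨hL, hle⟩, hmax⟩ :=
    Set.Finite.exists_maximal (Set.toFinite {L : Subgroup Γ | CD Sg L ∧ L ≤ total C Sg})
      ⟨cs Sg Sg, PU2.center Sg, center_le_total⟩
  have hup : ∀ {X : Subgroup Γ}, CD Sg X → X ≤ total C Sg → X ≤ L := fun hX hXt =>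
    le_sup_right.trans (hmax ⟨hL.sup F.large hX, sup_le hle hXt⟩ le_sup_left)
  have hV : ∀ b, (C b).V ≤ L := fun b => hup (F.cd_V b) (V_le_total b)
  suffices h : total C Sg ≤ L from le_antisymm h hle ▸ hL
  refine total_le_iff.mpr ⟨center_le_of_cd F.large hL, ?_⟩
  intro k
  induction k with
  | zero => intro w hw b; rw [ball_zero hw, cj_one]; exact hV b
  | succ k ih =>
    rintro _ ⟨i, g, hg, w, hw, rfl⟩ b
    rw [← cj_cj]
    refine (cj_le_cj.mpr (ih w hw b)).trans (hup ?_ ((cj_le_cj.mpr hle).trans (F.gens_total hall hg).le))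
    have := Base.cd_cj (F.base i) hg.1 ((F.sylow i).symm ▸ hL) (hV i) (hle.trans (F.total_le_Q hall i))
    rwa [F.sylow i] at this

theorem total_minimal {Y : Subgroup Γ} (hZ : cs Sg Sg ≤ Y) (hV : ∀ b, (C b).V ≤ Y)
    (hY : ∀ i, ∀ g ∈ gens C i, ∀ x ∈ Y, x ∈ (C i).Q → g * x * g⁻¹ ∈ Y) : total C Sg ≤ Y := by
  refine total_le_iff.mpr ⟨hZ, ?_⟩
  intro k
  induction k with
  | zero => intro w hw b; rw [ball_zero hw, cj_one]; exact hV b
  | succ k ih =>
    rintro _ ⟨i, g, hg, w, hw, rfl⟩ b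
    rw [← cj_cj]
    rintro _ ⟨x, hx, rfl⟩
    exact hY i g hg x (ih w hw b hx) (F.translate_le_Q hall hw i b hx)

end Fam

end Cfsg.Agent.PU2
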