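import Cfsg.Agent.Lib.PushingUp2.Lattice

/-!
# A configuration whose Sylow subgroup is centrally large in itself

* `cd_V`, `cs_Q`, `cd_cj`: `V`, `Q` lie in the lattice and conjugation by `G` acts on the part above `V`
* `inf_V`, `sup_Q`: a self-centralising member outside `Q`
* `mem_Z`: an element of `Z(S)` staying in `Z(S)` under an element outside `Q` of a second Sylow subgroup is fixed
-/

set_option autoImplicit false

namespace Cfsg.Agent.PU2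

open Subgroup
open PushingUp (Cfg Base card_cj cj_inf cj_centralizer cj_sup cj_le_cj cj_one mem_cj_conj
  cj_eq_self_of_mem_normalizer)
open FFPair (cj mem_cj cj_cj)
open scoped commutatorElement

universe u

variable {Γ : Type u} [Group Γ] {p : ℕ} {S X : Subgroup Γ}

theorem cs_cj_mem {s : Γ} (hs : s ∈ S) (X : Subgroup Γ) : cs S (cj s X) = cj s (cs S X) := by
  rw [cs, cs, cj_inf, cj_centralizer, cj_eq_self_of_mem_normalizer (le_normalizer hs)]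

theorem CD.cj_mem {s : Γ} (hs : s ∈ S) (hX : CD S X) : CD S (cj s X) := by
  refine ⟨?_, ?_⟩
  · rw [← cj_eq_self_of_mem_normalizer (le_normalizer hs)]
    exact cj_le_cj.mpr hX.1
  · rw [cs_cj_mem hs, card_cj, card_cj]
    exact hX.2

theorem MaxAb.cj_mem {s : Γ} {A : Subgroup Γ} (hs : s ∈ S) (hA : MaxAb S A) : MaxAb S (cj s A) :=
  ⟨hA.1.cj_mem hs, by rw [cs_cj_mem hs, hA.2]⟩

namespace Base

variable {c : Cfg Γ} (h : Base p c)
include h

theorem cs_self : cs c.S c.S = c.Zs := h.Zs_eq.symm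

theorem cs_V : cs c.S c.V = c.Q := le_antisymm h.centV (le_inf h.QS h.QV)

theorem cd_V : CD c.S c.V :=
  ⟨h.VQ.trans h.QS, by rw [cs_V h, cs_self h]; exact h.cardV⟩

variable [Finite Γ] (hS : Large c.S)
include hS

theorem cd_Q : CD c.S c.Q := cs_V h ▸ (cd_V h).cs hS

theorem cs_Q : cs c.S c.Q = c.V := by
  rw [← cs_V h]
  exact (cd_V h).cs_cs hS

omit hS [Finite Γ] in
theorem cs_le_Q (hVX : c.V ≤ X) : cs c.S X ≤ c.Q := (cs_antitone hVX).trans (cs_V h).le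

omit hS [Finite Γ] in
theorem cs_eq (hVX : c.V ≤ X) : cs c.S X = c.Q ⊓ centralizer (X : Set Γ) :=
  le_antisymm (le_inf (cs_le_Q h hVX) inf_le_right) (inf_le_inf_right _ h.QS)

omit hS [Finite Γ] in
theorem cs_cj {g : Γ} (hg : g ∈ c.G) (hVX : c.V ≤ X) : cs c.S (cj g X) = cj g (cs c.S X) := by
  rw [cs_eq h hVX, cs_eq h (h.conj_V hg ▸ cj_le_cj.mpr hVX), cj_inf, cj_centralizer, h.conj_Q hg]

omit hS [Finite Γ] in
theorem cd_cj {g : Γ} (hg : g ∈ c.G) (hX : CD c.S X) (hVX : c.V ≤ X) (hXQ : X ≤ c.Q) :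
    CD c.S (cj g X) := by
  refine ⟨((cj_le_cj.mpr hXQ).trans (h.conj_Q hg).le).trans h.QS, ?_⟩
  rw [cs_cj h hg hVX, card_cj, card_cj]
  exact hX.2

omit hS [Finite Γ] in
/-- `C_S` of a subgroup above `V` normalised by `G` is normalised by `G`. -/
theorem normal_cs (hVX : c.V ≤ X) (hn : c.G ≤ normalizer (X : Set Γ)) :
    c.G ≤ normalizer (cs c.S X : Set Γ) := fun g hg =>
  PGroup.mem_normalizer_of_map_conj_eq (show cj g (cs c.S X) = cs c.S X by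
    rw [← cs_cj h hg hVX, cj_eq_self_of_mem_normalizer (hn hg)])

variable {A : Subgroup Γ} (hA : MaxAb c.S A)
include hA

theorem exists_not_mem (hAQ : ¬ A ≤ c.Q) : ∃ a ∈ A, a ∈ c.S ∧ a ∉ c.Q := by
  obtain ⟨a, ha, haQ⟩ := SetLike.not_le_iff_exists.mp hAQ
  exact ⟨a, ha, hA.le ha, haQ⟩

theorem inf_V (hAQ : ¬ A ≤ c.Q) : A ⊓ c.V = c.Zs := by
  obtain ⟨a, ha, haS, haQ⟩ := exists_not_mem h hS hA hAQ
  refine le_antisymm (fun v hv => ?_) (le_inf (cs_self h ▸ hA.center_le) h.ZsV)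
  refine h.sharp a haS haQ v hv.2 ?_
  rw [hA.mul_comm ha hv.1, mul_inv_cancel_right, mul_inv_cancel]
  exact one_mem _

theorem sup_Q (hAQ : ¬ A ≤ c.Q) : A ⊔ c.Q = c.S := by
  have h1 : cs c.S (A ⊔ c.Q) = cs c.S c.S := by
    rw [cs_sup, hA.2, cs_Q h hS, inf_V h hS hA hAQ, cs_self h]
  rw [← (hA.1.sup hS (cd_Q h hS)).cs_cs hS, h1, cs_center]

omit hS hA in
/-- An element of `Z(S)` which an element outside `Q` of another Sylow subgroup leaves in `Z(S)` is fixed. -/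
theorem mem_Z {g b v : Γ} (hg : g ∈ c.G) (hmov : cj g c.Zs ≠ c.Zs) (hb : b ∈ cj g c.S) (hbQ : b ∉ c.Q)
    (hv : v ∈ c.Zs) (hbv : b * v * b⁻¹ ∈ c.Zs) : v ∈ c.Z := by
  obtain ⟨-, -, h3⟩ := (h.dich g hg).resolve_left hmov
  have hv' : v ∈ (c.conj g).V := (h.conj_V hg).ge (h.ZsV hv)
  have h1 : b * v * b⁻¹ * v⁻¹ ∈ c.Z :=
    h3.le ⟨c.Zs.mul_mem hbv (c.Zs.inv_mem hv), (h.conj g).quad b hb v hv'⟩
  exact h3.le ⟨hv, (h.conj g).sharp b hb (fun hq => hbQ ((h.conj_Q hg).le hq)) v hv'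
    ((h.conj_Z hg).ge h1)⟩

/-- `G = A A^g Q`. -/
theorem gen (hAQ : ¬ A ≤ c.Q) {g : Γ} (hg : g ∈ c.G) (hmov : cj g c.Zs ≠ c.Zs) :
    c.G ≤ A ⊔ cj g A ⊔ c.Q := by
  rw [← ((h.dich g hg).resolve_left hmov).1]
  nth_rewrite 1 2 [← sup_Q h hS hA hAQ]
  rw [cj_sup, h.conj_Q hg]
  exact sup_le (sup_le (le_sup_left.trans le_sup_left) le_sup_right)
    (sup_le (le_sup_right.trans le_sup_left) le_sup_right)

end Base

end Cfsg.Agent.PU2
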