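import Cfsg.Agent.Lib.PushingUp2.PairingV

/-!
# Several configurations over one Sylow subgroup

`ball C k`: products of `k` moved elements of the groups.  `Good C m`: translates of the modules by such
products with fewer than `m` factors commute.  `Crit C m t e`: a failure at `m`, the types along it in `t`,
the translations in `e`.

* `le_Q`, `le_S`, `path_cd`, `exists_crit`, `Crit.cover`
-/

set_option autoImplicit false
set_option linter.unusedSectionVars false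

namespace Cfsg.Agent.PU2

open Subgroup
open PushingUp (Cfg Base card_cj cj_inf cj_centralizer cj_sup cj_le_cj cj_one mem_cj_conj
  cj_eq_self_of_mem_normalizer le_centralizer_cj_iff)
open FFPair (cj mem_cj cj_cj)
open scoped commutatorElement

universe u v

variable {Γ : Type u} [Group Γ] [Finite Γ] {p : ℕ} {ι : Type v}

/-- Hypotheses on the family. -/
structure Fam (p : ℕ) (Sg : Subgroup Γ) (C : ι → Cfg Γ) : Prop where
  base : ∀ i, Base p (C i)
  sylow : ∀ i, (C i).S = Sg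
  large : Large Sg
  genMax : Sg ≤ sSup {A | MaxAb Sg A}

/-- Moved elements. -/
def gens (C : ι → Cfg Γ) (i : ι) : Set Γ := {g | g ∈ (C i).G ∧ cj g (C i).Zs ≠ (C i).Zs}

/-- Products of `k` moved elements. -/
def ball (C : ι → Cfg Γ) : ℕ → Set Γ
  | 0 => {1}
  | k + 1 => {w | ∃ i, ∃ g ∈ gens C i, ∃ w' ∈ ball C k, w = g * w'}

/-- Translates by fewer than `m` factors commute. -/
def Good (C : ι → Cfg Γ) (m : ℕ) : Prop :=
  ∀ j < m, ∀ w ∈ ball C j, ∀ a b, cj w (C b).V ≤ centralizer ((C a).V : Set Γ)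

/-- A failure at `m`. -/
structure Crit (C : ι → Cfg Γ) (m : ℕ) (t : ℕ → ι) (e : ℕ → Γ) : Prop where
  step : ∀ l < m, (e l)⁻¹ * e (l + 1) ∈ gens C (t (l + 1))
  moves : ¬ cj (e 0) (C (t 0)).V ≤ centralizer (cj (e m) (C (t (m + 1))).V : Set Γ)

variable {C : ι → Cfg Γ}

theorem one_mem_ball : (1 : Γ) ∈ ball C 0 := rfl

theorem ball_zero {w : Γ} (hw : w ∈ ball C 0) : w = 1 := hw

theorem gens_mem_ball {i : ι} {g : Γ} (hg : g ∈ gens C i) : g ∈ ball C 1 :=
  ⟨i, g, hg, 1, rfl, (mul_one g).symm⟩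

theorem ball_add {i j : ℕ} {w w' : Γ} (hw : w ∈ ball C i) (hw' : w' ∈ ball C j) :
    w * w' ∈ ball C (i + j) := by
  induction i generalizing w with
  | zero => rw [ball_zero hw, one_mul, zero_add]; exact hw'
  | succ i ih =>
    obtain ⟨a, g, hg, v, hv, rfl⟩ := hw
    rw [show i + 1 + j = i + j + 1 by omega]
    exact ⟨a, g, hg, _, ih hv, mul_assoc _ _ _⟩

theorem gens_inv {i : ι} {g : Γ} (hg : g ∈ gens C i) : g⁻¹ ∈ gens C i :=
  ⟨inv_mem hg.1, fun e => hg.2 (by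
    conv_lhs => rw [← e]
    rw [cj_cj, mul_inv_cancel, cj_one])⟩

theorem ball_inv {k : ℕ} {w : Γ} (hw : w ∈ ball C k) : w⁻¹ ∈ ball C k := by
  induction k generalizing w with
  | zero => rw [ball_zero hw, inv_one]; rfl
  | succ k ih =>
    obtain ⟨a, g, hg, v, hv, rfl⟩ := hw
    rw [mul_inv_rev]
    exact ball_add (ih hv) (gens_mem_ball (gens_inv hg))

theorem Good.mono {m m' : ℕ} (h : Good C m) (hle : m' ≤ m) : Good C m' :=
  fun j hj => h j (lt_of_lt_of_le hj hle)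

theorem Good.comm {m j : ℕ} (h : Good C m) (hj : j < m) {x y : Γ} (hxy : x⁻¹ * y ∈ ball C j) (a b : ι) :
    cj y (C b).V ≤ centralizer (cj x (C a).V : Set Γ) := by
  rw [← mul_inv_cancel_left x y, ← cj_cj, le_centralizer_cj_iff]
  exact h j hj _ hxy a b

namespace Fam

variable {Sg : Subgroup Γ} (F : Fam p Sg C)
include F

theorem largeS (i : ι) : Large (C i).S := (F.sylow i).symm ▸ F.large

theorem Zs_eq (i : ι) : (C i).Zs = cs Sg Sg := by
  rw [← F.sylow i]; exact ((F.base i).Zs_eq)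

theorem VS (i : ι) : (C i).V ≤ Sg := F.sylow i ▸ (F.base i).VQ.trans (F.base i).QS

theorem QS (i : ι) : (C i).Q ≤ Sg := F.sylow i ▸ (F.base i).QS

theorem cd_V (i : ι) : CD Sg (C i).V := F.sylow i ▸ Base.cd_V (F.base i)

theorem cs_V (i : ι) : cs Sg (C i).V = (C i).Q := F.sylow i ▸ Base.cs_V (F.base i)

theorem le_Q_of {i : ι} {X : Subgroup Γ} (hX : X ≤ Sg) (hc : X ≤ centralizer ((C i).V : Set Γ)) :
    X ≤ (C i).Q := F.cs_V i ▸ le_inf hX hc

theorem cj_le_Q {i : ι} {g : Γ} (hg : g ∈ (C i).G) {X : Subgroup Γ} (hX : X ≤ (C i).Q) :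
    cj g X ≤ (C i).Q := (cj_le_cj.mpr hX).trans ((F.base i).conj_Q hg).le

theorem exists_max (i : ι) : ∃ A, MaxAb (C i).S A ∧ ¬ A ≤ (C i).Q := by
  by_contra hc
  push Not at hc
  refine (F.base i).ne ?_
  rw [F.sylow i] at hc ⊢
  exact F.genMax.trans (sSup_le hc)

theorem le_S_aux {m : ℕ} (hg : Good C m) : ∀ {j : ℕ}, j ≤ m → ∀ {w : Γ}, w ∈ ball C j → ∀ b,
    cj w (C b).V ≤ Sg ∧ ∀ i, cj w (C b).V ≤ centralizer ((C i).V : Set Γ) → cj w (C b).V ≤ (C i).Q := by
  intro j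
  induction j with
  | zero =>
    intro _ w hw b
    rw [ball_zero hw, cj_one]
    exact ⟨F.VS b, fun i hc => F.le_Q_of (F.VS b) hc⟩
  | succ j ih =>
    intro hj w hw b
    obtain ⟨a, g, hga, v, hv, rfl⟩ := hw
    have h1 := (ih (by omega) hv b).2 a (hg j (by omega) v hv a b)
    have hS : cj (g * v) (C b).V ≤ Sg := by
      rw [← cj_cj]
      exact (F.cj_le_Q hga.1 h1).trans (F.QS a)
    exact ⟨hS, fun i hc => F.le_Q_of hS hc⟩

theorem le_S {m : ℕ} (hg : Good C m) {j : ℕ} (hj : j ≤ m) {w : Γ} (hw : w ∈ ball C j) (b : ι) :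
    cj w (C b).V ≤ Sg := (F.le_S_aux hg hj hw b).1

theorem le_Q {m : ℕ} (hg : Good C m) {j : ℕ} (hj : j < m) {w : Γ} (hw : w ∈ ball C j) (i b : ι) :
    cj w (C b).V ≤ (C i).Q := (F.le_S_aux hg hj.le hw b).2 i (hg j hj w hw i b)

theorem V_le_Q {m : ℕ} (hg : Good C m) (hm : 0 < m) (i b : ι) : (C b).V ≤ (C i).Q := by
  simpa [cj_one] using F.le_Q hg hm one_mem_ball i b

theorem V_comm {m : ℕ} (hg : Good C m) (hm : 0 < m) (i b : ι) :
    (C b).V ≤ centralizer ((C i).V : Set Γ) := by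
  simpa [cj_one] using hg 0 hm 1 one_mem_ball i b

theorem abelian_V (i : ι) : (C i).V ≤ centralizer ((C i).V : Set Γ) :=
  fun _ hv _ hw => (F.base i).V_comm hw hv

/-- An abelian member of the lattice around a translate. -/
theorem path_cd {m : ℕ} (hg : Good C m) : ∀ {k : ℕ}, k < m → ∀ {w : Γ}, w ∈ ball C k → ∀ b,
    ∃ K, CD Sg K ∧ K ≤ centralizer (K : Set Γ) ∧ cj w (C b).V ≤ K ∧
      ∀ j, j + k < m → ∀ v ∈ ball C j, ∀ a, cj v K ≤ centralizer ((C a).V : Set Γ) := by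
  intro k
  induction k with
  | zero =>
    intro _ w hw b
    refine ⟨(C b).V, F.cd_V b, F.abelian_V b, ?_, fun j hj v hv a => hg j (by omega) v hv a b⟩
    rw [ball_zero hw, cj_one]
  | succ k ih =>
    intro hk w hw b
    obtain ⟨i, g, hgi, v, hv, rfl⟩ := hw
    obtain ⟨K, hK, hKK, hVK, hKc⟩ := ih (by omega) hv b
    have hKi : K ≤ centralizer ((C i).V : Set Γ) := by
      simpa [cj_one] using hKc 0 (by omega) 1 one_mem_ball i
    have hle : K ⊔ (C i).V ≤ (C i).Q := sup_le (F.le_Q_of hK.1 hKi) (F.base i).VQ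
    refine ⟨cj g (K ⊔ (C i).V), ?_, ?_, ?_, fun j hj u hu a => ?_⟩
    · have := Base.cd_cj (F.base i) hgi.1 ((F.sylow i).symm ▸ hK.sup F.large (F.cd_V i)) le_sup_right hle
      rwa [F.sylow i] at this
    · rw [le_centralizer_cj_iff, CLarge.centralizer_sup]
      exact le_inf (sup_le hKK (le_centralizer_iff.mp hKi)) (sup_le hKi (F.abelian_V i))
    · rw [← cj_cj]
      exact cj_le_cj.mpr (hVK.trans le_sup_left)
    · rw [cj_cj, cj_sup]
      have hug := ball_add hu (gens_mem_ball hgi)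
      exact sup_le (hKc (j + 1) (by omega) _ hug a) (hg (j + 1) (by omega) _ hug a i)

end Fam

theorem exists_path (C : ι → Cfg Γ) (a b : ι) : ∀ {k : ℕ} {w : Γ}, w ∈ ball C k →
    ∃ (t : ℕ → ι) (e : ℕ → Γ), t 0 = a ∧ t (k + 1) = b ∧ e 0 = 1 ∧ e k = w ∧
      ∀ l < k, (e l)⁻¹ * e (l + 1) ∈ gens C (t (l + 1)) := by
  intro k
  induction k generalizing a with
  | zero =>
    intro w hw
    exact ⟨fun l => if l = 0 then a else b, fun _ => 1, by simp, by simp, rfl, (ball_zero hw).symm,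
      fun l hl => absurd hl (by omega)⟩
  | succ k ih =>
    rintro w ⟨i, g, hg, v, hv, rfl⟩
    obtain ⟨t, e, ht0, htk, he0, hek, hs⟩ := ih i hv
    refine ⟨fun l => match l with | 0 => a | l + 1 => t l, fun l => match l with | 0 => 1 | l + 1 => g * e l,
      rfl, htk, rfl, by simp [hek], fun l hl => ?_⟩
    cases l with
    | zero =>
      show (1 : Γ)⁻¹ * (g * e 0) ∈ gens C (t 0)
      rwa [he0, ht0, inv_one, one_mul, mul_one]
    | succ l =>
      show (g * e l)⁻¹ * (g * e (l + 1)) ∈ gens C (t (l + 1))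
      rw [show (g * e l)⁻¹ * (g * e (l + 1)) = (e l)⁻¹ * e (l + 1) by group]
      exact hs l (by omega)

theorem exists_crit (h : ∃ k, ¬ Good C k) : ∃ m t e, Good C m ∧ Crit C m t e := by
  classical
  obtain ⟨k, hk, hmin⟩ := (⟨Nat.find h, Nat.find_spec h, fun j hj => not_not.mp (Nat.find_min h hj)⟩ :
    ∃ k, ¬ Good C k ∧ ∀ j < k, Good C j)
  obtain ⟨m, rfl⟩ : ∃ m, k = m + 1 :=
    ⟨k - 1, (Nat.succ_pred_eq_of_ne_zero fun e => hk (fun j hj => absurd hj (by omega))).symm⟩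
  have hm := hmin m (by omega)
  rw [Good] at hk
  push Not at hk
  obtain ⟨j, hj, w, hw, a, b, hne⟩ := hk
  obtain rfl : j = m := by
    by_contra hjm
    exact hne (hm j (by omega) w hw a b)
  obtain ⟨t, e, ht0, htb, he0, hek, hs⟩ := exists_path C a b hw
  refine ⟨j, t, e, hm, hs, fun hc => hne ?_⟩
  rw [he0, cj_one, ht0, hek, htb, le_centralizer_iff] at hc
  exact hc

/-- A translate in `S` moving the module covers `S / Q`, and the modules have the same order. -/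
theorem cover_two {c d : Cfg Γ} (hc : Base p c) (hd : Base p d) (eS : Nat.card ↥c.S = Nat.card ↥d.S)
    (eZ : Nat.card ↥c.Zs = Nat.card ↥d.Zs) (hle : d.V ≤ c.S) (hle' : c.V ≤ d.S)
    (hne : ¬ c.V ≤ centralizer (d.V : Set Γ)) :
    d.V ⊔ c.Q = c.S ∧ d.V ⊓ c.Q = d.Zs ∧ c.V ⊔ d.Q = d.S := by
  have key : ∀ {c d : Cfg Γ}, Base p c → Base p d → d.V ≤ c.S → c.V ≤ d.S →
      ¬ c.V ≤ centralizer (d.V : Set Γ) →
      d.V ≤ normalizer (c.Q : Set Γ) ∧ d.V ⊓ c.Q = d.Zs := by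
    intro c d hc hd hle hle' hne
    refine ⟨hle.trans (hc.SG.trans hc.GQ), le_antisymm (fun x hx => ?_) fun x hx => ?_⟩
    · obtain ⟨v, hv, hvne⟩ : ∃ v ∈ c.V, v ∉ d.Q := by
        by_contra hcon
        push Not at hcon
        exact hne fun v hv => hd.QV (hcon v hv)
      refine hd.sharp v (hle' hv) hvne x hx.1 ?_
      rw [← hc.QV hx.2 v hv |>.symm, mul_inv_cancel_right, mul_inv_cancel]
      exact one_mem _
    · exact ⟨hd.ZsV hx, hc.centV ⟨hle (hd.ZsV hx), fun v hv =>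
        ((hd.Zs_eq ▸ hx : x ∈ d.S ⊓ centralizer (d.S : Set Γ))).2 v (hle' hv)⟩⟩
  have hne' : ¬ d.V ≤ centralizer (c.V : Set Γ) := fun h => hne (le_centralizer_iff.mp h)
  obtain ⟨n1, i1⟩ := key hc hd hle hle' hne
  obtain ⟨n2, i2⟩ := key hd hc hle' hle hne'
  have c1 := Offender.card_sup_mul_card_inf n1
  have c2 := Offender.card_sup_mul_card_inf n2
  rw [i1] at c1
  rw [i2] at c2
  have b1 : Nat.card ↥d.V * Nat.card ↥c.Q ≤ Nat.card ↥c.V * Nat.card ↥c.Q := by
    rw [← c1, hc.cardV, ← eZ]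
    exact Nat.mul_le_mul_right _ (card_le_of_le (sup_le hle hc.QS))
  have b2 : Nat.card ↥c.V * Nat.card ↥d.Q ≤ Nat.card ↥d.V * Nat.card ↥d.Q := by
    rw [← c2, hd.cardV, eZ]
    exact Nat.mul_le_mul_right _ (card_le_of_le (sup_le hle' hd.QS))
  have eV : Nat.card ↥d.V = Nat.card ↥c.V :=
    le_antisymm (Nat.le_of_mul_le_mul_right b1 Nat.card_pos) (Nat.le_of_mul_le_mul_right b2 Nat.card_pos)
  refine ⟨eq_of_le_of_card_ge (sup_le hle hc.QS) ?_, i1, eq_of_le_of_card_ge (sup_le hle' hd.QS) ?_⟩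
  · refine Nat.le_of_mul_le_mul_right ?_ (Nat.card_pos (α := ↥d.Zs))
    rw [c1, eV, hc.cardV, eZ]
  · refine Nat.le_of_mul_le_mul_right ?_ (Nat.card_pos (α := ↥c.Zs))
    rw [c2, ← eV, hd.cardV, eZ]

namespace Crit

variable {m : ℕ} {t : ℕ → ι} {e : ℕ → Γ}

theorem translate (hc : Crit C m t e) (x : Γ) : Crit C m t (fun l => x * e l) := by
  refine ⟨fun l hl => ?_, fun h => hc.moves ?_⟩
  · show (x * e l)⁻¹ * (x * e (l + 1)) ∈ _
    rw [show (x * e l)⁻¹ * (x * e (l + 1)) = (e l)⁻¹ * e (l + 1) by group]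
    exact hc.step l hl
  · rw [← cj_cj, ← cj_cj, le_centralizer_cj_iff] at h
    exact h

/-- The path moved to start at `1`. -/
theorem normalize (hc : Crit C m t e) : ∃ e' : ℕ → Γ, e' 0 = 1 ∧ Crit C m t e' :=
  ⟨_, inv_mul_cancel (e 0), hc.translate (e 0)⁻¹⟩

theorem dist (hc : Crit C m t e) : ∀ {i j : ℕ}, i ≤ j → j ≤ m → (e i)⁻¹ * e j ∈ ball C (j - i) := by
  intro i j hij
  induction hij with
  | refl => intro _; rw [Nat.sub_self, inv_mul_cancel]; exact one_mem_ball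
  | @step j hle ih =>
    intro hj
    have hle' : i ≤ j := hle
    rw [show (e i)⁻¹ * e (j + 1) = (e i)⁻¹ * e j * ((e j)⁻¹ * e (j + 1)) by group,
      show j + 1 - i = j - i + 1 by omega]
    exact ball_add (ih (by omega)) (gens_mem_ball (hc.step j (by omega)))

variable {Sg : Subgroup Γ} (F : Fam p Sg C) (hg : Good C m) (hc : Crit C m t e) (he : e 0 = 1)
include F hg hc he

theorem mem_ball : e m ∈ ball C m := by
  simpa [he] using hc.dist (Nat.zero_le m) le_rfl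

theorem moves_one : ¬ (C (t 0)).V ≤ centralizer (cj (e m) (C (t (m + 1))).V : Set Γ) := by
  simpa [he, cj_one] using hc.moves

theorem right_le : cj (e m) (C (t (m + 1))).V ≤ Sg := F.le_S hg le_rfl (mem_ball F hg hc he) _

theorem left_le : (C (t 0)).V ≤ cj (e m) Sg := by
  rw [PushingUp.le_cj_iff]
  exact F.le_S hg le_rfl (ball_inv (mem_ball F hg hc he)) _

theorem cover : cj (e m) (C (t (m + 1))).V ⊔ (C (t 0)).Q = Sg ∧
    cj (e m) (C (t (m + 1))).V ⊓ (C (t 0)).Q = cj (e m) (cs Sg Sg) ∧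
    (C (t 0)).V ⊔ cj (e m) (C (t (m + 1))).Q = cj (e m) Sg := by
  have h := cover_two (F.base (t 0)) ((F.base (t (m + 1))).conj (e m))
    (by simp only [Cfg.conj, card_cj, F.sylow]) (by simp only [Cfg.conj, card_cj, F.Zs_eq])
    ((right_le F hg hc he).trans (F.sylow _).ge)
    (by simp only [Cfg.conj, F.sylow]; exact left_le F hg hc he) (moves_one F hg hc he)
  simp only [Cfg.conj, F.sylow, F.Zs_eq] at h
  exact h

theorem not_le_Q : ¬ cj (e m) (C (t (m + 1))).V ≤ (C (t 0)).Q := fun hle =>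
  moves_one F hg hc he (le_centralizer_iff.mp (hle.trans (F.base _).QV))

theorem exists_moving : ∃ u ∈ cj (e m) (C (t (m + 1))).V, u ∈ Sg ∧ u ∉ (C (t 0)).Q := by
  obtain ⟨u, hu, huQ⟩ := SetLike.not_le_iff_exists.mp (not_le_Q F hg hc he)
  exact ⟨u, hu, right_le F hg hc he hu, huQ⟩

end Crit

end Cfsg.Agent.PU2
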