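import Cfsg.Agent.Lib.CLarge.Basic
import Cfsg.Agent.Lib.PushingUp.Vertex

/-!
# The lattice of subgroups of largest measure inside a subgroup

For `S ≤ Γ` with `|X| |C_S(X)| ≤ |S| |Z(S)|` for all `X ≤ S` (`Large S`), the subgroups attaining equality
(`CD S X`) form a lattice on which `cs S = C_S(·)` is an anti-automorphism.

* `CD.cs`, `CD.cs_cs`, `CD.inf`, `CD.sup`, `CD.cs_inf`, `CD.mem_sup`, `CD.modular`
* `MaxAb.extend`: an abelian member of the lattice joined with the part of a self-centralising member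
-/

set_option autoImplicit false

namespace Cfsg.Agent.PU2

open Subgroup
open scoped Pointwise
open PushingUp (card_cj cj_inf cj_centralizer)
open FFPair (cj mem_cj cj_cj)

universe u

variable {Γ : Type u} [Group Γ]

/-- `C_S(X)`. -/
def cs (S X : Subgroup Γ) : Subgroup Γ := S ⊓ centralizer (X : Set Γ)

/-- `S` is centrally large in itself. -/
def Large (S : Subgroup Γ) : Prop :=
  ∀ X : Subgroup Γ, X ≤ S → Nat.card ↥X * Nat.card ↥(cs S X) ≤ Nat.card ↥S * Nat.card ↥(cs S S)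

/-- `X` has largest measure in `S`. -/
def CD (S X : Subgroup Γ) : Prop :=
  X ≤ S ∧ Nat.card ↥X * Nat.card ↥(cs S X) = Nat.card ↥S * Nat.card ↥(cs S S)

/-- A self-centralising subgroup of largest measure. -/
def MaxAb (S A : Subgroup Γ) : Prop := CD S A ∧ cs S A = A

variable {S X Y : Subgroup Γ}

theorem cs_le : cs S X ≤ S := inf_le_left

theorem cs_le_centralizer : cs S X ≤ centralizer (X : Set Γ) := inf_le_right

theorem mem_cs {x : Γ} : x ∈ cs S X ↔ x ∈ S ∧ ∀ y ∈ X, y * x = x * y := by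
  rw [cs, mem_inf, mem_centralizer_iff]
  rfl

theorem le_cs_iff (hX : X ≤ S) : X ≤ cs S Y ↔ X ≤ centralizer (Y : Set Γ) :=
  ⟨fun h => h.trans inf_le_right, fun h => le_inf hX h⟩

theorem cs_antitone (h : X ≤ Y) : cs S Y ≤ cs S X :=
  inf_le_inf_left _ (centralizer_le (SetLike.coe_subset_coe.mpr h))

theorem le_cs_cs (hX : X ≤ S) : X ≤ cs S (cs S X) :=
  le_inf hX (le_centralizer_iff.mp inf_le_right)

theorem cs_sup (X Y : Subgroup Γ) : cs S (X ⊔ Y) = cs S X ⊓ cs S Y := by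
  rw [cs, CLarge.centralizer_sup, cs, cs, inf_inf_inf_comm, inf_idem]

theorem self (S : Subgroup Γ) : CD S S := ⟨le_rfl, rfl⟩

theorem cs_center (S : Subgroup Γ) : cs S (cs S S) = S :=
  le_antisymm cs_le (le_cs_cs le_rfl)

theorem center (S : Subgroup Γ) : CD S (cs S S) :=
  ⟨cs_le, by rw [cs_center, mul_comm]⟩

/-! ### transfer to the group `S` -/

theorem map_centralizer (Y : Subgroup ↥S) :
    (centralizer (Y : Set ↥S)).map S.subtype = cs S (Y.map S.subtype) := by
  ext x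
  constructor
  · rintro ⟨c, hc, rfl⟩
    refine mem_cs.mpr ⟨c.2, ?_⟩
    rintro _ ⟨y, hy, rfl⟩
    exact congrArg Subtype.val (hc y hy)
  · intro hx
    obtain ⟨hxS, hx⟩ := mem_cs.mp hx
    exact ⟨⟨x, hxS⟩, fun y hy => Subtype.ext (hx y ⟨y, hy, rfl⟩), rfl⟩

theorem map_top (S : Subgroup Γ) : (⊤ : Subgroup ↥S).map S.subtype = S := by
  rw [← MonoidHom.range_eq_map, Subgroup.range_subtype]

variable [Finite Γ]

theorem maxCentralizerProduct_eq (hS : Large S) :
    Cfsg.maxCentralizerProduct ↥S = Nat.card ↥S * Nat.card ↥(cs S S) := by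
  refine le_antisymm ?_ ?_
  · obtain ⟨R, hR⟩ := CLarge.exists_isCentralizerLarge (G := ↥S)
    rw [← hR]
    have h := hS _ (map_subtype_le R)
    rwa [← map_centralizer, card_map_of_injective S.subtype_injective,
      card_map_of_injective S.subtype_injective] at h
  · have h := CLarge.le_maxCentralizerProduct (⊤ : Subgroup ↥S)
    rw [← card_map_of_injective S.subtype_injective (K := (⊤ : Subgroup ↥S)), ← card_map_of_injective
      S.subtype_injective (K := centralizer ((⊤ : Subgroup ↥S) : Set ↥S)), map_centralizer, map_top] at h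
    exact h

theorem cd_map (hS : Large S) {Y : Subgroup ↥S} :
    CD S (Y.map S.subtype) ↔ Cfsg.IsCentralizerLarge Y := by
  rw [CD, Cfsg.IsCentralizerLarge, maxCentralizerProduct_eq hS, ← map_centralizer,
    card_map_of_injective S.subtype_injective, card_map_of_injective S.subtype_injective]
  exact and_iff_right (map_subtype_le Y)

namespace CD

theorem lift (hS : Large S) (hX : CD S X) :
    Cfsg.IsCentralizerLarge (X.subgroupOf S) ∧ (X.subgroupOf S).map S.subtype = X :=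
  ⟨(cd_map hS).mp ((map_subgroupOf_eq_of_le hX.1).symm ▸ hX), map_subgroupOf_eq_of_le hX.1⟩

theorem cs (hS : Large S) (hX : CD S X) : CD S (PU2.cs S X) := by
  obtain ⟨h, e⟩ := hX.lift hS
  rw [← e, ← map_centralizer, cd_map hS]
  exact (CLarge.isCentralizerLarge_centralizer h).1

theorem cs_cs (hS : Large S) (hX : CD S X) : PU2.cs S (PU2.cs S X) = X := by
  obtain ⟨h, e⟩ := hX.lift hS
  rw [← e, ← map_centralizer, ← map_centralizer, (CLarge.isCentralizerLarge_centralizer h).2]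

theorem inf (hS : Large S) (hX : CD S X) (hY : CD S Y) : CD S (X ⊓ Y) := by
  obtain ⟨hx, ex⟩ := hX.lift hS
  obtain ⟨hy, ey⟩ := hY.lift hS
  rw [← ex, ← ey, ← Subgroup.map_inf _ _ _ S.subtype_injective, cd_map hS]
  exact (CLarge.chermakDelgado hx hy).2.2.2.1

theorem sup (hS : Large S) (hX : CD S X) (hY : CD S Y) : CD S (X ⊔ Y) := by
  obtain ⟨hx, ex⟩ := hX.lift hS
  obtain ⟨hy, ey⟩ := hY.lift hS
  rw [← ex, ← ey, ← Subgroup.map_sup, cd_map hS]
  exact (CLarge.chermakDelgado hx hy).2.2.1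

theorem cs_inf (hS : Large S) (hX : CD S X) (hY : CD S Y) :
    PU2.cs S (X ⊓ Y) = PU2.cs S X ⊔ PU2.cs S Y := by
  obtain ⟨hx, ex⟩ := hX.lift hS
  obtain ⟨hy, ey⟩ := hY.lift hS
  rw [← ex, ← ey, ← Subgroup.map_inf _ _ _ S.subtype_injective, ← map_centralizer, ← map_centralizer,
    ← map_centralizer, ← Subgroup.map_sup, (CLarge.chermakDelgado hx hy).2.2.2.2.2]

theorem mem_sup (hS : Large S) (hX : CD S X) (hY : CD S Y) {z : Γ} (hz : z ∈ X ⊔ Y) :
    ∃ x ∈ X, ∃ y ∈ Y, x * y = z := by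
  obtain ⟨hx, ex⟩ := hX.lift hS
  obtain ⟨hy, ey⟩ := hY.lift hS
  rw [← ex, ← ey, ← Subgroup.map_sup] at hz
  obtain ⟨w, hw, rfl⟩ := hz
  obtain ⟨a, ha, b, hb, e⟩ : w ∈ ((X.subgroupOf S : Subgroup ↥S) : Set ↥S) * (Y.subgroupOf S : Set ↥S) :=
    (CLarge.chermakDelgado hx hy).1 ▸ hw
  exact ⟨a, mem_subgroupOf.mp ha, b, mem_subgroupOf.mp hb, congrArg Subtype.val e⟩

theorem modular (hS : Large S) (hX : CD S X) (hY : CD S Y) {W : Subgroup Γ} (hXW : X ≤ W) :
    (X ⊔ Y) ⊓ W = X ⊔ (Y ⊓ W) := by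
  refine le_antisymm (fun z hz => ?_) (le_inf (sup_le_sup_left inf_le_left _)
    (sup_le hXW inf_le_right))
  obtain ⟨x, hx, y, hy, rfl⟩ := hX.mem_sup hS hY hz.1
  refine mul_mem_sup hx ⟨hy, ?_⟩
  have h := mul_mem (inv_mem (hXW hx)) hz.2
  rwa [inv_mul_cancel_left] at h

theorem card_sup (hS : Large S) (hX : CD S X) (hY : CD S Y) :
    Nat.card ↥X * Nat.card ↥Y = Nat.card ↥(X ⊔ Y) * Nat.card ↥(X ⊓ Y) := by
  obtain ⟨hx, ex⟩ := hX.lift hS
  obtain ⟨hy, ey⟩ := hY.lift hS
  rw [← ex, ← ey, ← Subgroup.map_inf _ _ _ S.subtype_injective, ← Subgroup.map_sup,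
    card_map_of_injective S.subtype_injective, card_map_of_injective S.subtype_injective,
    card_map_of_injective S.subtype_injective, card_map_of_injective S.subtype_injective]
  exact (CLarge.chermakDelgado hx hy).2.1

end CD

theorem center_le_of_cd (hS : Large S) (hX : CD S X) : cs S S ≤ X := by
  rw [← hX.cs_cs hS]
  exact cs_antitone cs_le

namespace MaxAb

variable {A : Subgroup Γ}

omit [Finite Γ] in
theorem le (hA : MaxAb S A) : A ≤ S := hA.1.1

omit [Finite Γ] in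
theorem comm (hA : MaxAb S A) : A ≤ centralizer (A : Set Γ) := by
  conv_lhs => rw [← hA.2]
  exact inf_le_right

omit [Finite Γ] in
theorem mul_comm (hA : MaxAb S A) {a b : Γ} (ha : a ∈ A) (hb : b ∈ A) : a * b = b * a :=
  hA.comm hb a ha

omit [Finite Γ] in
theorem center_le (hA : MaxAb S A) : cs S S ≤ A := by
  rw [← hA.2]; exact cs_antitone hA.le

/-- An abelian member `X` with the part of `A` centralising it. -/
theorem extend (hS : Large S) (hA : MaxAb S A) (hX : CD S X) (hXc : X ≤ centralizer (X : Set Γ)) :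
    MaxAb S (X ⊔ (A ⊓ PU2.cs S X)) := by
  have hX' := hX.cs hS
  refine ⟨hX.sup hS (hA.1.inf hS hX'), ?_⟩
  rw [cs_sup, hA.1.cs_inf hS hX', hA.2, hX.cs_cs hS, inf_comm, sup_comm A X,
    hX.modular hS hA.1 ((le_cs_iff hX.1).mpr hXc)]

end MaxAb

end Cfsg.Agent.PU2
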