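import Cfsg.Agent.Lib.PushingUp2.S0

/-!
# Failures at distance zero

* `Fam.good_one`: the modules commute when `Z(S) ∩ S₀` is fixed by no member
-/

set_option autoImplicit false

namespace Cfsg.Agent.PU2

open Subgroup
open PushingUp (Cfg)
open FFPair (cj mem_cj cj_cj)
open scoped commutatorElement

universe u v

variable {Γ : Type u} [Group Γ] [Finite Γ] {p : ℕ} [Fact p.Prime] {ι : Type v} {C : ι → Cfg Γ}
  {Sg : Subgroup Γ}

/-- The modules commute. -/
theorem Fam.good_one (F : Fam p Sg C) (hmoved : ∀ i, ¬ cs Sg Sg ⊓ S0Of p Sg ≤ (C i).Z) :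
    Good C 1 := by
  intro j hj w hw a b
  obtain rfl : j = 0 := by omega
  rw [ball_zero hw, PushingUp.cj_one]
  by_contra hne
  have ha := F.base a
  have hb := F.base b
  have hne' : ¬ (C a).V ≤ centralizer ((C b).V : Set Γ) := fun h => hne (le_centralizer_iff.mp h)
  obtain ⟨h1, -, h2⟩ := cover_two ha hb (by rw [F.sylow a, F.sylow b]) (by rw [F.Zs_eq a, F.Zs_eq b])
    (F.sylow a ▸ F.VS b) (F.sylow b ▸ F.VS a) hne'
  have hVQ : (C a).V ≤ normalizer ((C b).Q : Set Γ) :=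
    ((F.sylow b ▸ F.VS a : (C a).V ≤ (C b).S).trans hb.SG).trans hb.GQ
  have hZ : (C a).Zs ≤ centralizer ((C a).S : Set Γ) := ha.Zs_eq.le.trans inf_le_right
  have hcomm : ∀ x ∈ (C b).V, ∀ q ∈ (C a).Q, ⁅x, q⁆ ∈ (C a).Zs := by
    intro x hx q hq
    have hqS : q ∈ (C b).S := F.sylow b ▸ F.QS a hq
    obtain ⟨v, hv, d, hd, rfl⟩ := (Coprime.mem_sup_iff_of_le_normalizer hVQ).mp (h2.ge hqS)
    rw [show ⁅x, v * d⁆ = ⁅x, v⁆ * (v * ⁅x, d⁆ * v⁻¹) by simp only [commutatorElement_def]; group,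
      show ⁅x, d⁆ = 1 from Bracket.eq_one (hb.QV hd x hx), mul_one, mul_inv_cancel, mul_one,
      commutatorElement_def]
    exact ha.quad x (F.sylow a ▸ F.VS b hx) v hv
  have hS0 := S0_le (p := p) h1 (ha.SG.trans ha.GQ) hb.elem (ha.Zs_eq.le.trans inf_le_left) hZ
    (PGroup.isElementaryAbelian_mono ha.elem ha.ZsV) hcomm
  have hbr : Bracket (C b).V (C a).Q (C a).Zs :=
    ⟨hcomm, fun t ht x hx => hZ ht x (F.sylow a ▸ F.VS b hx), fun t ht y hy => hZ ht y (ha.QS hy),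
      fun t ht t' ht' => ha.V_comm (ha.ZsV ht') (ha.ZsV ht) |>.symm⟩
  have hA := hbr.le_centralizer_Fr (PGroup.isElementaryAbelian_mono ha.elem ha.ZsV)
  refine hmoved a ?_
  rw [← F.sylow a, Base.cs_self ha]
  exact (inf_le_inf_left _ hS0).trans (Base.le_Z ha h1 (normalizer_Fr ha.GQ) hA)

end Cfsg.Agent.PU2
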