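import Cfsg.Agent.Lib.PushingUp2.Gallery

/-!
# First consequences of a failure

* `Crit.R_le`: `[U₀, U_{m+1}] ≤ Z₁`
* `Crit.out_long`: for `m ≥ 2` the first group does not normalise `U₀ U₁`
* `Crit.shift`: the path extends to the left by any moved element of the first group
-/

set_option autoImplicit false
set_option linter.unusedSectionVars false

namespace Cfsg.Agent.PU2

open Subgroup
open PushingUp (Cfg Base card_cj cj_inf cj_centralizer cj_normalizer cj_sup cj_le_cj cj_one mem_cj_conj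
  cj_eq_self_of_mem_normalizer le_centralizer_cj_iff)
open FFPair (cj mem_cj cj_cj)
open scoped commutatorElement

universe u v

variable {Γ : Type u} [Group Γ]

/-- The subgroup generated by the `G`-translates of `X`. -/
def closureOf (G X : Subgroup Γ) : Subgroup Γ := ⨆ g : ↥G, cj (g : Γ) X

theorem le_closureOf (G X : Subgroup Γ) : X ≤ closureOf G X :=
  le_iSup_of_le (1 : ↥G) (cj_one X).ge

theorem closureOf_le {G X K : Subgroup Γ} (hX : X ≤ K) (hK : G ≤ normalizer (K : Set Γ)) :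
    closureOf G X ≤ K :=
  iSup_le fun g => (cj_le_cj.mpr hX).trans (cj_eq_self_of_mem_normalizer (hK g.2)).le

/-- The elements of `Y` bracketing `Y` into `T`. -/
def brSub (Y T : Subgroup Γ) (hTY : Y ≤ centralizer (T : Set Γ)) : Subgroup Γ where
  carrier := {x | x ∈ Y ∧ ∀ y ∈ Y, ⁅x, y⁆ ∈ T}
  one_mem' := ⟨one_mem _, fun y _ => by simp⟩
  mul_mem' {x x'} hx hx' := ⟨mul_mem hx.1 hx'.1, fun y hy => by
    rw [show ⁅x * x', y⁆ = x * ⁅x', y⁆ * x⁻¹ * ⁅x, y⁆ by simp only [commutatorElement_def]; group,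
      ← hTY hx.1 _ (hx'.2 y hy), mul_inv_cancel_right]
    exact mul_mem (hx'.2 y hy) (hx.2 y hy)⟩
  inv_mem' {x} hx := ⟨inv_mem hx.1, fun y hy => by
    rw [show ⁅x⁻¹, y⁆ = x⁻¹ * ⁅x, y⁆⁻¹ * x by simp only [commutatorElement_def]; group,
      ← hTY (inv_mem hx.1) _ (inv_mem (hx.2 y hy)), inv_mul_cancel_right]
    exact inv_mem (hx.2 y hy)⟩

theorem brSub_normal {G Y T : Subgroup Γ} [Finite Γ] (hTY : Y ≤ centralizer (T : Set Γ))
    (hY : G ≤ normalizer (Y : Set Γ)) (hT : G ≤ normalizer (T : Set Γ)) :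
    G ≤ normalizer (brSub Y T hTY : Set Γ) := by
  intro g hg
  refine PGroup.mem_normalizer_of_map_conj_eq (eq_of_le_of_card_ge ?_ (card_cj g _).ge)
  rintro _ ⟨x, hx, rfl⟩
  refine ⟨(mem_normalizer_iff.mp (hY hg) x).mp hx.1, fun y hy => ?_⟩
  have h1 : g⁻¹ * y * g ∈ Y := by simpa using (mem_normalizer_iff.mp (hY (inv_mem hg)) y).mp hy
  have h2 := (mem_normalizer_iff.mp (hT hg) _).mp (hx.2 _ h1)
  rw [conjugate_commutatorElement] at h2
  simp only [MulEquiv.coe_toMonoidHom, MulAut.conj_apply]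
  rwa [show g * (g⁻¹ * y * g) * g⁻¹ = y by group] at h2

variable [Finite Γ] {p : ℕ}

theorem closureOf_normal (G X : Subgroup Γ) : G ≤ normalizer (closureOf G X : Set Γ) := by
  intro g hg
  refine PGroup.mem_normalizer_of_map_conj_eq (eq_of_le_of_card_ge ?_ (card_cj g _).ge)
  rw [closureOf, Subgroup.map_iSup]
  refine iSup_le fun k => ?_
  show cj g (cj (k : Γ) X) ≤ _
  rw [cj_cj]
  exact le_iSup_of_le (⟨g * k, mul_mem hg k.2⟩ : ↥G) le_rfl

theorem CD.iSup {ι : Sort*} [Nonempty ι] {S : Subgroup Γ} (hS : Large S) {X : ι → Subgroup Γ}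
    (hX : ∀ i, CD S (X i)) : CD S (⨆ i, X i) := by
  obtain ⟨i₀⟩ := (inferInstance : Nonempty ι)
  obtain ⟨L, ⟨hL, hle⟩, hmax⟩ :=
    Set.Finite.exists_maximal (Set.toFinite {L : Subgroup Γ | CD S L ∧ L ≤ ⨆ i, X i})
      ⟨X i₀, hX i₀, le_iSup X i₀⟩
  rwa [le_antisymm (iSup_le fun i => le_sup_right.trans
    (hmax ⟨hL.sup hS (hX i), sup_le hle (le_iSup X i)⟩ le_sup_left)) hle]

theorem CD.closureOf {c : Cfg Γ} (h : Base p c) (hS : Large c.S) {X : Subgroup Γ} (hX : CD c.S X)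
    (hVX : c.V ≤ X) (hXQ : X ≤ c.Q) : CD c.S (PU2.closureOf c.G X) :=
  CD.iSup hS fun g => Base.cd_cj h g.2 hX hVX hXQ

variable {ι : Type v} {C : ι → Cfg Γ} {Sg : Subgroup Γ}

/-- `G_a` does not normalise `V_a V_i`. -/
def Out (C : ι → Cfg Γ) (a i : ι) : Prop :=
  ¬ (C a).G ≤ normalizer (((C a).V ⊔ (C i).V : Subgroup Γ) : Set Γ)

namespace Fam

variable (F : Fam p Sg C)
include F

theorem comm_mem_V {i : ι} {v y : Γ} (hv : v ∈ (C i).V) (hy : y ∈ Sg) : ⁅v, y⁆ ∈ cs Sg Sg := by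
  rw [← F.Zs_eq i, ← commutatorElement_inv, commutatorElement_def y v]
  exact inv_mem ((F.base i).quad y ((F.sylow i).symm ▸ hy) v hv)

theorem center_le_V (i : ι) : cs Sg Sg ≤ (C i).V := F.Zs_eq i ▸ (F.base i).ZsV

theorem V_br {Y T : Subgroup Γ} (hTY : Y ≤ centralizer (T : Set Γ)) (hYS : Y ≤ Sg)
    {i : ι} (hiY : (C i).V ≤ Y) (hZT : cs Sg Sg ≤ T) : (C i).V ≤ brSub Y T hTY :=
  fun _ hv => ⟨hiY hv, fun _ hy => hZT (F.comm_mem_V hv (hYS hy))⟩

end Fam

namespace Crit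

variable {m : ℕ} {t : ℕ → ι} {e : ℕ → Γ} (F : Fam p Sg C) (hg : Good C m) (hc : Crit C m t e)
include F hg hc

theorem first (hm : 0 < m) (he : e 0 = 1) : e 1 ∈ gens C (t 1) := by
  simpa [he] using hc.step 0 hm

theorem rest (hm : 0 < m) : (e 1)⁻¹ * e m ∈ ball C (m - 1) := hc.dist (by omega) le_rfl

theorem right_le_Q (hm : 0 < m) (he : e 0 = 1) :
    cj (e m) (C (t (m + 1))).V ≤ (C (t 1)).Q := by
  rw [← mul_inv_cancel_left (e 1) (e m), ← cj_cj]
  exact F.cj_le_Q (first F hg hc hm he).1 (F.le_Q hg (by omega) (rest F hg hc hm) _ _)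

/-- `[U₀, U_{m+1}] ≤ Z₁`. -/
theorem R_le (hm : 0 < m) (he : e 0 = 1) {x u : Γ} (hx : x ∈ (C (t 0)).V)
    (hu : u ∈ cj (e m) (C (t (m + 1))).V) : ⁅x, u⁆ ∈ (C (t 1)).Z := by
  set a := t 0
  set i := t 1
  have hb := F.base i
  have hS := F.largeS i
  obtain ⟨A, hA, hAQ⟩ := F.exists_max i
  obtain ⟨g, hg', hmov⟩ := hb.moving
  set W := closureOf (C i).G ((C a).V ⊔ (C i).V) with hW
  have hQc : (C i).Q ≤ centralizer ((C i).V : Set Γ) := hb.QV
  have haQ : (C a).V ≤ (C i).Q := F.V_le_Q hg hm i a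
  have hgen : (C a).V ⊔ (C i).V ≤ brSub (C i).Q (C i).V hQc :=
    sup_le (F.V_br hQc (F.QS i) haQ (F.center_le_V i)) (F.V_br hQc (F.QS i) hb.VQ (F.center_le_V i))
  have hWK : W ≤ brSub (C i).Q (C i).V hQc := closureOf_le hgen (brSub_normal hQc hb.GQ hb.GV)
  have hcdS : CD (C i).S (C a).V := (F.sylow i).symm ▸ F.cd_V a
  have d : Pair (C i) A (C i).V W g :=
    { max := hA
      not_le := hAQ
      memG := hg'
      mov := hmov
      cdT := Base.cd_V hb
      VT := le_rfl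
      commT := F.abelian_V i
      GT := hb.GV
      cdW := CD.closureOf hb hS (hcdS.sup hS (Base.cd_V hb)) le_sup_right (sup_le haQ hb.VQ)
      TW := le_sup_right.trans (le_closureOf _ _)
      WY := (Base.cs_V hb).symm ▸ fun w hw => (hWK hw).1
      GW := closureOf_normal _ _
      br := fun w hw y hy => (hWK hw).2 y ((Base.cs_V hb).le hy) }
  have he1 := first F hg hc hm he
  have hk := d.key hb hS (le_closureOf _ _ (mem_sup_left hx))
    (fun s hs => F.Zs_eq i ▸ F.comm_mem_V hx ((F.sylow i) ▸ hs)) (right_le_Q F hg hc hm he hu)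
    (inv_mem he1.1)
  rw [inv_inv] at hk
  have h1 : ⁅x, (e 1)⁻¹ * u * e 1⁆ = 1 := by
    refine Bracket.eq_one (((hg (m - 1) (by omega) _ (rest F hg hc hm) a (t (m + 1))) ?_ x hx))
    refine mem_cj.mpr ?_
    convert mem_cj.mp hu using 1
    group
  rw [h1, one_mul] at hk
  simpa using inv_mem hk

/-- For `m ≥ 2` the first group does not normalise `U₀ U₁`. -/
theorem out_long (hm : 2 ≤ m) (he : e 0 = 1) : Out C (t 0) (t 1) := by
  intro hU
  have hm0 : 0 < m := by omega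
  set a := t 0
  set i := t 1
  have hbi := F.base i
  have hb := F.base a
  have hS := F.largeS a
  have hSa := F.sylow a
  have he1 := first F hg hc hm0 he
  set T := (C a).V ⊔ (C i).V with hTdef
  have hai : (C a).V ≤ centralizer ((C i).V : Set Γ) := F.V_comm hg hm0 i a
  have hTc : T ≤ centralizer (T : Set Γ) := by
    rw [hTdef, CLarge.centralizer_sup]
    exact le_inf (sup_le (F.abelian_V a) (le_centralizer_iff.mp hai)) (sup_le hai (F.abelian_V i))
  have hTQ : T ≤ (C a).Q := sup_le hb.VQ (F.V_le_Q hg hm0 a i)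
  have hTi : T ≤ (C i).Q := sup_le (F.V_le_Q hg hm0 i a) hbi.VQ
  have hTcd : CD Sg T := (F.cd_V a).sup F.large (F.cd_V i)
  have hY : cs Sg T = (C a).Q ⊓ (C i).Q := by rw [hTdef, cs_sup, F.cs_V a, F.cs_V i]
  have heV : cj (e 1) (C i).V = (C i).V := hbi.conj_V he1.1
  -- the translate of `T`
  have hXi : cj (e 1) T ≤ (C i).Q := F.cj_le_Q he1.1 hTi
  have hXcd : CD Sg (cj (e 1) T) := by
    have := Base.cd_cj hbi he1.1 ((F.sylow i).symm ▸ hTcd) le_sup_right hTi
    rwa [F.sylow i] at this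
  have hXY : cj (e 1) T ≤ cs Sg T := by
    rw [hY]
    refine le_inf (F.le_Q_of hXcd.1 ?_) hXi
    rw [hTdef, cj_sup, heV]
    exact sup_le (hg 1 (by omega) _ (gens_mem_ball he1) a a) (le_centralizer_iff.mp hai)
  -- the self-centralising member through the far module
  obtain ⟨K, hK, hKK, hVK, hKc⟩ := F.path_cd hg (k := m - 1) (by omega) (rest F hg hc hm0) (t (m + 1))
  have hKj : ∀ j, K ≤ centralizer ((C j).V : Set Γ) := fun j => by
    simpa [cj_one] using hKc 0 (by omega) 1 one_mem_ball j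
  have hKT : K ⊔ T ≤ (C i).Q := sup_le (F.le_Q_of hK.1 (hKj i)) hTi
  have hKTc : K ⊔ T ≤ centralizer ((K ⊔ T : Subgroup Γ) : Set Γ) := by
    have h1 : K ≤ centralizer (T : Set Γ) := by
      rw [hTdef, CLarge.centralizer_sup]; exact le_inf (hKj a) (hKj i)
    rw [CLarge.centralizer_sup]
    exact le_inf (sup_le hKK (le_centralizer_iff.mp h1)) (sup_le h1 hTc)
  have hKcd : CD Sg (cj (e 1) (K ⊔ T)) := by
    have := Base.cd_cj hbi he1.1 ((F.sylow i).symm ▸ hK.sup F.large hTcd)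
      (le_sup_right.trans le_sup_right) hKT
    rwa [F.sylow i] at this
  obtain ⟨B, hB, -⟩ := F.exists_max a
  set A := cj (e 1) (K ⊔ T) ⊔ (B ⊓ cs (C a).S (cj (e 1) (K ⊔ T)))
  have hA : MaxAb (C a).S A := hB.extend hS (hSa.symm ▸ hKcd) (le_centralizer_cj_iff.mpr hKTc)
  have hUA : cj (e m) (C (t (m + 1))).V ≤ A := by
    refine le_trans ?_ le_sup_left
    rw [← mul_inv_cancel_left (e 1) (e m), ← cj_cj]
    exact cj_le_cj.mpr (hVK.trans le_sup_left)
  have hAQ : ¬ A ≤ (C a).Q := fun h => not_le_Q F hg hc he (hUA.trans h)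
  obtain ⟨g, hg', hmov⟩ := hb.moving
  set W := closureOf (C a).G (T ⊔ cj (e 1) T) with hW
  set Y := cs Sg T
  have hYc : Y ≤ centralizer (T : Set Γ) := cs_le_centralizer
  have hTY : T ≤ Y := le_inf hTcd.1 hTc
  have hGY : (C a).G ≤ normalizer (Y : Set Γ) := by
    have := Base.normal_cs hb (X := T) le_sup_left hU
    rwa [hSa] at this
  have hYi : Y ≤ (C i).Q := hY.le.trans inf_le_right
  have hYa : cs (C a).S T = Y := by rw [hSa]
  have hgen : T ⊔ cj (e 1) T ≤ brSub Y T hYc := by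
    refine sup_le (sup_le (F.V_br hYc cs_le (le_sup_left.trans hTY) ((F.center_le_V a).trans le_sup_left))
      (F.V_br hYc cs_le (le_sup_right.trans hTY) ((F.center_le_V a).trans le_sup_left))) ?_
    have hQc : (C i).Q ≤ centralizer ((C i).V : Set Γ) := hbi.QV
    have hTb : T ≤ brSub (C i).Q (C i).V hQc := sup_le
      (F.V_br hQc (F.QS i) (F.V_le_Q hg hm0 i a) (F.center_le_V i))
      (F.V_br hQc (F.QS i) hbi.VQ (F.center_le_V i))
    have hcj : cj (e 1) T ≤ brSub (C i).Q (C i).V hQc :=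
      (cj_le_cj.mpr hTb).trans (cj_eq_self_of_mem_normalizer (brSub_normal hQc hbi.GQ hbi.GV he1.1)).le
    exact fun x hx => ⟨hXY hx, fun y hy => le_sup_right (a := (C a).V) ((hcj hx).2 y (hYi hy))⟩
  have hWK : W ≤ brSub Y T hYc := closureOf_le hgen (brSub_normal hYc hGY hU)
  have d : Pair (C a) A T W g :=
    { max := hA
      not_le := hAQ
      memG := hg'
      mov := hmov
      cdT := hSa.symm ▸ hTcd
      VT := le_sup_left
      commT := hTc
      GT := hU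
      cdW := CD.closureOf hb hS (hSa.symm ▸ hTcd.sup F.large hXcd) (le_sup_left.trans le_sup_left)
        (sup_le hTQ ((hXY.trans hY.le).trans inf_le_left))
      TW := le_sup_left.trans (le_closureOf _ _)
      WY := hSa.symm ▸ fun w hw => (hWK hw).1
      GW := closureOf_normal _ _
      br := fun w hw y hy => (hWK hw).2 y (hYa.le hy) }
  -- an element of the translate of `V_a`
  obtain ⟨v, hv, hvZ⟩ : ∃ v ∈ (C a).V, v ∉ cs Sg Sg := by
    by_contra hcon
    push Not at hcon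
    refine moves_one F hg hc he fun v hv => ?_
    exact fun x hx => (mem_cs.mp (hcon v hv)).2 x (right_le F hg hc he hx)
  obtain ⟨u₀, hu₀, hu₀S, hu₀Q⟩ := exists_moving F hg hc he
  have hsharp : ∀ u ∈ cj (e m) (C (t (m + 1))).V, ⁅v, u⁆ ∈ (C a).Z → ⁅v, u⁆ = 1 := by
    intro u hu hz
    by_cases huQ : u ∈ (C a).Q
    · exact Bracket.eq_one (hb.QV huQ v hv)
    · refine absurd ?_ hvZ
      rw [← F.Zs_eq a]
      refine hb.sharp u (hSa.symm ▸ right_le F hg hc he hu) huQ v hv ?_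
      have := inv_mem hz
      rwa [commutatorElement_inv, commutatorElement_def] at this
  have hcov := (cover F hg hc he).1
  have hn : cj (e m) (C (t (m + 1))).V ≤ normalizer ((C a).Q : Set Γ) :=
    (right_le F hg hc he).trans (hSa ▸ hb.SG.trans hb.GQ)
  have hdec : ∀ y ∈ Sg, ∃ u ∈ cj (e m) (C (t (m + 1))).V, ∃ q ∈ (C a).Q, u * q = y := fun y hy =>
    (Coprime.mem_sup_iff_of_le_normalizer hn).mp (hcov.ge hy)
  set w := e 1 * v * (e 1)⁻¹
  have hwA : w ∈ A := mem_sup_left (mem_cj_conj (mem_sup_right (mem_sup_left hv)))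
  have hwW : w ∈ W := le_closureOf _ _ (mem_sup_right (mem_cj_conj (mem_sup_left hv)))
  have hval : ∀ y ∈ (C i).Q, ∃ u ∈ cj (e m) (C (t (m + 1))).V, ⁅w, y⁆ = ⁅v, u⁆ := by
    intro y hy
    have hy' : (e 1)⁻¹ * y * e 1 ∈ (C i).Q := by
      simpa using (mem_normalizer_iff.mp (hbi.GQ (inv_mem he1.1)) y).mp hy
    obtain ⟨u, hu, q, hq, eq⟩ := hdec _ (F.QS i hy')
    refine ⟨u, hu, ?_⟩
    have h1 : ⁅v, (e 1)⁻¹ * y * e 1⁆ = ⁅v, u⁆ := by
      rw [← eq, show ⁅v, u * q⁆ = ⁅v, u⁆ * (u * ⁅v, q⁆ * u⁻¹) by simp only [commutatorElement_def]; group,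
        Bracket.eq_one (hb.QV hq v hv), mul_one, mul_inv_cancel, mul_one]
    rw [show ⁅w, y⁆ = e 1 * ⁅v, (e 1)⁻¹ * y * e 1⁆ * (e 1)⁻¹ by
      simp only [w, commutatorElement_def]; group, h1, hbi.Z_central (R_le F hg hc hm0 he hv hu) he1.1]
  have hone := d.trivial_of hb hS hwA hwW
    (fun y hy => by
      obtain ⟨u, hu, eu⟩ := hval y (hYi (hYa.le hy))
      rw [eu, F.Zs_eq a, ← F.Zs_eq i]
      exact hbi.Z_le_Zs (R_le F hg hc hm0 he hv hu))
    (fun y hy hz => by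
      obtain ⟨u, hu, eu⟩ := hval y (hYi (hYa.le hy))
      rw [eu] at hz ⊢
      exact hsharp u hu hz)
  refine hvZ (F.Zs_eq a ▸ hb.sharp u₀ (hSa.symm ▸ hu₀S) hu₀Q v hv ?_)
  have hu₀i := right_le_Q F hg hc hm0 he hu₀
  have hz : e 1 * u₀ * (e 1)⁻¹ ∈ (C i).Q := (mem_normalizer_iff.mp (hbi.GQ he1.1) u₀).mp hu₀i
  obtain ⟨u, hu, q, hq, eq⟩ := hdec _ (F.QS i hz)
  have hqY : q ∈ Y := by
    rw [hY]
    refine ⟨hq, ?_⟩
    have := mul_mem (inv_mem (right_le_Q F hg hc hm0 he hu)) hz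
    rwa [← eq, inv_mul_cancel_left] at this
  have h1 : ⁅w, e 1 * u₀ * (e 1)⁻¹⁆ = 1 := by
    rw [← eq, show ⁅w, u * q⁆ = ⁅w, u⁆ * (u * ⁅w, q⁆ * u⁻¹) by simp only [commutatorElement_def]; group,
      Bracket.eq_one (hA.mul_comm hwA (hUA hu)), hone q (hYa.ge hqY), mul_one, mul_inv_cancel, mul_one]
  have h2 : ⁅u₀, v⁆ = 1 := by
    rw [show ⁅u₀, v⁆ = ((e 1)⁻¹ * ⁅w, e 1 * u₀ * (e 1)⁻¹⁆ * e 1)⁻¹ by
      simp only [w, commutatorElement_def]; group, h1]
    group
  rw [← commutatorElement_def, h2]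
  exact one_mem _

/-- A moved element of the first group extends the path to the left. -/
theorem shift (hm : 0 < m) (hout : Out C (t 0) (t 1)) {g : Γ} (hgG : g ∈ gens C (t 0)) :
    Crit C m (fun l => match l with | 0 => t 1 | l + 1 => t l)
      (fun l => match l with | 0 => e 0 * g⁻¹ | l + 1 => e l) := by
  obtain ⟨m, rfl⟩ : ∃ k, m = k + 1 := ⟨m - 1, by omega⟩
  refine ⟨fun l hl => ?_, fun hA => hout ?_⟩
  · cases l with
    | zero =>
      show (e 0 * g⁻¹)⁻¹ * e 0 ∈ gens C (t 0)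
      rwa [show (e 0 * g⁻¹)⁻¹ * e 0 = g by group]
    | succ l => exact hc.step l (by omega)
  change cj (e 0 * g⁻¹) (C (t 1)).V ≤ centralizer (cj (e m) (C (t (m + 1))).V : Set Γ) at hA
  -- the same, seen from the origin
  have hc' := hc.translate (e 0)⁻¹
  set f := fun l => (e 0)⁻¹ * e l
  have hf0 : f 0 = 1 := inv_mul_cancel _
  have hA' : cj g⁻¹ (C (t 1)).V ≤ centralizer (cj (f m) (C (t (m + 1))).V : Set Γ) := by
    rw [← le_centralizer_cj_iff (e := e 0), cj_cj, cj_cj]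
    simp only [f, mul_inv_cancel_left]
    exact hA
  set a := t 0
  set i := t 1
  set j := t (m + 1)
  set b := t (m + 1 + 1)
  have hb := F.base a
  have hbj := F.base j
  set s := (f m)⁻¹ * f (m + 1)
  have hs : s ∈ gens C j := hc'.step m (by omega)
  have hjV : cj (f (m + 1)) (C j).V = cj (f m) (C j).V := by
    rw [show f (m + 1) = f m * s by simp only [s]; group, ← cj_cj, hbj.conj_V hs.1]
  have hjQ : cj (f (m + 1)) (C j).Q = cj (f m) (C j).Q := by
    rw [show f (m + 1) = f m * s by simp only [s]; group, ← cj_cj, hbj.conj_Q hs.1]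
  -- the new translate lies in the Sylow subgroup of the last edge
  have hAS : cj g⁻¹ (C i).V ≤ cj (f (m + 1)) Sg := by
    have hball : (f m)⁻¹ * g⁻¹ ∈ ball C (m + 1) := by
      refine ball_add (ball_inv ?_) (gens_mem_ball (gens_inv hgG))
      simpa [hf0] using hc'.dist (Nat.zero_le m) (by omega)
    have hS₁ := F.le_S hg le_rfl hball i
    have hc₁ : cj ((f m)⁻¹ * g⁻¹) (C i).V ≤ centralizer ((C j).V : Set Γ) := by
      rw [← le_centralizer_cj_iff (e := f m), cj_cj, mul_inv_cancel_left]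
      exact hA'
    have h := cj_le_cj (e := f m).mpr (F.le_Q_of hS₁ hc₁)
    rw [cj_cj, mul_inv_cancel_left, ← hjQ] at h
    exact h.trans (cj_le_cj.mpr (F.QS j))
  obtain ⟨hleft, -, hcov⟩ := cover F hg hc' hf0
  change cj (f (m + 1)) (C b).V ⊔ (C a).Q = Sg at hleft
  change (C a).V ⊔ cj (f (m + 1)) (C b).Q = cj (f (m + 1)) Sg at hcov
  have hUS : cj (f (m + 1)) (C b).V ≤ Sg := right_le F hg hc' hf0
  set A := cj g⁻¹ (C i).V
  set T := (C a).V ⊔ A
  have hgi : g⁻¹ ∈ (C a).G := inv_mem hgG.1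
  have hGSg : Sg ≤ (C a).G := F.sylow a ▸ hb.SG
  have hgA : cj g⁻¹ Sg ≤ normalizer (A : Set Γ) := by
    show cj g⁻¹ Sg ≤ normalizer (cj g⁻¹ (C i).V : Set Γ)
    rw [← cj_normalizer, cj_le_cj]
    exact F.sylow i ▸ (F.base i).SG.trans (F.base i).GV
  have hgV : cj g⁻¹ Sg ≤ normalizer ((C a).V : Set Γ) :=
    ((cj_le_cj.mpr hGSg).trans (Base.conj_G hgi).le).trans hb.GV
  have hgT : cj g⁻¹ Sg ≤ normalizer (T : Set Γ) := fun y hy =>
    PGroup.mem_normalizer_of_map_conj_eq (by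
      rw [Subgroup.map_sup, PGroup.map_conj_eq_of_mem_normalizer (hgV hy),
        PGroup.map_conj_eq_of_mem_normalizer (hgA hy)])
  have hST : Sg ≤ normalizer (T : Set Γ) := by
    rw [← hleft]
    refine sup_le (fun x hx => ?_)
      ((le_trans (hb.conj_Q hgi).ge (cj_le_cj.mpr (F.QS a))).trans hgT)
    refine PGroup.mem_normalizer_of_map_conj_eq (eq_of_le_of_card_ge ?_ (card_cj x T).ge)
    show cj x T ≤ T
    have hxV : x ∈ normalizer ((C a).V : Set Γ) := hb.GV (hGSg (hUS hx))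
    rw [cj_sup, cj_eq_self_of_mem_normalizer hxV]
    refine sup_le le_sup_left ?_
    rintro _ ⟨y, hy, rfl⟩
    have hVn : (C a).V ≤ normalizer (cj (f (m + 1)) (C b).Q : Set Γ) := by
      refine (le_sup_left.trans hcov.le).trans ?_
      rw [← cj_normalizer, cj_le_cj]
      exact F.sylow b ▸ (F.base b).SG.trans (F.base b).GQ
    obtain ⟨v, hv, q, hq, rfl⟩ := (Coprime.mem_sup_iff_of_le_normalizer hVn).mp (hcov.ge (hAS hy))
    have hqx : q * x = x * q := (((F.base b).conj (f (m + 1))).QV hq x hx).symm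
    show x * (v * q) * x⁻¹ ∈ T
    rw [show x * (v * q) * x⁻¹ = (x * v * x⁻¹ * v⁻¹) * (v * ((x * q) * x⁻¹)) by group, ← hqx,
      mul_inv_cancel_right]
    exact mul_mem (mem_sup_left (mul_mem ((mem_normalizer_iff.mp hxV v).mp hv) (inv_mem hv)))
      (mem_sup_right hy)
  -- so the whole group normalises `U₀ U₁`
  have hG : (C a).G ≤ normalizer (T : Set Γ) := by
    rw [← ((hb.dich g⁻¹ hgi).resolve_left (gens_inv hgG).2).1, F.sylow a]
    exact sup_le hST hgT
  have h2 := cj_le_cj (e := g).mpr hG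
  rw [Base.conj_G hgG.1, cj_normalizer, cj_sup, hb.conj_V hgG.1, cj_cj, mul_inv_cancel, cj_one] at h2
  exact h2

end Crit

end Cfsg.Agent.PU2
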