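import Cfsg.Agent.Lib.PushingUp2.Split
import Cfsg.Agent.Lib.PushingUp2.Steps

/-!
# The first group does not normalise `U₀ U₁` at a failure at `1`

* `HasSource`: a configuration comes from the pushing-up hypotheses
* `Crit.out`: for every failure at `m ≥ 1`
-/

set_option autoImplicit false
set_option linter.unusedSectionVars false

namespace Cfsg.Agent.PU2

open Subgroup
open PushingUp (Cfg Base Hyp Basics vQ cfg card_cj cj_inf cj_centralizer cj_normalizer cj_sup cj_le_cj cj_one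
  mem_cj_conj cj_eq_self_of_mem_normalizer le_centralizer_cj_iff)
open FFPair (cj mem_cj cj_cj)
open scoped commutatorElement

universe u v

variable {Γ : Type u} [Group Γ] {p : ℕ} [Fact p.Prime]

/-- The configuration comes from the pushing-up hypotheses. -/
def HasSource (p : ℕ) [Fact p.Prime] (c : Cfg Γ) : Prop :=
  ∃ (G : Type u) (_ : Group G) (_ : Finite G) (S : Sylow p G) (M : Subgroup G) (f : G →* Γ),
    Function.Injective f ∧ Hyp p S M ∧ Basics p S M ∧ c = cfg p S f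

variable [Finite Γ]

theorem no_split_ambient {c : Cfg Γ} (hc : HasSource p c) {Y U' D : Subgroup Γ} (hYQ : Y ≤ c.Q)
    (hYn : c.G ≤ normalizer (Y : Set Γ)) (hQQ : ⁅c.Q, c.Q⁆ ≤ Y) (hsup : U' ⊔ c.Q = c.S)
    (hQY : ⁅U', c.Q⁆ ≤ Y) (hYV : ⁅U', Y⁆ ≤ c.V) (hD : D ≤ c.Q) (hDc : U' ≤ centralizer (D : Set Γ))
    {a u v d : Γ} (ha : a ∈ c.Q) (hu : u ∈ U') (hv : v ∈ c.V) (hd : d ∈ D)
    (he : ⁅a, u⁆⁻¹ * (v * d) ∈ ⁅c.Q, c.Q⁆ ⊔ powerClosure p 1 c.Q) : v ∈ c.Zs := by
  obtain ⟨G, iG, iF, S, M, f, hf, h, hB, rfl⟩ := hc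
  have hQr : ∀ {X : Subgroup Γ}, X ≤ (S : Subgroup G).map f → (X.comap f).map f = X := fun hX =>
    map_comap_eq_self (hX.trans (map_le_range f _))
  have hQS : (pCore p G).map f ≤ (S : Subgroup G).map f := map_mono (PCore.pCore_le_sylow S)
  have eY := hQr (hYQ.trans hQS)
  have eU := hQr (le_sup_left.trans hsup.le)
  have eD := hQr (hD.trans hQS)
  obtain ⟨a, ha, rfl⟩ := ha
  obtain ⟨v, hv, rfl⟩ := hv
  rw [← eU] at hu
  obtain ⟨u, hu, rfl⟩ := hu
  rw [← eD] at hd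
  obtain ⟨d, hd, rfl⟩ := hd
  have hmap : ∀ {X Y : Subgroup G}, X.map f ≤ Y.map f ↔ X ≤ Y := fun {_ _} =>
    map_le_map_iff_of_injective hf
  have : (Y.comap f).Normal := ⟨fun x hx g => by
    rw [mem_comap, map_mul, map_mul, map_inv]
    exact (mem_normalizer_iff.mp (hYn (mem_map_of_mem f (mem_top g))) _).mp hx⟩
  refine mem_map_of_mem f (no_split h hB (Y := Y.comap f) (U' := U'.comap f) (D := D.comap f)
    (hmap.mp (eY.le.trans hYQ)) (hmap.mp (by rw [Subgroup.map_commutator, eY]; exact hQQ))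
    (map_injective hf (by rw [Subgroup.map_sup, eU]; exact hsup))
    (hmap.mp (by rw [Subgroup.map_commutator, eY, eU]; exact hQY))
    (hmap.mp (by rw [Subgroup.map_commutator, eY, eU]; exact hYV)) ?_ ha hu hv hd ?_)
  · intro x hx y hy
    refine hf ?_
    rw [map_mul, map_mul]
    exact hDc hx (f y) hy
  · refine (Subgroup.mem_map_iff_mem hf).mp ?_
    rw [Subgroup.map_sup, Subgroup.map_commutator, PGroup.map_powerClosure, map_mul, map_inv,
      map_commutatorElement, map_mul]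
    exact he

variable {ι : Type v} {C : ι → Cfg Γ} {Sg : Subgroup Γ}

namespace Crit

variable {m : ℕ} {t : ℕ → ι} {e : ℕ → Γ} (F : Fam p Sg C) (hg : Good C m) (hc : Crit C m t e)
  (hsrc : ∀ i, HasSource p (C i))
include F hg hc hsrc

theorem out_short (hm : m = 1) (he : e 0 = 1) : Out C (t 0) (t 1) := by
  subst hm
  intro hU
  have hm0 : (0 : ℕ) < 1 := Nat.one_pos
  set a := t 0
  set i := t 1
  set b := t (1 + 1)
  have hb := F.base a
  have hbi := F.base i
  have hbb := F.base b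
  have he1 := first F hg hc hm0 he
  obtain ⟨hcovA, -, hcov2⟩ := cover F hg hc he
  change cj (e 1) (C b).V ⊔ (C a).Q = Sg at hcovA
  change (C a).V ⊔ cj (e 1) (C b).Q = cj (e 1) Sg at hcov2
  set U' := cj (e 1) (C b).V
  set Q₂ := cj (e 1) (C b).Q
  have hU'i : U' ≤ (C i).Q := right_le_Q F hg hc hm0 he
  have hU'S : U' ≤ Sg := right_le F hg hc he
  have hSN : ∀ j, Sg ≤ normalizer ((C j).Q : Set Γ) := fun j =>
    F.sylow j ▸ (F.base j).SG.trans (F.base j).GQ
  have hS₂N : cj (e 1) Sg ≤ normalizer (Q₂ : Set Γ) := by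
    rw [← cj_normalizer, cj_le_cj]; exact hSN b
  have hi₂ : (C i).Q ≤ cj (e 1) Sg :=
    le_trans (hbi.conj_Q he1.1).ge (cj_le_cj.mpr (F.QS i))
  have hY : cs Sg ((C a).V ⊔ (C i).V) = (C a).Q ⊓ (C i).Q := by rw [cs_sup, F.cs_V a, F.cs_V i]
  set Y := (C a).Q ⊓ (C i).Q
  have hYn : (C a).G ≤ normalizer (Y : Set Γ) := by
    have := Base.normal_cs hb (X := (C a).V ⊔ (C i).V) le_sup_left hU
    rwa [F.sylow a, hY] at this
  have haY : (C a).V ≤ Y := le_inf hb.VQ (F.V_le_Q hg hm0 i a)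
  set D := Y ⊓ Q₂
  have hVn : (C a).V ≤ normalizer (Q₂ : Set Γ) := (le_sup_left.trans hcov2.le).trans hS₂N
  have hYdec : ∀ y ∈ Y, ∃ v ∈ (C a).V, ∃ d ∈ D, v * d = y := by
    intro y hy
    obtain ⟨v, hv, d, hd, rfl⟩ := (Coprime.mem_sup_iff_of_le_normalizer hVn).mp (hcov2.ge (hi₂ hy.2))
    refine ⟨v, hv, d, ⟨?_, hd⟩, rfl⟩
    have := mul_mem (inv_mem (haY hv)) hy
    rwa [inv_mul_cancel_left] at this
  have hDc : U' ≤ centralizer (D : Set Γ) :=
    le_centralizer_iff.mp (inf_le_right.trans (hbb.conj (e 1)).QV)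
  have hconjY : ∀ {x y : Γ}, x ∈ (C a).Q → y ∈ (C i).Q → ⁅x, y⁆ ∈ Y := by
    intro x y hx hy
    refine ⟨?_, ?_⟩
    · rw [commutatorElement_def, show x * y * x⁻¹ * y⁻¹ = x * (y * x⁻¹ * y⁻¹) by group]
      exact mul_mem hx ((mem_normalizer_iff.mp (hSN a (F.QS i hy)) _).mp (inv_mem hx))
    · rw [commutatorElement_def]
      exact (C i).Q.mul_mem ((mem_normalizer_iff.mp (hSN i (F.QS a hx)) y).mp hy) ((C i).Q.inv_mem hy)
  have hQQ : ⁅(C a).Q, (C a).Q⁆ ≤ Y := le_inf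
    (Subgroup.commutator_le_self _)
    (commutator_le.mpr fun x hx y hy =>
      hbi.comm x ((F.sylow i).symm ▸ F.QS a hx) y ((F.sylow i).symm ▸ F.QS a hy))
  have hU'n : U' ≤ normalizer ((C a).Q : Set Γ) := hU'S.trans (hSN a)
  -- the layer is not split
  set R := (C i).Q ⊓ Q₂
  have hZR : cs Sg Sg ≤ R := by
    refine le_inf ((F.center_le_V i).trans hbi.VQ) ((F.center_le_V i).trans ?_)
    rw [← hbi.conj_V he1.1]
    exact cj_le_cj.mpr (F.V_le_Q hg hm0 b i)
  have hQR : ∀ q ∈ (C a).Q, ∀ y ∈ R, ⁅q, y⁆ ∈ R := by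
    intro q hq y hy
    obtain ⟨v, hv, d, hd, evd⟩ := hYdec _ (hconjY hq hy.1)
    obtain ⟨u, hu, q', hq', rfl⟩ := (Coprime.mem_sup_iff_of_le_normalizer hU'n).mp
      (hcovA.ge (F.QS i hy.1))
    have hvZ : v ∈ cs Sg Sg := by
      rw [← F.Zs_eq a]
      refine no_split_ambient (hsrc a) (Y := Y) (U' := U') (D := D) inf_le_left hYn hQQ
        (hcovA.trans (F.sylow a).symm) ?_ ?_ (inf_le_left.trans inf_le_left) hDc hq hu hv hd ?_
      · rw [commutator_comm, commutator_le]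
        exact fun x hx y hy => hconjY hx (hU'i hy)
      · rw [commutator_le]
        intro x hx y hy
        obtain ⟨v', hv', d', hd', rfl⟩ := hYdec y hy
        rw [show ⁅x, v' * d'⁆ = ⁅x, v'⁆ * (v' * ⁅x, d'⁆ * v'⁻¹) by simp only [commutatorElement_def]; group,
          Bracket.eq_one (hDc hx d' hd').symm, mul_one, mul_inv_cancel, mul_one, commutatorElement_def]
        exact hb.ZsV (hb.quad x ((F.sylow a).symm ▸ hU'S hx) v' hv')
      · rw [evd, show ⁅q, u * q'⁆ = ⁅q, u⁆ * (u * ⁅q, q'⁆ * u⁻¹) by simp only [commutatorElement_def]; group,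
          inv_mul_cancel_left]
        refine mem_sup_left ?_
        rw [conjugate_commutatorElement]
        exact commutator_mem_commutator ((mem_normalizer_iff.mp (hU'n hu) q).mp hq)
          ((mem_normalizer_iff.mp (hU'n hu) q').mp hq')
    rw [← evd]
    exact R.mul_mem (hZR hvZ) ⟨hd.1.2, hd.2⟩
  have hRn : ∀ {H : Subgroup Γ}, H ≤ normalizer ((C i).Q : Set Γ) → H ≤ normalizer (Q₂ : Set Γ) →
      H ≤ normalizer (R : Set Γ) := fun h1 h2 x hx => PGroup.mem_normalizer_of_map_conj_eq (by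
    show cj x ((C i).Q ⊓ Q₂) = _
    rw [cj_inf, cj_eq_self_of_mem_normalizer (h1 hx), cj_eq_self_of_mem_normalizer (h2 hx)])
  have hi₂N : cj (e 1) Sg ≤ normalizer ((C i).Q : Set Γ) := by
    conv_rhs => rw [← hbi.conj_Q he1.1]
    rw [← cj_normalizer, cj_le_cj]; exact hSN i
  have hQin : (C i).Q ≤ normalizer (R : Set Γ) :=
    hRn ((F.QS i).trans (hSN i)) (hi₂.trans hS₂N)
  have hGi : (C i).G ≤ normalizer (R : Set Γ) := by
    rw [← ((hbi.dich (e 1) he1.1).resolve_left he1.2).1, F.sylow i]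
    refine sup_le (hcovA.ge.trans (sup_le (hU'i.trans hQin) fun q hq => ?_)) (hRn hi₂N hS₂N)
    refine PGroup.mem_normalizer_of_map_conj_eq (eq_of_le_of_card_ge ?_ (card_cj q R).ge)
    rintro _ ⟨y, hy, rfl⟩
    have := R.mul_mem (hQR q hq y hy) hy
    rwa [commutatorElement_def, inv_mul_cancel_right] at this
  -- so the far module lies in `V_i V_b`
  set R' := (C i).Q ⊓ (C b).Q
  have eR : cj (e 1) R' = R := by
    show cj (e 1) ((C i).Q ⊓ (C b).Q) = _
    rw [cj_inf, hbi.conj_Q he1.1]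
  have eR' : R = R' := PushingUp.cj_inj (e := e 1)
    ((cj_eq_self_of_mem_normalizer (hGi he1.1)).trans eR.symm)
  have hVR : (C i).V ≤ R' := le_inf hbi.VQ (F.V_le_Q hg hm0 b i)
  have hcs : cs Sg R' = (C i).V ⊔ (C b).V := by
    show cs Sg ((C i).Q ⊓ (C b).Q) = _
    rw [← F.cs_V i, ← F.cs_V b, CD.cs_inf F.large ((F.cd_V i).cs F.large) ((F.cd_V b).cs F.large),
      (F.cd_V i).cs_cs F.large, (F.cd_V b).cs_cs F.large]
  have h1 := Base.cs_cj hbi he1.1 hVR
  rw [eR, eR', F.sylow i, hcs] at h1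
  refine moves_one F hg hc he (le_centralizer_iff.mp ?_)
  show U' ≤ centralizer ((C a).V : Set Γ)
  refine le_trans (le_trans (cj_le_cj.mpr le_sup_right) h1.ge) ?_
  exact sup_le (F.V_comm hg hm0 a i) (F.V_comm hg hm0 a b)

/-- The first group does not normalise `U₀ U₁`. -/
theorem out (hm : 0 < m) : Out C (t 0) (t 1) := by
  obtain ⟨e', he', hc'⟩ := hc.normalize
  rcases (by omega : m = 1 ∨ 2 ≤ m) with h1 | h2
  · exact out_short F hg hc' hsrc h1 he'
  · exact out_long F hg hc' h2 he'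

end Crit

end Cfsg.Agent.PU2
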