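import Cfsg.Agent.Lib.PushingUp2.Bracket

/-!
# The pairing lemma

`G` normalises `V ≤ T ≤ W ≤ C_S(T)` with `[W, C_S(T)] ≤ T`.  For a self-centralising `A ⊄ Q` and its
translate by a moved element, commutators of the two halves that lie in `Z(S)` are fixed by `G`.

* `pl`, `trivial_of`
* `small`, `key`: when `T = V`
-/

set_option autoImplicit false
set_option linter.unusedSectionVars false

namespace Cfsg.Agent.PU2

open Subgroup
open PushingUp (Cfg Base card_cj cj_inf cj_centralizer cj_sup cj_le_cj cj_one mem_cj_conj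
  cj_eq_self_of_mem_normalizer)
open FFPair (cj mem_cj cj_cj)
open scoped commutatorElement

universe u

variable {Γ : Type u} [Group Γ] {p : ℕ}

/-- The data of the pairing. -/
structure Pair (c : Cfg Γ) (A T W : Subgroup Γ) (g : Γ) : Prop where
  max : MaxAb c.S A
  not_le : ¬ A ≤ c.Q
  memG : g ∈ c.G
  mov : cj g c.Zs ≠ c.Zs
  cdT : CD c.S T
  VT : c.V ≤ T
  commT : T ≤ centralizer (T : Set Γ)
  GT : c.G ≤ normalizer (T : Set Γ)
  cdW : CD c.S W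
  TW : T ≤ W
  WY : W ≤ cs c.S T
  GW : c.G ≤ normalizer (W : Set Γ)
  br : ∀ x ∈ W, ∀ y ∈ cs c.S T, ⁅x, y⁆ ∈ T

/-- `T (A ∩ W)`. -/
def pb (A T W : Subgroup Γ) : Subgroup Γ := T ⊔ (A ⊓ W)

/-- `C_S(T (A ∩ W))`. -/
def pc (S A T W : Subgroup Γ) : Subgroup Γ := cs S W ⊔ (A ⊓ cs S T)

/-- The meet of the two halves. -/
def pI (A T W : Subgroup Γ) (g : Γ) : Subgroup Γ := pb A T W ⊓ cj g (pb A T W)

/-- The meet of the centralisers of the two halves. -/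
def pJ (S A T W : Subgroup Γ) (g : Γ) : Subgroup Γ := pc S A T W ⊓ cj g (pc S A T W)

/-- The join of the centralisers of the two halves. -/
def pN (S A T W : Subgroup Γ) (g : Γ) : Subgroup Γ := pc S A T W ⊔ cj g (pc S A T W)

/-- The join of the two halves. -/
def pM (A T W : Subgroup Γ) (g : Γ) : Subgroup Γ := pb A T W ⊔ cj g (pb A T W)

variable [Finite Γ] {c : Cfg Γ} {A T W : Subgroup Γ} {g : Γ}
  (h : Base p c) (hS : Large c.S) (d : Pair c A T W g)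
include h hS d

namespace Pair

local notation "Y" => cs c.S T
local notation "P" => cs c.S W

theorem TY : T ≤ Y := le_inf d.cdT.1 d.commT

theorem TP : T ≤ P := le_inf d.cdT.1 (le_centralizer_iff.mp (d.WY.trans inf_le_right))

theorem VW : c.V ≤ W := d.VT.trans d.TW

theorem VP : c.V ≤ P := d.VT.trans (d.TP h hS)

theorem PY : P ≤ Y := cs_antitone d.TW

theorem YQ : Y ≤ c.Q := Base.cs_le_Q h d.VT

theorem WQ : W ≤ c.Q := d.WY.trans (d.YQ h hS)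

theorem TQ : T ≤ c.Q := d.TW.trans (d.WQ h hS)

theorem cdY : CD c.S Y := d.cdT.cs hS

theorem GY : c.G ≤ normalizer (Y : Set Γ) := Base.normal_cs h d.VT d.GT

theorem GP : c.G ≤ normalizer (P : Set Γ) := Base.normal_cs h (d.VW h hS) d.GW

theorem bracket : Bracket W Y T where
  mem := d.br
  commW := fun t ht x hx => ((mem_cs.mp (d.WY hx)).2 t ht).symm
  commY := fun t ht y hy => ((mem_cs.mp hy).2 t ht).symm
  commT := fun t ht t' ht' => d.commT ht' t ht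

theorem cd_b : CD c.S (pb A T W) := d.cdT.sup hS (d.max.1.inf hS d.cdW)

theorem b_le : pb A T W ≤ W := sup_le d.TW inf_le_right

theorem c_le : pc c.S A T W ≤ Y := sup_le (d.PY h hS) inf_le_right

theorem cs_b : cs c.S (pb A T W) = pc c.S A T W := by
  rw [pb, cs_sup, d.max.1.cs_inf hS d.cdW, d.max.2, pc, inf_comm, sup_comm A,
    (d.cdW.cs hS).modular hS d.max.1 (d.PY h hS)]

theorem cd_c : CD c.S (pc c.S A T W) := d.cs_b h hS ▸ (d.cd_b h hS).cs hS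

theorem cs_c : cs c.S (pc c.S A T W) = pb A T W := by
  rw [← d.cs_b h hS]
  exact (d.cd_b h hS).cs_cs hS

theorem cd_b' {k : Γ} (hk : k ∈ c.G) : CD c.S (cj k (pb A T W)) :=
  Base.cd_cj h hk (d.cd_b h hS) (d.VT.trans le_sup_left) ((d.b_le h hS).trans (d.WQ h hS))

theorem cd_c' {k : Γ} (hk : k ∈ c.G) : CD c.S (cj k (pc c.S A T W)) :=
  Base.cd_cj h hk (d.cd_c h hS) ((d.VP h hS).trans le_sup_left) ((d.c_le h hS).trans (d.YQ h hS))

theorem cs_b' {k : Γ} (hk : k ∈ c.G) : cs c.S (cj k (pb A T W)) = cj k (pc c.S A T W) := by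
  rw [Base.cs_cj (X := pb A T W) h hk (d.VT.trans le_sup_left), d.cs_b h hS]

theorem cs_c' {k : Γ} (hk : k ∈ c.G) : cs c.S (cj k (pc c.S A T W)) = cj k (pb A T W) := by
  rw [Base.cs_cj (X := pc c.S A T W) h hk ((d.VP h hS).trans le_sup_left), d.cs_c h hS]

theorem cj_b_le {k : Γ} (hk : k ∈ c.G) : cj k (pb A T W) ≤ W :=
  (cj_le_cj.mpr (d.b_le h hS)).trans (cj_eq_self_of_mem_normalizer (d.GW hk)).le

theorem cj_c_le {k : Γ} (hk : k ∈ c.G) : cj k (pc c.S A T W) ≤ Y :=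
  (cj_le_cj.mpr (d.c_le h hS)).trans (cj_eq_self_of_mem_normalizer (d.GY h hS hk)).le

theorem conjY {k y : Γ} (hk : k ∈ c.G) (hy : y ∈ Y) : k * y * k⁻¹ ∈ Y :=
  (mem_normalizer_iff.mp (d.GY h hS hk) y).mp hy

theorem conjW {k x : Γ} (hk : k ∈ c.G) (hx : x ∈ W) : k * x * k⁻¹ ∈ W :=
  (mem_normalizer_iff.mp (d.GW hk) x).mp hx

theorem cs_I : cs c.S (pI A T W g) = pN c.S A T W g := by
  rw [pI, (d.cd_b h hS).cs_inf hS (d.cd_b' h hS d.memG), d.cs_b h hS, d.cs_b' h hS d.memG, pN]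

theorem cs_J : cs c.S (pJ c.S A T W g) = pM A T W g := by
  rw [pJ, (d.cd_c h hS).cs_inf hS (d.cd_c' h hS d.memG), d.cs_c h hS, d.cs_c' h hS d.memG, pM]

theorem memG_A {a : Γ} (ha : a ∈ A) : a ∈ c.G := h.SG (d.max.le ha)

theorem memG_A' {a : Γ} (ha : a ∈ cj g A) : a ∈ c.G := by
  obtain ⟨a₀, ha₀, rfl⟩ := ha
  exact mul_mem (mul_mem d.memG (d.memG_A h hS ha₀)) (inv_mem d.memG)

theorem fix_b {a x : Γ} (ha : a ∈ A) (hx : x ∈ pb A T W) : a * x * a⁻¹ * x⁻¹ ∈ T := by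
  obtain ⟨t, ht, x₀, hx₀, rfl⟩ := d.cdT.mem_sup hS (d.max.1.inf hS d.cdW) hx
  rw [show a * (t * x₀) * a⁻¹ * (t * x₀)⁻¹ = a * t * a⁻¹ * ((a * x₀ * a⁻¹ * x₀⁻¹) * t⁻¹) by group,
    d.max.mul_comm ha hx₀.1, mul_inv_cancel_right, mul_inv_cancel, one_mul]
  exact mul_mem ((mem_normalizer_iff.mp (d.GT (d.memG_A h hS ha)) t).mp ht) (inv_mem ht)

theorem fix_c {a x : Γ} (ha : a ∈ A) (hx : x ∈ pc c.S A T W) : a * x * a⁻¹ * x⁻¹ ∈ P := by
  obtain ⟨t, ht, x₀, hx₀, rfl⟩ := (d.cdW.cs hS).mem_sup hS (d.max.1.inf hS (d.cdY h hS)) hx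
  rw [show a * (t * x₀) * a⁻¹ * (t * x₀)⁻¹ = a * t * a⁻¹ * ((a * x₀ * a⁻¹ * x₀⁻¹) * t⁻¹) by group,
    d.max.mul_comm ha hx₀.1, mul_inv_cancel_right, mul_inv_cancel, one_mul]
  exact mul_mem ((mem_normalizer_iff.mp (d.GP h hS (d.memG_A h hS ha)) t).mp ht) (inv_mem ht)

theorem fix_b' {a x : Γ} (ha : a ∈ cj g A) (hx : x ∈ cj g (pb A T W)) : a * x * a⁻¹ * x⁻¹ ∈ T := by
  obtain ⟨a₀, ha₀, rfl⟩ := ha
  obtain ⟨x₀, hx₀, rfl⟩ := hx
  simp only [MulEquiv.coe_toMonoidHom, MulAut.conj_apply]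
  rw [show g * a₀ * g⁻¹ * (g * x₀ * g⁻¹) * (g * a₀ * g⁻¹)⁻¹ * (g * x₀ * g⁻¹)⁻¹ =
    g * (a₀ * x₀ * a₀⁻¹ * x₀⁻¹) * g⁻¹ by group]
  exact (mem_normalizer_iff.mp (d.GT d.memG) _).mp (d.fix_b h hS ha₀ hx₀)

theorem fix_c' {a x : Γ} (ha : a ∈ cj g A) (hx : x ∈ cj g (pc c.S A T W)) :
    a * x * a⁻¹ * x⁻¹ ∈ P := by
  obtain ⟨a₀, ha₀, rfl⟩ := ha
  obtain ⟨x₀, hx₀, rfl⟩ := hx
  simp only [MulEquiv.coe_toMonoidHom, MulAut.conj_apply]
  rw [show g * a₀ * g⁻¹ * (g * x₀ * g⁻¹) * (g * a₀ * g⁻¹)⁻¹ * (g * x₀ * g⁻¹)⁻¹ =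
    g * (a₀ * x₀ * a₀⁻¹ * x₀⁻¹) * g⁻¹ by group]
  exact (mem_normalizer_iff.mp (d.GP h hS d.memG) _).mp (d.fix_c h hS ha₀ hx₀)

/-- Both `A` and its translate fix `pI` modulo `T`. -/
theorem fix_I {a x : Γ} (ha : a ∈ A ∨ a ∈ cj g A) (hx : x ∈ pI A T W g) :
    a * x * a⁻¹ * x⁻¹ ∈ T :=
  ha.elim (fun ha => d.fix_b h hS ha hx.1) (fun ha => d.fix_b' h hS ha hx.2)

/-- Both `A` and its translate fix `pJ` modulo `C_S(W)`. -/
theorem fix_J {a x : Γ} (ha : a ∈ A ∨ a ∈ cj g A) (hx : x ∈ pJ c.S A T W g) :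
    a * x * a⁻¹ * x⁻¹ ∈ P :=
  ha.elim (fun ha => d.fix_c h hS ha hx.1) (fun ha => d.fix_c' h hS ha hx.2)

theorem T_le_I : T ≤ pI A T W g :=
  le_inf le_sup_left ((cj_eq_self_of_mem_normalizer (d.GT d.memG)).ge.trans (cj_le_cj.mpr le_sup_left))

theorem P_le_J : P ≤ pJ c.S A T W g :=
  le_inf le_sup_left
    ((cj_eq_self_of_mem_normalizer (d.GP h hS d.memG)).ge.trans (cj_le_cj.mpr le_sup_left))

theorem mem_norm_I {a : Γ} (ha : a ∈ A ∨ a ∈ cj g A) :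
    a ∈ normalizer (pI A T W g : Set Γ) := by
  refine PGroup.mem_normalizer_of_map_conj_eq (eq_of_le_of_card_ge ?_ (card_cj a _).ge)
  rintro _ ⟨x, hx, rfl⟩
  have := mul_mem (d.T_le_I h hS (d.fix_I h hS ha hx)) hx
  rwa [inv_mul_cancel_right] at this

theorem mem_norm_J {a : Γ} (ha : a ∈ A ∨ a ∈ cj g A) :
    a ∈ normalizer (pJ c.S A T W g : Set Γ) := by
  refine PGroup.mem_normalizer_of_map_conj_eq (eq_of_le_of_card_ge ?_ (card_cj a _).ge)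
  rintro _ ⟨x, hx, rfl⟩
  have := mul_mem (d.P_le_J h hS (d.fix_J h hS ha hx)) hx
  rwa [inv_mul_cancel_right] at this

theorem conj_N {a n : Γ} (ha : a ∈ A ∨ a ∈ cj g A) (hn : n ∈ pN c.S A T W g) :
    a * n * a⁻¹ ∈ pN c.S A T W g := by
  have haG := ha.elim (d.memG_A h hS) (d.memG_A' h hS)
  rw [← d.cs_I h hS] at hn ⊢
  rw [← cj_eq_self_of_mem_normalizer (d.mem_norm_I h hS ha), Base.cs_cj h haG (d.VT.trans (d.T_le_I h hS))]
  exact mem_cj_conj hn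

theorem conj_M {a n : Γ} (ha : a ∈ A ∨ a ∈ cj g A) (hn : n ∈ pM A T W g) :
    a * n * a⁻¹ ∈ pM A T W g := by
  have haG := ha.elim (d.memG_A h hS) (d.memG_A' h hS)
  rw [← d.cs_J h hS] at hn ⊢
  rw [← cj_eq_self_of_mem_normalizer (d.mem_norm_J h hS ha),
    Base.cs_cj h haG ((d.VP h hS).trans (d.P_le_J h hS))]
  exact mem_cj_conj hn

theorem commPW {x y : Γ} (hx : x ∈ W) (hy : y ∈ P) : ⁅x, y⁆ = 1 :=
  Bracket.eq_one ((mem_cs.mp hy).2 x hx)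

theorem commTY {x y : Γ} (hx : x ∈ T) (hy : y ∈ Y) : ⁅x, y⁆ = 1 :=
  Bracket.eq_one ((mem_cs.mp hy).2 x hx)

theorem commbc {x y : Γ} (hx : x ∈ pb A T W) (hy : y ∈ pc c.S A T W) : ⁅x, y⁆ = 1 := by
  rw [← d.cs_b h hS] at hy
  exact Bracket.eq_one ((mem_cs.mp hy).2 x hx)

theorem commbc' {x y : Γ} (hx : x ∈ cj g (pb A T W)) (hy : y ∈ cj g (pc c.S A T W)) : ⁅x, y⁆ = 1 := by
  rw [← d.cs_b' h hS d.memG] at hy
  exact Bracket.eq_one ((mem_cs.mp hy).2 x hx)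

/-- `[x, n]^a` for `a ∈ A`. -/
theorem conj_left {a x n : Γ} (ha : a ∈ A) (hx : x ∈ pb A T W) (hn : n ∈ Y) :
    a * ⁅x, n⁆ * a⁻¹ = ⁅x, a * n * a⁻¹⁆ := by
  have hxW := d.b_le h hS hx
  have hn' := d.conjY h hS (d.memG_A h hS ha) hn
  have e : a * x * a⁻¹ = (a * x * a⁻¹ * x⁻¹) * x := by group
  rw [conjugate_commutatorElement, e,
    (d.bracket h hS).mul_left (d.TW (d.fix_b h hS ha hx)) hxW hn',
    d.commTY h hS (d.fix_b h hS ha hx) hn', one_mul]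

/-- `[x, n]^a` for `a` in the translate. -/
theorem conj_right {a x n : Γ} (ha : a ∈ cj g A) (hx : x ∈ W) (hn : n ∈ cj g (pc c.S A T W)) :
    a * ⁅x, n⁆ * a⁻¹ = ⁅a * x * a⁻¹, n⁆ := by
  have hn' := d.cj_c_le h hS d.memG hn
  have hx' := d.conjW h hS (d.memG_A' h hS ha) hx
  have e : a * n * a⁻¹ = (a * n * a⁻¹ * n⁻¹) * n := by group
  rw [conjugate_commutatorElement, e,
    (d.bracket h hS).mul_right hx' (d.PY h hS (d.fix_c' h hS ha hn)) hn',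
    d.commPW h hS hx' (d.fix_c' h hS ha hn), one_mul]

/-- **The pairing lemma.** -/
theorem pl {x n : Γ} (hx : x ∈ pb A T W) (hn : n ∈ cj g (pc c.S A T W))
    (hv : ⁅x, n⁆ ∈ c.Zs) : ⁅x, n⁆ ∈ c.Z := by
  have hxW := d.b_le h hS hx
  have hnY := d.cj_c_le h hS d.memG hn
  obtain ⟨a₁, ha₁, ha₁S, ha₁Q⟩ := Base.exists_not_mem h hS d.max d.not_le
  set b := g * a₁ * g⁻¹
  have hb : b ∈ cj g A := mem_cj_conj ha₁
  have hbG := d.memG_A' h hS hb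
  have hbQ : b ∉ c.Q := fun hq => ha₁Q (by
    have := mem_cj.mp ((h.conj_Q d.memG).ge hq)
    simpa [b, mul_assoc] using this)
  refine Base.mem_Z h d.memG d.mov (mem_cj_conj ha₁S : b ∈ cj g c.S) hbQ hv ?_
  have hvV : b * ⁅x, n⁆ * b⁻¹ ∈ c.V := h.conjV hbG (h.ZsV hv)
  rw [← h.fixed_eq]
  refine ⟨hvV, ?_⟩
  have hle : A ⊔ c.Q ≤ centralizer ({b * ⁅x, n⁆ * b⁻¹} : Set Γ) := by
    refine sup_le ?_ fun q hq => ?_
    · intro a ha
      rw [mem_centralizer_iff]; intro _ hu; rw [Set.mem_singleton_iff.mp hu]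
      refine (mul_inv_eq_iff_eq_mul.mp ?_).symm
      have hx₁ : b * x * b⁻¹ ∈ pM A T W g :=
        d.conj_M h hS (Or.inr hb) (le_sup_left (b := cj g (pb A T W)) hx)
      obtain ⟨x₁, hx₁b, x₂, hx₂, ex⟩ := (d.cd_b h hS).mem_sup hS (d.cd_b' h hS d.memG) hx₁
      have hx₁W := d.b_le h hS hx₁b
      have hx₂W := d.cj_b_le h hS d.memG hx₂
      obtain ⟨q, hq, q', hq', en⟩ := (d.cd_c h hS).mem_sup hS (d.cd_c' h hS d.memG)
        (d.conj_N h hS (Or.inl ha) (le_sup_right (a := pc c.S A T W) hn))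
      have hqY := d.c_le h hS hq
      have hq'Y := d.cj_c_le h hS d.memG hq'
      have e1 : b * ⁅x, n⁆ * b⁻¹ = ⁅x₁, n⁆ := by
        rw [d.conj_right h hS hb hxW hn, ← ex, (d.bracket h hS).mul_left hx₁W hx₂W hnY,
          d.commbc' h hS hx₂ hn, mul_one]
      have e2 : ⁅x, q'⁆ = ⁅x, n⁆ := by
        rw [show ⁅x, q'⁆ = ⁅x, q * q'⁆ by
          rw [(d.bracket h hS).mul_right hxW hqY hq'Y, d.commbc h hS hx hq, one_mul], en,
          ← d.conj_left h hS ha hx hnY]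
        exact h.Zs_central hv (d.max.le ha)
      have e3 : b * ⁅x, q'⁆ * b⁻¹ = ⁅x₁, q'⁆ := by
        rw [d.conj_right h hS hb hxW hq', ← ex, (d.bracket h hS).mul_left hx₁W hx₂W hq'Y,
          d.commbc' h hS hx₂ hq', mul_one]
      rw [e1, d.conj_left h hS ha hx₁b hnY, ← en, (d.bracket h hS).mul_right hx₁W hqY hq'Y,
        d.commbc h hS hx₁b hq, one_mul, ← e3, e2, e1]
    · rw [mem_centralizer_iff]; intro _ hu; rw [Set.mem_singleton_iff.mp hu]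
      exact h.QV hq _ hvV
  intro s hs
  exact (hle ((Base.sup_Q h hS d.max d.not_le).ge hs) _ rfl).symm

/-- An element of `A ∩ W` whose commutators are central and meet `Z` trivially centralises `C_S(T)`. -/
theorem trivial_of {w : Γ} (hw : w ∈ A) (hwW : w ∈ W) (hwY : ∀ y ∈ Y, ⁅w, y⁆ ∈ c.Zs)
    (hwZ : ∀ y ∈ Y, ⁅w, y⁆ ∈ c.Z → ⁅w, y⁆ = 1) : ∀ y ∈ Y, ⁅w, y⁆ = 1 := by
  have hwb : w ∈ pb A T W := mem_sup_right ⟨hw, hwW⟩
  have hwI : w ∈ cs c.S (pN c.S A T W g) := by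
    rw [pN, cs_sup]
    refine ⟨(d.cs_c h hS).ge hwb, mem_cs.mpr ⟨d.max.le hw, fun n hn => ?_⟩⟩
    have hnY := d.cj_c_le h hS d.memG hn
    exact (commutatorElement_eq_one_iff_mul_comm.mp
      (hwZ n hnY (d.pl h hS hwb hn (hwY n hnY)))).symm
  rw [pN, cs_sup, d.cs_c h hS, d.cs_c' h hS d.memG] at hwI
  obtain ⟨a₁, ha₁, ha₁S, ha₁Q⟩ := Base.exists_not_mem h hS d.max d.not_le
  set b := g * a₁ * g⁻¹
  have hb : b ∈ cj g A := mem_cj_conj ha₁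
  have hbG := d.memG_A' h hS hb
  intro y hy
  refine hwZ y hy (Base.mem_Z h d.memG d.mov (mem_cj_conj ha₁S : b ∈ cj g c.S) (fun hq => ha₁Q ?_)
    (hwY y hy) ?_)
  · have := mem_cj.mp ((h.conj_Q d.memG).ge hq)
    simpa [b, mul_assoc] using this
  · have hy' := d.conjY h hS hbG hy
    rw [conjugate_commutatorElement, show b * w * b⁻¹ = (b * w * b⁻¹ * w⁻¹) * w by group,
      (d.bracket h hS).mul_left (d.TW (d.fix_b' h hS hb hwI.2)) hwW hy',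
      d.commTY h hS (d.fix_b' h hS hb hwI.2) hy', one_mul]
    exact hwY _ hy'

end Pair

end Cfsg.Agent.PU2
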