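import Cfsg.Agent.Lib.PushingUp2.Pairing

/-!
# The pairing lemma over `V`

* `small`: the meet of the halves brackets with its centraliser into `Z`
* `key`: for `x ∈ W` with `[x, S] ≤ Z(S)`, conjugation by `G` changes `[x, y]` inside `Z` only
-/

set_option autoImplicit false
set_option linter.unusedSectionVars false

namespace Cfsg.Agent.PU2

open Subgroup
open PushingUp (Cfg Base card_cj cj_inf cj_centralizer cj_sup cj_le_cj cj_one mem_cj_conj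
  cj_eq_self_of_mem_normalizer)
open FFPair (cj mem_cj cj_cj)
open scoped commutatorElement

universe u

variable {Γ : Type u} [Group Γ] [Finite Γ] {p : ℕ} {c : Cfg Γ} {A W : Subgroup Γ} {g : Γ}
  (h : Base p c) (hS : Large c.S)
include h hS

/-- `[v, A] ≤ Z` puts `v` into `Z(S)`. -/
theorem Base.mem_Zs {a v : Γ} (ha : a ∈ c.S) (haQ : a ∉ c.Q) (hv : v ∈ c.V)
    (hz : a * v * a⁻¹ * v⁻¹ ∈ c.Z) : v ∈ c.Zs := h.sharp a ha haQ v hv hz

/-- A subgroup of `V` normalised by `G` of order at most `|V : Z(S)|` is fixed by `G`. -/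
theorem Base.small_le_Z {Φ : Subgroup Γ} (hA : MaxAb c.S A) (hAQ : ¬ A ≤ c.Q) (hg : g ∈ c.G)
    (hmov : cj g c.Zs ≠ c.Zs) (hΦ : Φ ≤ c.V) (hinv : ∀ k ∈ c.G, ∀ v ∈ Φ, k * v * k⁻¹ ∈ Φ)
    (hcard : Nat.card ↥Φ * Nat.card ↥c.Zs ≤ Nat.card ↥c.V) : Φ ≤ c.Z := by
  have hle : Φ ≤ c.Zs := by
    by_contra hc
    obtain ⟨v, hv, hvZ⟩ := SetLike.not_le_iff_exists.mp hc
    have h1 : c.Zs ≤ Φ ⊔ c.Z := by
      intro z hz
      obtain ⟨a, ha, har⟩ := h.elem_cover (hΦ hv) hvZ hz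
      have h2 := mul_mem_sup (Φ.mul_mem (hinv a (h.SG ha) v hv) (Φ.inv_mem hv)) har
      rwa [mul_inv_cancel_left] at h2
    have h2 : Nat.card ↥c.Zs < Nat.card ↥(Φ ⊔ c.Z : Subgroup Γ) :=
      lt_of_not_ge fun hle => hvZ
        ((eq_of_le_of_card_ge h1 hle).ge (mem_sup_left hv))
    have hn : Φ ≤ normalizer (c.Z : Set Γ) := fun x hx => centralizer_le_normalizer _ fun z hz =>
      h.V_comm (h.ZsV (h.Z_le_Zs hz)) (hΦ hx)
    have h3 := Offender.card_sup_mul_card_inf hn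
    have h4 : Nat.card ↥(Φ ⊔ c.Z : Subgroup Γ) ≤ Nat.card ↥Φ * Nat.card ↥c.Z := by
      rw [← h3]
      exact Nat.le_mul_of_pos_right _ Nat.card_pos
    refine absurd (lt_of_lt_of_le h2 h4) (not_lt.mpr ?_)
    refine Nat.le_of_mul_le_mul_right ?_ (Nat.mul_pos (Nat.card_pos (α := ↥c.Zs))
      (Nat.card_pos (α := ↥c.Q)))
    calc Nat.card ↥Φ * Nat.card ↥c.Z * (Nat.card ↥c.Zs * Nat.card ↥c.Q)
        = (Nat.card ↥Φ * Nat.card ↥c.Zs) * Nat.card ↥c.Q * Nat.card ↥c.Z := by ring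
      _ ≤ Nat.card ↥c.V * Nat.card ↥c.Q * Nat.card ↥c.Z :=
        Nat.mul_le_mul_right _ (Nat.mul_le_mul_right _ hcard)
      _ = Nat.card ↥c.Zs * (Nat.card ↥c.S * Nat.card ↥c.Z) := by rw [h.cardV]; ring
      _ = Nat.card ↥c.Zs * (Nat.card ↥c.Zs * Nat.card ↥c.Q) := by rw [h.cardZs]
  obtain ⟨a, ha, haS, haQ⟩ := Base.exists_not_mem h hS hA hAQ
  intro v hv
  refine Base.mem_Z h hg hmov (mem_cj_conj haS) (fun hq => haQ ?_) (hle hv)
    (hle (hinv _ (mul_mem (mul_mem hg (h.SG haS)) (inv_mem hg)) v hv))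
  have := mem_cj.mp ((h.conj_Q hg).ge hq)
  simpa [mul_assoc] using this

variable (d : Pair c A c.V W g)
include d

namespace Pair

theorem bracketQ : Bracket W c.Q c.V := Base.cs_V h ▸ d.bracket h hS

theorem c_le_Q : pc c.S A c.V W ≤ c.Q := (d.c_le h hS).trans (Base.cs_V h).le

theorem cj_c_le_Q {k : Γ} (hk : k ∈ c.G) : cj k (pc c.S A c.V W) ≤ c.Q :=
  (d.cj_c_le h hS hk).trans (Base.cs_V h).le

omit hS d in
theorem mov_inv (hg : g ∈ c.G) (hm : cj g c.Zs ≠ c.Zs) : cj g⁻¹ c.Zs ≠ c.Zs := fun e => hm (by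
  conv_lhs => rw [← e]
  rw [cj_cj, mul_inv_cancel, cj_one])

theorem inv : Pair c A c.V W g⁻¹ :=
  { d with memG := inv_mem d.memG, mov := mov_inv h d.memG d.mov }

theorem left_le_Z {x n : Γ} (hx : x ∈ pb A c.V W) (hn : n ∈ cj g (pc c.S A c.V W)) :
    ⁅x, n⁆ ∈ c.Z := by
  have hxW := d.b_le h hS hx
  have hnY := d.cj_c_le h hS d.memG hn
  obtain ⟨a, ha, haS, haQ⟩ := Base.exists_not_mem h hS d.max d.not_le
  refine d.pl h hS hx hn (Base.mem_Zs h hS haS haQ (d.br x hxW n hnY) ?_)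
  obtain ⟨q, hq, q', hq', en⟩ := (d.cd_c h hS).mem_sup hS (d.cd_c' h hS d.memG)
    (d.conj_N h hS (Or.inl ha) (le_sup_right (a := pc c.S A c.V W) hn))
  have hq'Y := d.cj_c_le h hS d.memG hq'
  have e : a * ⁅x, n⁆ * a⁻¹ * ⁅x, n⁆⁻¹ = ⁅x, q' * n⁻¹⁆ := by
    rw [d.conj_left h hS ha hx hnY, ← en, (d.bracket h hS).mul_right hxW (d.c_le h hS hq) hq'Y,
      d.commbc h hS hx hq, one_mul, (d.bracket h hS).mul_right hxW hq'Y (inv_mem hnY),
      (d.bracket h hS).inv_right hxW hnY]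
  rw [e]
  exact d.pl h hS hx (mul_mem hq' (inv_mem hn)) (e ▸ h.quad a haS _ (d.br x hxW n hnY))

/-- `[pM, pN] ≤ Z`. -/
theorem MN_le_Z {x n : Γ} (hx : x ∈ pM A c.V W g) (hn : n ∈ pN c.S A c.V W g) : ⁅x, n⁆ ∈ c.Z := by
  obtain ⟨x₁, hx₁, x₂, hx₂, rfl⟩ := (d.cd_b h hS).mem_sup hS (d.cd_b' h hS d.memG) hx
  obtain ⟨q, hq, q', hq', rfl⟩ := (d.cd_c h hS).mem_sup hS (d.cd_c' h hS d.memG) hn
  have hx₁W := d.b_le h hS hx₁
  have hx₂W := d.cj_b_le h hS d.memG hx₂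
  have hqY := d.c_le h hS hq
  have hq'Y := d.cj_c_le h hS d.memG hq'
  rw [(d.bracket h hS).mul_left hx₁W hx₂W (mul_mem hqY hq'Y),
    (d.bracket h hS).mul_right hx₁W hqY hq'Y, (d.bracket h hS).mul_right hx₂W hqY hq'Y,
    d.commbc h hS hx₁ hq, d.commbc' h hS hx₂ hq', one_mul, mul_one]
  refine mul_mem (d.left_le_Z h hS hx₁ hq') ?_
  have h1 := (d.inv h hS).left_le_Z h hS (x := g⁻¹ * x₂ * g) (n := g⁻¹ * q * g) (mem_cj.mp hx₂)
    (mem_cj.mpr (by rw [inv_inv]; convert hq using 1; group))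
  rw [show ⁅x₂, q⁆ = g * ⁅g⁻¹ * x₂ * g, g⁻¹ * q * g⁆ * g⁻¹ by
    simp only [commutatorElement_def]; group, h.Z_central h1 d.memG]
  exact h1

/-- If `G` fixes `X` modulo `X₀` then `[X, C_S(X₀)] ≤ Z`. -/
theorem small {X₀ : Subgroup Γ} (hX₀ : CD c.S X₀) (hV₀ : c.V ≤ X₀) (hn₀ : c.G ≤ normalizer (X₀ : Set Γ))
    {X : Subgroup Γ} (hX : CD c.S X) (h₀X : X₀ ≤ X) (hXQ : X ≤ c.Q) (hXA : X ≤ X₀ ⊔ A)
    (hfix : ∀ k ∈ c.G, ∀ x ∈ X, k * x * k⁻¹ * x⁻¹ ∈ X₀) (hb : Bracket X (cs c.S X₀) c.V) :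
    ∀ x ∈ X, ∀ n ∈ cs c.S X₀, ⁅x, n⁆ ∈ c.Z := by
  suffices ∀ m (X : Subgroup Γ), Nat.card ↥X ≤ m → CD c.S X → X₀ ≤ X → X ≤ c.Q → X ≤ X₀ ⊔ A →
      (∀ k ∈ c.G, ∀ x ∈ X, k * x * k⁻¹ * x⁻¹ ∈ X₀) → Bracket X (cs c.S X₀) c.V →
      ∀ x ∈ X, ∀ n ∈ cs c.S X₀, ⁅x, n⁆ ∈ c.Z from this _ X le_rfl hX h₀X hXQ hXA hfix hb
  intro m
  induction m with
  | zero => exact fun X hm => absurd hm (_root_.not_le.mpr Nat.card_pos)
  | succ m ih =>
    intro X hm hX h₀X hXQ hXA hfix hb x hx n hn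
    set N := cs c.S X₀ with hNdef
    have hN₁ : ∀ X₁ : Subgroup Γ, X₀ ≤ X₁ → cs c.S X₁ ≤ N := fun _ h1 => cs_antitone h1
    have hGN : c.G ≤ normalizer (N : Set Γ) := Base.normal_cs h hV₀ hn₀
    have hcX₀ : ∀ {z y : Γ}, z ∈ X₀ → y ∈ N → ⁅z, y⁆ = 1 := fun hz hy =>
      Bracket.eq_one ((mem_cs.mp hy).2 _ hz)
    have hconj : ∀ k ∈ c.G, ∀ z ∈ X, ∀ y ∈ N, k * ⁅z, y⁆ * k⁻¹ = ⁅z, k * y * k⁻¹⁆ := by
      intro k hk z hz y hy
      have hy' : k * y * k⁻¹ ∈ N := (mem_normalizer_iff.mp (hGN hk) y).mp hy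
      rw [conjugate_commutatorElement, show k * z * k⁻¹ = (k * z * k⁻¹ * z⁻¹) * z by group,
        hb.mul_left (h₀X (hfix k hk z hz)) hz hy', hcX₀ (hfix k hk z hz) hy', one_mul]
    -- if all commutators of `x` are central they are fixed
    by_cases hall : ∀ y ∈ N, ⁅x, y⁆ ∈ c.Zs
    · obtain ⟨a, ha, haS, haQ⟩ := Base.exists_not_mem h hS d.max d.not_le
      have hbG : g * a * g⁻¹ ∈ c.G := mul_mem (mul_mem d.memG (h.SG haS)) (inv_mem d.memG)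
      refine Base.mem_Z h d.memG d.mov (mem_cj_conj haS) (fun hq => haQ ?_) (hall n hn) ?_
      · have := mem_cj.mp ((h.conj_Q d.memG).ge hq)
        simpa [mul_assoc] using this
      · rw [hconj _ hbG x hx n hn]
        exact hall _ ((mem_normalizer_iff.mp (hGN hbG) n).mp hn)
    push Not at hall
    obtain ⟨n₀, hn₀', hne⟩ := hall
    have hn₀S : n₀⁻¹ ∈ c.S := inv_mem (cs_le hn₀')
    set A' := cj n₀⁻¹ A
    set X₁ := X₀ ⊔ (A ⊓ A' ⊓ X)
    have hX₁ : CD c.S X₁ := hX₀.sup hS ((d.max.1.inf hS (d.max.1.cj_mem hn₀S)).inf hS hX)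
    have h₁X : X₁ ≤ X := sup_le h₀X inf_le_right
    have hX₁n : ∀ k ∈ c.G, k ∈ normalizer (X₁ : Set Γ) := fun k hk => by
      refine PGroup.mem_normalizer_of_map_conj_eq (eq_of_le_of_card_ge ?_ (card_cj k _).ge)
      rintro _ ⟨z, hz, rfl⟩
      have := mul_mem ((le_sup_left : X₀ ≤ X₁) (hfix k hk z (h₁X hz))) hz
      rwa [inv_mul_cancel_right] at this
    have hX₁Zs : ∀ z ∈ X₁, ⁅z, n₀⁆ ∈ c.Zs := by
      intro z hz
      obtain ⟨z₀, hz₀, a, ⟨⟨haA, haA'⟩, haX⟩, rfl⟩ := hX₀.mem_sup hS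
        ((d.max.1.inf hS (d.max.1.cj_mem hn₀S)).inf hS hX) hz
      rw [hb.mul_left (h₀X hz₀) haX hn₀', hcX₀ hz₀ hn₀', one_mul]
      refine (Base.inf_V h hS d.max d.not_le).le ⟨?_, hb.mem a haX n₀ hn₀'⟩
      have h1 : n₀ * a⁻¹ * n₀⁻¹ ∈ A := by
        have := inv_mem (mem_cj.mp haA')
        convert this using 1
        group
      rw [commutatorElement_def, show a * n₀ * a⁻¹ * n₀⁻¹ = a * (n₀ * a⁻¹ * n₀⁻¹) by group]
      exact mul_mem haA h1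
    have hlt : Nat.card ↥X₁ ≤ m := by
      refine Nat.le_of_lt_succ (lt_of_lt_of_le (lt_of_not_ge fun hle => ?_) hm)
      exact hne (hX₁Zs x ((eq_of_le_of_card_ge h₁X hle).ge hx))
    -- `|X : X₁| ≤ |V : Z(S)|`
    have hidx : Nat.card ↥X * Nat.card ↥c.Zs ≤ Nat.card ↥c.V * Nat.card ↥X₁ := by
      set f := hb.homLeft n₀ hn₀'
      set K := c.Zs.subgroupOf c.V
      have hK : Nat.card ↥K = Nat.card ↥c.Zs := Nat.card_congr (subgroupOfEquivOfLe h.ZsV).toEquiv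
      have hle : K.comap f ≤ X₁.subgroupOf X := by
        intro z hz
        have hzZ : ⁅(z : Γ), n₀⁆ ∈ c.Zs := mem_subgroupOf.mp (mem_comap.mp hz)
        have hz' : (z : Γ) ∈ (X₀ ⊔ A) ⊓ X := ⟨hXA z.2, z.2⟩
        rw [hX₀.modular hS d.max.1 h₀X] at hz'
        obtain ⟨z₀, hz₀, a, ⟨haA, haX⟩, e⟩ := hX₀.mem_sup hS (d.max.1.inf hS hX) hz'
        rw [← e, hb.mul_left (h₀X hz₀) haX hn₀', hcX₀ hz₀ hn₀', one_mul] at hzZ
        rw [mem_subgroupOf, ← e]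
        refine mul_mem_sup hz₀ ⟨⟨haA, mem_cj.mpr ?_⟩, haX⟩
        have h1 := A.inv_mem (A.mul_mem (A.inv_mem haA) (d.max.center_le ((Base.cs_self h).ge hzZ)))
        convert h1 using 1
        simp only [commutatorElement_def]; group
      have h1 := (K.comap f).card_mul_index
      rw [index_comap] at h1
      have h2 : K.relIndex f.range * Nat.card ↥c.Zs ≤ Nat.card ↥c.V := by
        rw [← hK, mul_comm, ← K.card_mul_index]
        exact Nat.mul_le_mul_left _ (relIndex_top_right (H := K) ▸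
          relIndex_le_of_le_right le_top (by rw [relIndex_top_right]; exact index_ne_zero_of_finite))
      rw [← h1, mul_assoc, mul_comm (Nat.card ↥c.V)]
      refine Nat.mul_le_mul ?_ h2
      exact (card_le_of_le hle).trans (Nat.card_congr (subgroupOfEquivOfLe h₁X).toEquiv).le
    -- the commutators of `x` with `C(X₁)`
    have hcs₁ : cs c.S X₁ ≤ N := hN₁ X₁ le_sup_left
    set fx := (hb.mono le_rfl hcs₁).homRight x hx
    set Φ := fx.range.map c.V.subtype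
    have hΦZ : Φ ≤ c.Z := by
      refine Base.small_le_Z h hS d.max d.not_le d.memG d.mov (map_subtype_le _) ?_ ?_
      · intro k hk v hv
        obtain ⟨_, ⟨y, rfl⟩, rfl⟩ := hv
        refine ⟨_, ⟨⟨k * y * k⁻¹, ?_⟩, rfl⟩, (hconj k hk x hx y (hcs₁ y.2)).symm⟩
        exact (mem_normalizer_iff.mp (Base.normal_cs h (hV₀.trans le_sup_left) hX₁n hk) _).mp y.2
      · have h1 := fx.ker.card_mul_index
        rw [index_ker] at h1
        have h2 : Nat.card ↥(cs c.S X) ≤ Nat.card ↥fx.ker := by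
          rw [← Nat.card_congr (subgroupOfEquivOfLe (cs_antitone h₁X : cs c.S X ≤ cs c.S X₁)).toEquiv]
          refine card_le_of_le fun y hy => MonoidHom.mem_ker.mpr (Subtype.ext ?_)
          exact Bracket.eq_one ((mem_cs.mp (mem_subgroupOf.mp hy)).2 x hx)
        rw [card_map_of_injective c.V.subtype_injective]
        refine Nat.le_of_mul_le_mul_right ?_ (Nat.mul_pos (Nat.card_pos (α := ↥X₁))
          (Nat.card_pos (α := ↥(cs c.S X))))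
        calc Nat.card ↥fx.range * Nat.card ↥c.Zs * (Nat.card ↥X₁ * Nat.card ↥(cs c.S X))
            ≤ Nat.card ↥fx.range * Nat.card ↥c.Zs * (Nat.card ↥X₁ * Nat.card ↥fx.ker) :=
              Nat.mul_le_mul_left _ (Nat.mul_le_mul_left _ h2)
          _ = (Nat.card ↥X₁ * Nat.card ↥(cs c.S X₁)) * Nat.card ↥c.Zs := by rw [← h1]; ring
          _ = (Nat.card ↥X * Nat.card ↥c.Zs) * Nat.card ↥(cs c.S X) := by rw [hX₁.2, ← hX.2]; ring
          _ ≤ Nat.card ↥c.V * Nat.card ↥X₁ * Nat.card ↥(cs c.S X) := Nat.mul_le_mul_right _ hidx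
          _ = _ := by ring
    have hIH := ih X₁ hlt hX₁ le_sup_left (h₁X.trans hXQ) (h₁X.trans hXA)
      (fun k hk z hz => hfix k hk z (h₁X hz)) (hb.mono h₁X le_rfl)
    -- so `[x, n₀]` is fixed modulo `Z`
    exfalso
    obtain ⟨a, ha, haS, haQ⟩ := Base.exists_not_mem h hS d.max d.not_le
    refine hne (Base.mem_Zs h hS haS haQ (hb.mem x hx n₀ hn₀') ?_)
    have haG := h.SG haS
    have hy' : a * n₀ * a⁻¹ ∈ N := (mem_normalizer_iff.mp (hGN haG) n₀).mp hn₀'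
    have hd : a * n₀ * a⁻¹ * n₀⁻¹ ∈ cs c.S X₁ := by
      refine mem_cs.mpr ⟨cs_le (N.mul_mem hy' (N.inv_mem hn₀')), fun z hz => ?_⟩
      refine commutatorElement_eq_one_iff_mul_comm.mp ?_
      rw [hb.mul_right (h₁X hz) hy' (inv_mem hn₀'), hb.inv_right (h₁X hz) hn₀',
        ← hconj a haG z (h₁X hz) n₀ hn₀', h.Z_central (hIH z hz n₀ hn₀') haG, mul_inv_cancel]
    rw [hconj a haG x hx n₀ hn₀', ← hb.inv_right hx hn₀', ← hb.mul_right hx hy' (inv_mem hn₀')]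
    exact hΦZ ⟨_, ⟨⟨_, hd⟩, rfl⟩, rfl⟩

/-- Conjugation by `G` changes `[x, y]` inside `Z` only. -/
theorem key {x y k : Γ} (hx : x ∈ W) (hxS : ∀ s ∈ c.S, ⁅x, s⁆ ∈ c.Zs) (hy : y ∈ c.Q) (hk : k ∈ c.G) :
    ⁅x, k * y * k⁻¹⁆ * ⁅x, y⁆⁻¹ ∈ c.Z := by
  have hbr := d.bracketQ h hS
  have hWQ : W ≤ c.Q := d.WQ h hS
  have hPQ : cs c.S W ≤ c.Q := Base.cs_le_Q h (d.VW h hS)
  have conjQ : ∀ {k y : Γ}, k ∈ c.G → y ∈ c.Q → k * y * k⁻¹ ∈ c.Q := fun hk hy =>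
    (mem_normalizer_iff.mp (h.GQ hk) _).mp hy
  have hgen := Base.gen h hS d.max d.not_le d.memG d.mov
  -- `G` fixes the meets
  have fixK : ∀ X₀ X : Subgroup Γ, X₀ ≤ X → c.G ≤ normalizer (X₀ : Set Γ) →
      (∀ k, k ∈ A ∨ k ∈ cj g A ∨ k ∈ c.Q → ∀ z ∈ X, k * z * k⁻¹ * z⁻¹ ∈ X₀) →
      ∀ k ∈ c.G, ∀ z ∈ X, k * z * k⁻¹ * z⁻¹ ∈ X₀ := by
    intro X₀ X h₀ hn hf
    let K : Subgroup Γ :=
      { carrier := {k | k ∈ c.G ∧ k ∈ normalizer (X : Set Γ) ∧ ∀ z ∈ X, k * z * k⁻¹ * z⁻¹ ∈ X₀}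
        one_mem' := ⟨one_mem _, one_mem _, fun z _ => by simp⟩
        mul_mem' := fun {k l} hk hl => ⟨mul_mem hk.1 hl.1, mul_mem hk.2.1 hl.2.1, fun z hz => by
          have hz' : l * z * l⁻¹ ∈ X := (mem_normalizer_iff.mp hl.2.1 z).mp hz
          rw [show k * l * z * (k * l)⁻¹ * z⁻¹ =
            k * (l * z * l⁻¹) * k⁻¹ * (l * z * l⁻¹)⁻¹ * (l * z * l⁻¹ * z⁻¹) by group]
          exact mul_mem (hk.2.2 _ hz') (hl.2.2 z hz)⟩
        inv_mem' := fun {k} hk => ⟨inv_mem hk.1, inv_mem hk.2.1, fun z hz => by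
          have hz' : k⁻¹ * z * k⁻¹⁻¹ ∈ X := (mem_normalizer_iff.mp (inv_mem hk.2.1) z).mp hz
          have := inv_mem (hk.2.2 _ hz')
          convert this using 1
          group⟩ }
    have hle : A ⊔ cj g A ⊔ c.Q ≤ K := by
      have hall : ∀ k, k ∈ A ∨ k ∈ cj g A ∨ k ∈ c.Q → k ∈ K := fun k hk => by
        refine ⟨hk.elim (d.memG_A h hS) (fun hk => hk.elim (d.memG_A' h hS) fun hq => h.SG (h.QS hq)),
          PGroup.mem_normalizer_of_map_conj_eq (eq_of_le_of_card_ge ?_ (card_cj k _).ge), hf k hk⟩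
        rintro _ ⟨z, hz, rfl⟩
        have := mul_mem (h₀ (hf k hk z hz)) hz
        rwa [inv_mul_cancel_right] at this
      exact sup_le (sup_le (fun k hk => hall k (Or.inl hk)) fun k hk => hall k (Or.inr (Or.inl hk)))
        fun k hk => hall k (Or.inr (Or.inr hk))
    exact fun k hk => (hle (hgen hk)).2.2
  have hIW : pI A c.V W g ≤ W := inf_le_left.trans (d.b_le h hS)
  have hJQ : pJ c.S A c.V W g ≤ c.Q := inf_le_left.trans (d.c_le_Q h hS)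
  have hfixI := fixK c.V (pI A c.V W g) (d.T_le_I h hS) h.GV fun k hk z hz => by
    rcases hk with hk | hk | hk
    · exact d.fix_I h hS (Or.inl hk) hz
    · exact d.fix_I h hS (Or.inr hk) hz
    · rw [← commutatorElement_def, ← commutatorElement_inv]
      exact inv_mem (hbr.mem z (hIW hz) k hk)
  have hfixJ := fixK (cs c.S W) (pJ c.S A c.V W g) (d.P_le_J h hS) (d.GP h hS) fun k hk z hz => by
    rcases hk with hk | hk | hk
    · exact d.fix_J h hS (Or.inl hk) hz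
    · exact d.fix_J h hS (Or.inr hk) hz
    · rw [← commutatorElement_def]
      exact mem_cs.mpr ⟨h.QS (mul_mem (mul_mem (mul_mem hk (hJQ hz)) (inv_mem hk)) (inv_mem (hJQ hz))),
        fun w hw => commutatorElement_eq_one_iff_mul_comm.mp (hbr.comm_commutator hw hk (hJQ hz))⟩
  have hI := d.small h hS (Base.cd_V h) le_rfl h.GV ((d.cd_b h hS).inf hS (d.cd_b' h hS d.memG))
    (d.T_le_I h hS) (hIW.trans hWQ) (inf_le_left.trans (sup_le_sup_left inf_le_left _)) hfixI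
    (by rw [Base.cs_V h]; exact hbr.mono hIW le_rfl)
  have hJ := d.small h hS (d.cdW.cs hS) (d.VP h hS) (d.GP h hS)
    ((d.cd_c h hS).inf hS (d.cd_c' h hS d.memG)) (d.P_le_J h hS) hJQ
    (inf_le_left.trans (sup_le_sup_left inf_le_left _)) hfixJ
    (by
      rw [d.cdW.cs_cs hS]
      exact ⟨fun j hj w hw => by
        rw [← commutatorElement_inv]
        exact inv_mem (hbr.mem w hw j (hJQ hj)), fun t ht j hj => hbr.commY t ht j (hJQ hj),
        fun t ht w hw => hbr.commW t ht w hw, hbr.commT⟩)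
  -- conjugation moves `y` and `x` inside the joins
  have hnY : k * y * k⁻¹ * y⁻¹ ∈ pN c.S A c.V W g := by
    rw [← d.cs_I h hS]
    refine mem_cs.mpr ⟨h.QS (mul_mem (conjQ hk hy) (inv_mem hy)), fun i hi => ?_⟩
    have hiW := hIW hi
    refine commutatorElement_eq_one_iff_mul_comm.mp ?_
    have e : k * ⁅i, y⁆ * k⁻¹ = ⁅i, k * y * k⁻¹⁆ := by
      rw [conjugate_commutatorElement, show k * i * k⁻¹ = (k * i * k⁻¹ * i⁻¹) * i by group,
        hbr.mul_left (d.VW h hS (hfixI k hk i hi)) hiW (conjQ hk hy),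
        Bracket.eq_one (h.QV (conjQ hk hy) _ (hfixI k hk i hi)), one_mul]
    rw [hbr.mul_right hiW (conjQ hk hy) (inv_mem hy), hbr.inv_right hiW hy, ← e,
      h.Z_central (hI i hi y ((Base.cs_V h).ge hy)) hk, mul_inv_cancel]
  have hxW : ∀ l ∈ c.G, l * x * l⁻¹ * x⁻¹ ∈ pM A c.V W g := by
    intro l hl
    have hx' := d.conjW h hS hl hx
    rw [← d.cs_J h hS]
    refine mem_cs.mpr ⟨cs_le (d.WY (W.mul_mem hx' (W.inv_mem hx))), fun j hj => ?_⟩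
    refine ((commutatorElement_eq_one_iff_mul_comm.mp ?_)).symm
    have hjQ := hJQ hj
    have hjZ : ⁅x, j⁆ ∈ c.Z := by
      rw [← commutatorElement_inv]
      exact inv_mem (hJ j hj x ((d.cdW.cs_cs hS).ge hx))
    have e : l * ⁅x, j⁆ * l⁻¹ = ⁅l * x * l⁻¹, j⁆ := by
      rw [conjugate_commutatorElement, show l * j * l⁻¹ = (l * j * l⁻¹ * j⁻¹) * j by group,
        hbr.mul_right hx' (hPQ (hfixJ l hl j hj)) hjQ, d.commPW h hS hx' (hfixJ l hl j hj), one_mul]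
    rw [hbr.mul_left hx' (inv_mem hx) hjQ, hbr.inv_left hx hjQ, ← e, h.Z_central hjZ hl, mul_inv_cancel]
  set n := k * y * k⁻¹ * y⁻¹
  have hnQ : n ∈ c.Q := mul_mem (conjQ hk hy) (inv_mem hy)
  rw [show k * y * k⁻¹ = n * y by simp only [n]; group, hbr.mul_right hx hnQ hy, mul_inv_cancel_right]
  obtain ⟨a, ha, haS, haQ⟩ := Base.exists_not_mem h hS d.max d.not_le
  set b := g * a * g⁻¹
  have hb : b ∈ cj g A := mem_cj_conj ha
  have hbG : b ∈ c.G := d.memG_A' h hS hb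
  refine Base.mem_Z h d.memG d.mov (mem_cj_conj haS : b ∈ cj g c.S) (fun hq => haQ ?_)
    (hxS n (h.QS hnQ)) ?_
  · have := mem_cj.mp ((h.conj_Q d.memG).ge hq)
    simpa [b, mul_assoc] using this
  · have hn' := d.conj_N h hS (Or.inr hb) hnY
    rw [conjugate_commutatorElement, show b * x * b⁻¹ = (b * x * b⁻¹ * x⁻¹) * x by group,
      hbr.mul_left (W.mul_mem (d.conjW h hS hbG hx) (W.inv_mem hx)) hx (conjQ hbG hnQ)]
    exact mul_mem (h.Z_le_Zs (d.MN_le_Z h hS (hxW b hbG) hn')) (hxS _ (h.QS (conjQ hbG hnQ)))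

end Pair

end Cfsg.Agent.PU2
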