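import Cfsg.Agent.Lib.PushingUp2.Lattice
import Cfsg.Agent.Lib.PGroup.Thompson

/-!
# Groups over a common subgroup inside one permutation group; transfer along an injection

* `shiftHom`, `exists_embedding`: `G ↪ Perm (S × Fin N)` extending the translations of `S`
* `cs_map`, `large_map`, `maxAb_map`, `thompsonAOf_range`
-/

set_option autoImplicit false

namespace Cfsg.Agent.PU2

open Subgroup

universe u

variable {S : Type u} [Group S]

/-- `S` permuting `S × Fin N` by translations of the first coordinate. -/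
def shiftHom (S : Type u) [Group S] (N : ℕ) : S →* Equiv.Perm (S × Fin N) where
  toFun s := (Equiv.mulRight s⁻¹).prodCongr (Equiv.refl _)
  map_one' := Equiv.ext fun x => by simp
  map_mul' a b := Equiv.ext fun x => Prod.ext (by simp [mul_assoc]) rfl

theorem shiftHom_apply (N : ℕ) (s : S) (x : S × Fin N) : shiftHom S N s x = (x.1 * s⁻¹, x.2) := rfl

theorem shiftHom_injective {N : ℕ} (hN : 0 < N) : Function.Injective (shiftHom S N) := fun a b h => by
  have := congrArg Prod.fst (congrArg (fun e : Equiv.Perm (S × Fin N) => e (1, ⟨0, hN⟩)) h)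
  simpa [shiftHom_apply] using this

variable {G : Type u} [Group G]

theorem exists_embedding [Finite G] (τ : S →* G) (hτ : Function.Injective τ) {N : ℕ} (hN : 0 < N)
    (hdvd : τ.range.index ∣ N) :
    ∃ φ : G →* Equiv.Perm (S × Fin N), Function.Injective φ ∧ ∀ s, φ (τ s) = shiftHom S N s := by
  obtain ⟨k, rfl⟩ := hdvd
  have hk : 0 < k := Nat.pos_of_mul_pos_left hN
  have : Finite (G ⧸ τ.range) := inferInstance
  let eN : (G ⧸ τ.range) × Fin k ≃ Fin (τ.range.index * k) :=
    (Finite.equivFinOfCardEq (by rw [Nat.card_prod, Nat.card_fin, Subgroup.index]))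
  let e₁ : S × Fin (τ.range.index * k) → G × Fin k := fun x =>
    (Quotient.out (eN.symm x.2).1 * τ x.1, (eN.symm x.2).2)
  have hmk : ∀ (L : G ⧸ τ.range) (t : S), ((Quotient.out L * τ t : G) : G ⧸ τ.range) = L := fun L t => by
    rw [QuotientGroup.mk_mul_of_mem _ (MonoidHom.mem_range.mpr ⟨t, rfl⟩), QuotientGroup.out_eq']
  have hb : Function.Bijective e₁ := by
    refine ⟨fun x y hxy => ?_, fun y => ?_⟩
    · obtain ⟨h1, h2⟩ := Prod.ext_iff.mp hxy
      have hL : (eN.symm x.2).1 = (eN.symm y.2).1 := by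
        rw [← hmk (eN.symm x.2).1 x.1, ← hmk (eN.symm y.2).1 y.1]
        exact congrArg _ h1
      have hn : x.2 = y.2 := eN.symm.injective (Prod.ext hL h2)
      refine Prod.ext (hτ ?_) hn
      have h1' : Quotient.out (eN.symm x.2).1 * τ x.1 = Quotient.out (eN.symm y.2).1 * τ y.1 := h1
      rw [hn] at h1'
      exact mul_left_cancel h1'
    · obtain ⟨t, ht⟩ : (Quotient.out (y.1 : G ⧸ τ.range))⁻¹ * y.1 ∈ τ.range :=
        QuotientGroup.eq.mp (QuotientGroup.out_eq' _)
      exact ⟨(t, eN (y.1, y.2)), Prod.ext (by simp [e₁, ht]) (by simp [e₁])⟩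
  let e := Equiv.ofBijective e₁ hb
  let φ : G →* Equiv.Perm (S × Fin (τ.range.index * k)) := MonoidHom.mk'
    (fun g => e.symm.permCongr ((Equiv.mulRight g⁻¹).prodCongr (Equiv.refl _))) fun a b =>
      Equiv.ext fun x => by simp [Equiv.permCongr_apply, mul_assoc, Prod.map]
  refine ⟨φ, fun a b hab => ?_, fun s => Equiv.ext fun x => ?_⟩
  · have := congrArg (fun f : Equiv.Perm (S × Fin (τ.range.index * k)) => e (f (e.symm (1, ⟨0, hk⟩)))) hab
    simpa [φ, Equiv.permCongr_apply] using this
  · refine e.injective ?_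
    have hx : e (φ (τ s) x) = ((e x).1 * (τ s)⁻¹, (e x).2) := by simp [φ, Equiv.permCongr_apply, Prod.map]
    rw [hx, shiftHom_apply]
    show _ = e₁ _
    simp [e, e₁, mul_assoc]

variable (f : S →* G) (hf : Function.Injective f)
include hf

theorem cs_map (Y : Subgroup S) :
    (centralizer (Y : Set S)).map f = cs f.range (Y.map f) := by
  ext x
  constructor
  · rintro ⟨c, hc, rfl⟩
    refine mem_cs.mpr ⟨⟨c, rfl⟩, ?_⟩
    rintro _ ⟨y, hy, rfl⟩
    rw [← map_mul, ← map_mul, hc y hy]
  · intro hx
    obtain ⟨⟨c, rfl⟩, hx⟩ := mem_cs.mp hx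
    exact ⟨c, fun y hy => hf (by rw [map_mul, map_mul]; exact hx _ ⟨y, hy, rfl⟩), rfl⟩

theorem center_map : (Subgroup.center S).map f = cs f.range f.range := by
  rw [← centralizer_univ, ← coe_top, cs_map f hf, ← MonoidHom.range_eq_map]

theorem exists_map_eq {X : Subgroup G} (hX : X ≤ f.range) : (X.comap f).map f = X :=
  map_comap_eq_self hX

variable [Finite S]

theorem cd_map_iff (hCL : IsCentrallyLarge (⊤ : Subgroup S)) (Y : Subgroup S) :
    CD f.range (Y.map f) ↔ IsCentralizerLarge Y := by
  have h := (CLarge.isCentrallyLarge_iff.mp hCL).1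
  rw [IsCentralizerLarge] at h ⊢
  rw [CD, ← cs_map f hf, ← h, MonoidHom.range_eq_map, ← show (centralizer ((⊤ : Subgroup S) : Set S)).map f =
    cs ((⊤ : Subgroup S).map f) ((⊤ : Subgroup S).map f) by rw [cs_map f hf, MonoidHom.range_eq_map],
    card_map_of_injective hf, card_map_of_injective hf, card_map_of_injective hf, card_map_of_injective hf]
  exact and_iff_right (map_mono le_top)

theorem large_map (hCL : IsCentrallyLarge (⊤ : Subgroup S)) : Large f.range := by
  intro X hX
  have h := (CLarge.isCentrallyLarge_iff.mp hCL).1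
  rw [IsCentralizerLarge] at h
  rw [← exists_map_eq f hf hX, ← cs_map f hf, MonoidHom.range_eq_map,
    ← show (centralizer ((⊤ : Subgroup S) : Set S)).map f =
      cs ((⊤ : Subgroup S).map f) ((⊤ : Subgroup S).map f) by rw [cs_map f hf, MonoidHom.range_eq_map],
    card_map_of_injective hf, card_map_of_injective hf, card_map_of_injective hf, card_map_of_injective hf, h]
  exact CLarge.le_maxCentralizerProduct _

theorem maxAb_map (hCL : IsCentrallyLarge (⊤ : Subgroup S)) {A : Subgroup S}
    (hA : IsCentrallyLarge A) (hAm : A ∈ maxAbelianSubgroups S) : MaxAb f.range (A.map f) := by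
  refine ⟨(cd_map_iff f hf hCL A).mpr (CLarge.isCentrallyLarge_iff.mp hA).1, ?_⟩
  rw [← cs_map f hf, CLarge.centralizer_eq_of_mem_maxAbelian hAm]

omit [Finite S] in
theorem thompsonAOf_range : thompsonSubgroupAOf f.range = (thompsonSubgroupA S).map f := by
  have e := PGroup.thompsonSubgroupAOf_map_equiv (MonoidHom.ofInjective hf) (⊤ : Subgroup S)
  have ht : (⊤ : Subgroup S).map (MonoidHom.ofInjective hf).toMonoidHom = ⊤ :=
    map_top_of_surjective _ (MonoidHom.ofInjective hf).surjective
  rw [PGroup.thompsonSubgroupAOf_top, ht, PGroup.thompsonSubgroupAOf_top] at e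
  rw [thompsonSubgroupAOf, ← e, Subgroup.map_map]
  congr 1

end Cfsg.Agent.PU2
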