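import Cfsg.Agent.Lib.PushingUp.Common

/-!
# No split layer over `V`

If a normal `Y` between `V` and `Q` is stabilised by `U'`, `U' Q = S`, then no commutator of `Q` with `U'`
is, modulo `Φ(Q)`, an element of `V ∖ Z(S)` times an element centralised by `U'`.

* `no_split`
-/

set_option autoImplicit false

namespace Cfsg.Agent.PU2

open Subgroup
open PushingUp (Hyp Basics Act vQ vQ_normal commute_of_translate' mem_of_coprime isPGroup_of_coprime)
open scoped commutatorElement MatrixGroups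

universe u

variable {G : Type u} [Group G] [Finite G] {p : ℕ} [Fact p.Prime] {S : Sylow p G} {M : Subgroup G}

theorem no_split (h : Hyp p S M) (hB : Basics p S M) {Y U' D : Subgroup G} [Y.Normal]
    (hYQ : Y ≤ pCore p G) (hQQ : ⁅pCore p G, pCore p G⁆ ≤ Y)
    (hsup : U' ⊔ pCore p G = (S : Subgroup G)) (hQY : ⁅U', pCore p G⁆ ≤ Y) (hYV : ⁅U', Y⁆ ≤ vQ p G)
    (hDc : U' ≤ centralizer (D : Set G)) {a u v d : G} (ha : a ∈ pCore p G) (hu : u ∈ U')
    (hv : v ∈ vQ p G) (hdD : d ∈ D)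
    (he : ⁅a, u⁆⁻¹ * (v * d) ∈ ⁅pCore p G, pCore p G⁆ ⊔ powerClosure p 1 (pCore p G)) :
    v ∈ (S : Subgroup G) ⊓ centralizer ((S : Subgroup G) : Set G) := by
  obtain ⟨hA, hZsV, hV⟩ := hB
  set Q := pCore p G with hQdef
  set V := vQ p G with hVdef
  set Zs := (S : Subgroup G) ⊓ centralizer ((S : Subgroup G) : Set G)
  set Φ := ⁅Q, Q⁆ ⊔ powerClosure p 1 Q with hΦdef
  have hp : p.Prime := Fact.out
  have hQS : Q ≤ (S : Subgroup G) := PCore.pCore_le_sylow S
  have hU'S : U' ≤ (S : Subgroup G) := le_sup_left.trans hsup.le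
  have hQn : Q.Normal := PCore.pCore_normal
  have hVc : ∀ x ∈ V, ∀ y ∈ V, x * y = y * x := fun x hx y hy =>
    PGroup.mul_comm_of_isMulCommutative hA.elem.1 hx hy
  have hQV : ∀ z ∈ V, ∀ q ∈ Q, z * q = q * z := fun z hz q hq => Hyp.pCore_le_centralizer_vQ hq z hz
  have hfix : V ⊓ centralizer ((S : Subgroup G) : Set G) = Zs :=
    le_antisymm (inf_le_inf_right _ h.vQ_le_sylow) (le_inf hZsV inf_le_right)
  have hSQ : (S : Subgroup G) ⊓ centralizer (V : Set G) = Q := h.inf_centralizer_vQ hV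
  have hsharp : ∀ s ∈ (S : Subgroup G), s ∉ Q → ∀ x ∈ V, s * x * s⁻¹ * x⁻¹ ∈ V ⊓ Subgroup.center G →
      x ∈ Zs := fun s hs hsQ x hx hc =>
    hfix.le (hA.sharp hs (fun hsC => hsQ (hSQ.le ⟨hs, hsC⟩)) hx hc)
  obtain ⟨s₀, hs₀, hs₀Q⟩ := SetLike.not_le_iff_exists.mp h.not_le
  -- the stabiliser of the series contains all `p'`-elements
  set πY := QuotientGroup.mk' Y
  set πV := QuotientGroup.mk' V
  have : (Q.map πY).Normal := hQn.map πY (QuotientGroup.mk'_surjective _)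
  have : (Y.map πV).Normal := (inferInstance : Y.Normal).map πV (QuotientGroup.mk'_surjective _)
  set K := (centralizer (Q.map πY : Set (G ⧸ Y))).comap πY ⊓
    (centralizer (Y.map πV : Set (G ⧸ V))).comap πV
  have : K.Normal := inferInstance
  have hU'K : U' ≤ K := le_inf (map_le_iff_le_comap.mp (PushingUp.commutator_le_iff_map.mp hQY))
    (map_le_iff_le_comap.mp (PushingUp.commutator_le_iff_map.mp hYV))
  have hKQ : K ⊔ Q = ⊤ := by
    have hSle : (S : Subgroup G) ≤ K ⊔ Q := hsup.ge.trans (sup_le_sup_right hU'K _)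
    have hM : ¬ K ⊔ Q ≤ M := fun hc => h.not_le ((le_inf le_rfl hSle).trans (h.inf_le_pCore hc))
    have := h.sup_eq_top hM
    rwa [sup_eq_left.mpr hSle] at this
  have hcop : ∀ y : G, (orderOf y).Coprime p → ∀ q ∈ Q, y * q * y⁻¹ * q⁻¹ ∈ V := by
    intro y hy q hq
    have hyK := mem_of_coprime (K := K) PCore.isPGroup_pCore hKQ hy
    set z := y * q * y⁻¹ * q⁻¹
    have hzY : z ∈ Y := (QuotientGroup.eq_one_iff _).mp (by
      show πY (y * q * y⁻¹ * q⁻¹) = 1
      rw [map_mul, map_mul, map_mul, map_inv, map_inv, ← hyK.1 _ (mem_map_of_mem πY hq),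
        mul_inv_cancel_right, mul_inv_cancel])
    obtain ⟨k, hk⟩ := (PCore.isPGroup_pCore (p := p) (G := G)) ⟨z, hYQ hzY⟩
    have hk' : z ^ p ^ k = 1 := congrArg Subtype.val hk
    have hc : πV y * πV q = πV q * πV y := commute_of_translate' (p := p) (k := k) (z := πV z)
      (hy.coprime_dvd_left (orderOf_map_dvd πV y)) (by rw [← map_pow, hk', map_one])
      (by simp only [z, map_mul, map_inv]; group) (hyK.2 _ (mem_map_of_mem πV hzY)).symm
    refine (QuotientGroup.eq_one_iff _).mp ?_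
    show πV (y * q * y⁻¹ * q⁻¹) = 1
    rw [map_mul, map_mul, map_mul, map_inv, map_inv, hc, mul_inv_cancel_right, mul_inv_cancel]
  -- they centralise `Φ(Q)`
  have hΦc : ∀ y : G, (orderOf y).Coprime p → ∀ w ∈ Φ, y * w = w * y := by
    intro y hy
    have hle : Φ ≤ centralizer ({y} : Set G) := by
      refine sup_le (commutator_le.mpr fun q hq r hr => ?_)
        (PGroup.powerClosure_le_iff.mpr fun q hq => ?_) <;>
        rw [mem_centralizer_iff] <;> intro _ hu <;> rw [Set.mem_singleton_iff.mp hu]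
      · refine mul_inv_eq_iff_eq_mul.mp ?_
        obtain ⟨z, hz, e1⟩ : ∃ z ∈ V, y * q * y⁻¹ = z * q := ⟨_, hcop y hy q hq, by group⟩
        obtain ⟨z', hz', e2⟩ : ∃ z' ∈ V, y * r * y⁻¹ = z' * r := ⟨_, hcop y hy r hr, by group⟩
        rw [conjugate_commutatorElement, e1, e2, commutatorElement_def, commutatorElement_def]
        have hzQ : z ∈ Q := h.vQ_le_pCore hz
        have hz'Q : z' ∈ Q := h.vQ_le_pCore hz'
        have c1 : Commute z q := hQV z hz q hq
        have c2 : Commute z r := hQV z hz r hr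
        have c3 : Commute z' q := hQV z' hz' q hq
        have c4 : Commute z' r := hQV z' hz' r hr
        have c5 : Commute z z' := hVc z hz z' hz'
        calc z * q * (z' * r) * (z * q)⁻¹ * (z' * r)⁻¹
            = z * ((q * z') * r * q⁻¹) * z⁻¹ * (r⁻¹ * z'⁻¹) := by group
          _ = z * (z' * (q * r * q⁻¹)) * z⁻¹ * (r⁻¹ * z'⁻¹) := by rw [← c3.eq]; group
          _ = (z' * (q * r * q⁻¹)) * (r⁻¹ * z'⁻¹) := by
            rw [((c5.mul_right ((c1.mul_right c2).mul_right c1.inv_right))).eq, mul_inv_cancel_right]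
          _ = z' * (q * r * q⁻¹ * r⁻¹) * z'⁻¹ := by group
          _ = _ := by
            rw [(((c3.mul_right c4).mul_right c3.inv_right).mul_right c4.inv_right).eq, mul_inv_cancel_right]
      · refine mul_inv_eq_iff_eq_mul.mp ?_
        obtain ⟨z, hz, e1⟩ : ∃ z ∈ V, y * q * y⁻¹ = z * q := ⟨_, hcop y hy q hq, by group⟩
        rw [← conj_pow, e1, pow_one, (show Commute z q from hQV z hz q hq).mul_pow,
          hA.elem.2 z hz, one_mul]
    exact fun w hw => (hle hw) y rfl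
  -- `Φ(Q) ∩ V` is central
  have hΦn : Φ.Normal := by
    have : (⁅Q, Q⁆ : Subgroup G).Normal := Subgroup.commutator_normal _ _
    have : (powerClosure p 1 Q).Normal := by
      refine normalizer_eq_top_iff.mp (top_le_iff.mp fun x _ => PGroup.mem_normalizer_of_map_conj_eq ?_)
      rw [PGroup.map_powerClosure, PGroup.map_conj_eq_of_mem_normalizer
        ((normalizer_eq_top_iff.mpr hQn).ge (mem_top x))]
    exact inferInstanceAs ((⁅Q, Q⁆ ⊔ powerClosure p 1 Q).Normal)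
  have hM : ¬ (⊤ : Subgroup G) ≤ M := fun hc => h.ne_top (top_le_iff.mp hc)
  have hcen : ∀ z ∈ Φ, z ∈ Zs → z ∈ V ⊓ Subgroup.center G := fun z hzΦ hz =>
    ⟨hZsV hz, h.mem_center_of_centralized hM (fun s hs => hz.2 s hs)
      fun y _ hy => hΦc y hy z hzΦ⟩
  have hΦV : ∀ z ∈ Φ, z ∈ V → z ∈ V ⊓ Subgroup.center G := by
    intro z hzΦ hzV
    refine hcen z hzΦ (hsharp s₀ hs₀ hs₀Q z hzV (hcen _ ?_ (hfix.le (hA.quad hs₀ hzV))))
    exact Φ.mul_mem (hΦn.conj_mem z hzΦ s₀) (Φ.inv_mem hzΦ)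
  -- `C(V) = Q`
  have hCV : centralizer (V : Set G) ≤ Q := by
    refine PCore.le_pCore (isPGroup_of_coprime fun y hy hyp => ?_)
    have hyQ : y ∈ centralizer (Q : Set G) := fun q hq =>
      (commute_of_translate' (p := p) (k := 1) hyp
        (by rw [pow_one]; exact hA.elem.2 _ (hcop y hyp q hq)) (by group)
        (hy _ (hcop y hyp q hq)).symm).symm
    obtain ⟨k, hk⟩ := IsPGroup.iff_orderOf.mp PCore.isPGroup_pCore ⟨y, h.cent hyQ⟩
    rw [Subgroup.orderOf_mk] at hk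
    refine orderOf_eq_one_iff.mp ?_
    rw [hk] at hyp ⊢
    exact (Nat.coprime_self _).mp (hyp.pow_right k)
  by_cases huQ : u ∈ Q
  · obtain ⟨u₀, hu₀, hu₀Q⟩ : ∃ u₀ ∈ U', u₀ ∉ Q := by
      by_contra hc
      push Not at hc
      exact h.not_le (hsup.ge.trans (sup_le hc le_rfl))
    have hvd : v * d ∈ Φ := by
      have := Φ.mul_mem ((le_sup_left : ⁅Q, Q⁆ ≤ Φ) (commutator_mem_commutator ha huQ)) he
      rwa [mul_inv_cancel_left] at this
    refine hsharp u₀ (hU'S hu₀) hu₀Q v hv (hΦV _ ?_ (mul_mem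
      (vQ_normal.conj_mem v hv u₀) (inv_mem hv)))
    have := Φ.mul_mem (hΦn.conj_mem _ hvd u₀) (Φ.inv_mem hvd)
    convert this using 1
    calc u₀ * v * u₀⁻¹ * v⁻¹ = u₀ * v * (d * u₀⁻¹) * d⁻¹ * v⁻¹ := by
          rw [show d * u₀⁻¹ = u₀⁻¹ * d from inv_mem (hDc hu₀) d hdD]; group
      _ = _ := by group
  refine hsharp u (hU'S hu) huQ v hv (hΦV _ ?_ (mul_mem (vQ_normal.conj_mem v hv u) (inv_mem hv)))
  set π := QuotientGroup.mk' Φ with hπ
  have hpi : ∀ {x : G}, x ∈ Φ → π x = 1 := fun hx => (QuotientGroup.eq_one_iff _).mpr hx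
  have hWc : ∀ q ∈ Q, ∀ r ∈ Q, π q * π r = π r * π q := fun q hq r hr => by
    have := hpi ((le_sup_left : ⁅Q, Q⁆ ≤ Φ) (commutator_mem_commutator hq hr))
    rwa [map_commutatorElement, commutatorElement_eq_one_iff_mul_comm] at this
  have hWp : ∀ q ∈ Q, π q ^ p = 1 := fun q hq => by
    rw [← map_pow]
    refine hpi ((le_sup_right : powerClosure p 1 Q ≤ Φ) ?_)
    simpa using PGroup.pow_mem_powerClosure (p := p) hq 1
  have hQU : ∀ q ∈ Q, u * q * u⁻¹ ∈ Q := fun q hq => hQn.conj_mem q hq u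
  have hw : π ⁅a, u⁆ = π v * π d := by
    have := hpi he
    rw [map_mul, map_inv, map_mul, inv_mul_eq_one] at this
    exact this
  have hdu : u * d = d * u := (hDc hu d hdD).symm
  have hvQ : v ∈ Q := h.vQ_le_pCore hv
  refine (QuotientGroup.eq_one_iff _).mp ?_
  show π (u * v * u⁻¹ * v⁻¹) = 1
  by_cases hp2 : p = 2
  · subst hp2
    have hu2 : u * u ∈ Q := by rw [← sq]; exact h.pow u (hU'S hu)
    have e1 : π (u * ⁅a, u⁆ * u⁻¹) = π ⁅a, u⁆ := by
      have h1 : π (u * ⁅a, u⁆ * u⁻¹) = π (u * a * u⁻¹) * π a⁻¹ := by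
        rw [show u * ⁅a, u⁆ * u⁻¹ = (u * a * u⁻¹) * ((u * u) * a⁻¹ * (u * u)⁻¹) by
          simp only [commutatorElement_def]; group, map_mul, map_mul π (u * u * a⁻¹), map_mul π (u * u),
          hWc _ hu2 _ (inv_mem ha), map_inv π (u * u), mul_inv_cancel_right]
      have h2 : π ⁅a, u⁆ = π a * (π (u * a * u⁻¹))⁻¹ := by
        rw [← map_inv, ← map_mul]; congr 1; simp only [commutatorElement_def]; group
      have h3 : ∀ x ∈ Q, (π x)⁻¹ = π x := fun x hx =>
        inv_eq_of_mul_eq_one_right (by rw [← sq]; exact hWp x hx)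
      rw [h1, h2, map_inv, h3 a ha, h3 _ (hQU a ha), hWc _ (hQU a ha) a ha]
    have e2 : π (u * ⁅a, u⁆ * u⁻¹) = π (u * v * u⁻¹) * π d := by
      calc π (u * ⁅a, u⁆ * u⁻¹) = π u * π ⁅a, u⁆ * π u⁻¹ := by rw [map_mul, map_mul]
        _ = π (u * (v * d) * u⁻¹) := by rw [hw]; simp only [map_mul, map_inv]
        _ = π (u * v * u⁻¹ * d) := by
          congr 1
          calc u * (v * d) * u⁻¹ = u * v * u⁻¹ * (u * d) * u⁻¹ := by group
            _ = u * v * u⁻¹ * d := by rw [hdu]; group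
        _ = _ := map_mul π _ d
    rw [e2, hw] at e1
    rw [map_mul, map_inv, mul_right_cancel e1, mul_inv_cancel]
  -- odd `p`: an element inverting `V` modulo `Z`
  obtain ⟨F, _, _, ρ, ψ, -, hρ, hker, hψ, hψk, hact⟩ := hA.exists_natural
  obtain ⟨t, ht⟩ := hρ (-1)
  set k := (orderOf t).factorization p
  set y := t ^ p ^ k
  have hy : (orderOf y).Coprime p := by
    rw [orderOf_pow_of_dvd (pow_ne_zero _ hp.ne_zero) (Nat.ordProj_dvd _ _)]
    exact (Nat.coprime_ordCompl hp (orderOf_pos t).ne').symm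
  have hρy : ρ y = -1 := by
    rw [map_pow, ht]
    exact Odd.neg_one_pow ((hp.odd_of_ne_two hp2).pow)
  have hkerQ : ∀ {x : G}, ρ x = 1 → x ∈ Q := fun hx => hCV (hker.le (MonoidHom.mem_ker.mpr hx))
  have hy2 : y * y ∈ Q := hkerQ (by rw [map_mul, hρy]; simp)
  have hyu : ⁅y, u⁆ ∈ Q := hkerQ (by
    rw [map_commutatorElement, hρy, commutatorElement_eq_one_iff_mul_comm]; simp)
  have hinv : y * v * y⁻¹ * v ∈ V ⊓ Subgroup.center G := by
    obtain ⟨w, hw', hwe⟩ := hact y ⟨v, hv⟩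
    have h1 : ψ (w * ⟨v, hv⟩) = 1 := by
      rw [map_mul]
      refine Multiplicative.toAdd.injective ?_
      rw [toAdd_mul, hwe, hρy, Matrix.SpecialLinearGroup.coe_neg, Matrix.SpecialLinearGroup.coe_one,
        Matrix.neg_mulVec, Matrix.one_mulVec, neg_add_cancel]
      rfl
    have := (hψk _).mp h1
    rwa [Subgroup.coe_mul, hw'] at this
  -- commutation with `u` on `Q / Φ`
  set y' := π y
  set u' := π u
  let f : G ⧸ Φ → G ⧸ Φ := fun x => x * (u' * x⁻¹ * u'⁻¹)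
  have hfm : ∀ q ∈ Q, ∀ r ∈ Q, f (π q * π r) = f (π q) * f (π r) := by
    intro q hq r hr
    have hc : π r * (u' * (π q)⁻¹ * u'⁻¹) = (u' * (π q)⁻¹ * u'⁻¹) * π r := by
      have := hWc r hr (u * q⁻¹ * u⁻¹) (hQn.conj_mem _ (inv_mem hq) u)
      simpa only [map_mul, map_inv] using this
    have hc2 : π r * π q = π q * π r := hWc r hr q hq
    show π q * π r * (u' * (π q * π r)⁻¹ * u'⁻¹) = π q * (u' * (π q)⁻¹ * u'⁻¹) * (π r * (u' * (π r)⁻¹ * u'⁻¹))
    calc π q * π r * (u' * (π q * π r)⁻¹ * u'⁻¹)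
        = π q * π r * (u' * (π r * π q)⁻¹ * u'⁻¹) := by rw [hc2]
      _ = π q * (π r * (u' * (π q)⁻¹ * u'⁻¹)) * (u' * (π r)⁻¹ * u'⁻¹) := by group
      _ = _ := by rw [hc]; group
  have hfq : ∀ q : G, f (π q) = π ⁅q, u⁆ := fun q => by
    show π q * (π u * (π q)⁻¹ * (π u)⁻¹) = _
    rw [map_commutatorElement, commutatorElement_def]; group
  have hfQ : ∀ q ∈ Q, ⁅q, u⁆ ∈ Q := fun q hq => by
    rw [commutatorElement_def, show q * u * q⁻¹ * u⁻¹ = q * (u * q⁻¹ * u⁻¹) by group]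
    exact mul_mem hq (hQn.conj_mem _ (inv_mem hq) u)
  have hcomm : ∀ q ∈ Q, y' * f (π q) * y'⁻¹ = f (π (y * q * y⁻¹)) := by
    intro q hq
    have hq' := hQn.conj_mem _ (inv_mem hq) y
    have key : π (y * u) * (π q)⁻¹ * (π (y * u))⁻¹ = π (u * y) * (π q)⁻¹ * (π (u * y))⁻¹ := by
      have hc := hWc _ hyu _ (hQn.conj_mem _ hq' u)
      rw [show y * u = ⁅y, u⁆ * (u * y) by simp only [commutatorElement_def]; group, map_mul]
      calc π ⁅y, u⁆ * π (u * y) * (π q)⁻¹ * (π ⁅y, u⁆ * π (u * y))⁻¹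
          = π ⁅y, u⁆ * π (u * (y * q⁻¹ * y⁻¹) * u⁻¹) * (π ⁅y, u⁆)⁻¹ := by
            simp only [map_mul, map_inv]; group
        _ = π (u * (y * q⁻¹ * y⁻¹) * u⁻¹) := by rw [hc, mul_inv_cancel_right]
        _ = _ := by simp only [map_mul, map_inv]; group
    calc y' * f (π q) * y'⁻¹
        = y' * π q * y'⁻¹ * (π (y * u) * (π q)⁻¹ * (π (y * u))⁻¹) := by
          simp only [f, y', u', map_mul]; group
      _ = y' * π q * y'⁻¹ * (π (u * y) * (π q)⁻¹ * (π (u * y))⁻¹) := by rw [key]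
      _ = _ := by simp only [f, y', u', map_mul, map_inv]; group
  set a' := y * a * y⁻¹
  have ha' : a' ∈ Q := hQn.conj_mem a ha y
  obtain ⟨z, hz, ez⟩ : ∃ z ∈ V, a' = z * a := ⟨_, hcop y hy a ha, by simp only [a']; group⟩
  have hzQ : z ∈ Q := h.vQ_le_pCore hz
  have hff : ∀ q ∈ Q, f (f (π q)) = π ⁅⁅q, u⁆, u⁆ := fun q hq => by rw [hfq, hfq]
  have hf1 : f (π d) = 1 := by
    rw [hfq, show ⁅d, u⁆ = 1 from commutatorElement_eq_one_iff_mul_comm.mpr hdu.symm, map_one]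
  have hfz : f (f (π z)) = 1 := by
    rw [hff z hzQ]
    refine (congrArg π ?_).trans (map_one π)
    refine commutatorElement_eq_one_iff_mul_comm.mpr ?_
    have h2 := (centralizer ((S : Subgroup G) : Set G)).inv_mem (Subgroup.mem_inf.mp (hA.quad (hU'S hu) hz)).2
    rw [← commutatorElement_def, commutatorElement_inv] at h2
    exact (h2 u (hU'S hu)).symm
  have hffa : f (f (π a)) = f (π v) := by
    have hwQ := hfQ a ha
    rw [hff a ha, ← hfq, hw]
    have hdQ : π d ∈ Q.map π := by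
      refine ⟨v⁻¹ * ⁅a, u⁆, mul_mem (inv_mem hvQ) hwQ, ?_⟩
      rw [map_mul, hw, map_inv, inv_mul_cancel_left]
    obtain ⟨d', hd', ed⟩ := hdQ
    rw [← ed, hfm v hvQ d' hd', ed, hf1, mul_one]
  set c' := π a * π a'
  have hc' : y' * c' * y'⁻¹ = c' := by
    have : π (y * a' * y⁻¹) = π a := by
      rw [show y * a' * y⁻¹ = (y * y) * a * (y * y)⁻¹ by simp only [a']; group, map_mul, map_mul,
        hWc _ hy2 a ha, map_inv, mul_inv_cancel_right]
    calc y' * c' * y'⁻¹ = π (y * a * y⁻¹) * π (y * a' * y⁻¹) := by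
          simp only [c', y', map_mul, map_inv]; group
      _ = _ := by rw [this, hWc a' ha' a ha]
  have hg1 : f (f c') = f (π v) * f (π v) := by
    have e1 : f c' = f (π a) * (f (π z) * f (π a)) := by
      rw [← hfm z hzQ a ha, ← map_mul π z a, ← hfm a ha _ (mul_mem hzQ ha), ← ez]
    have e2 : π ⁅z, u⁆ * π ⁅a, u⁆ = π (⁅z, u⁆ * ⁅a, u⁆) := (map_mul π _ _).symm
    rw [e1, hfq a, hfq z, e2, hfm _ (hfQ a ha) _ (mul_mem (hfQ z hzQ) (hfQ a ha)), ← e2,
      hfm _ (hfQ z hzQ) _ (hfQ a ha), ← hfq z, hfz, one_mul, ← hfq a, hffa]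
  have hyv : y' * f (π v) * y'⁻¹ = (f (π v))⁻¹ := by
    rw [hcomm v hvQ]
    refine eq_inv_of_mul_eq_one_left ?_
    rw [← hfm _ (hQn.conj_mem v hvQ y) v hvQ, ← map_mul, hfq]
    refine (congrArg π ?_).trans (map_one π)
    exact commutatorElement_eq_one_iff_mul_comm.mpr (Subgroup.mem_center_iff.mp hinv.2 u).symm
  have hfix2 : y' * f (f c') * y'⁻¹ = f (f c') := by
    have hcQ : a * a' ∈ Q := mul_mem ha ha'
    have e : c' = π (a * a') := (map_mul π a a').symm
    have econj : ∀ q : G, π (y * q * y⁻¹) = y' * π q * y'⁻¹ := fun q => by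
      simp only [y', map_mul, map_inv]
    have h1 : y' * f c' * y'⁻¹ = f c' := by
      conv_lhs => rw [e, hcomm _ hcQ, econj, ← e, hc']
    have h2 : f c' = π ⁅a * a', u⁆ := by rw [e, hfq]
    rw [h2, hcomm _ (hfQ _ hcQ), econj, ← h2, h1]
  rw [hg1, show y' * (f (π v) * f (π v)) * y'⁻¹ = (y' * f (π v) * y'⁻¹) * (y' * f (π v) * y'⁻¹) by group,
    hyv] at hfix2
  have h4 : f (π v) ^ 4 = 1 := by
    calc f (π v) ^ 4 = (f (π v) * f (π v)) * (f (π v) * f (π v)) := by simp only [pow_succ, pow_zero]; group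
      _ = (f (π v))⁻¹ * (f (π v))⁻¹ * (f (π v) * f (π v)) := by rw [hfix2]
      _ = 1 := by group
  have hvp : f (π v) ^ p = 1 := by rw [hfq]; exact hWp _ (hfQ v hvQ)
  have h1 : f (π v) = 1 := by
    refine orderOf_eq_one_iff.mp (Nat.dvd_one.mp ?_)
    have hc4 : Nat.Coprime 4 p := by
      rw [show (4 : ℕ) = 2 ^ 2 by norm_num]
      exact ((Nat.coprime_primes Nat.prime_two hp).mpr (Ne.symm hp2)).pow_left 2
    rw [← hc4.gcd_eq_one]
    exact Nat.dvd_gcd (orderOf_dvd_of_pow_eq_one h4) (orderOf_dvd_of_pow_eq_one hvp)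
  rw [hfq] at h1
  rw [← commutatorElement_def, ← commutatorElement_inv, map_inv, h1, inv_one]

end Cfsg.Agent.PU2
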