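import Cfsg.Agent.Lib.PushingUp2.One
import Cfsg.Agent.Lib.PushingUp2.Chain
import Cfsg.Agent.Lib.PushingUp.TwoTorus

/-!
# Failures at distance one

* `exists_dat_pair`: two types with noncommuting translates give data at distance two
* `Dat.S0_le`: then `S₀ ≤ Φ(E)`
* `Fam.all_good`: no failure at all when `Z(S) ∩ S₀` is fixed by no member
-/

set_option autoImplicit false
set_option linter.unusedSectionVars false

namespace Cfsg.Agent.PU2

open Subgroup
open PushingUp (Cfg Hyp Basics vQ cfg Dat map_cj card_cj cj_inf cj_centralizer cj_normalizer cj_sup cj_le_cj cj_one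
  mem_cj_conj cj_eq_self_of_mem_normalizer le_centralizer_cj_iff)
open FFPair (cj mem_cj cj_cj)
open scoped commutatorElement

universe u v

section Source

variable {G : Type u} [Group G] [Finite G] {p : ℕ} [Fact p.Prime] {S : Sylow p G} {M : Subgroup G}
  {V' Q' A E₀ : Subgroup G} {g : G} (h : Hyp p S M) (hB : Basics p S M) (d : Dat p S M V' Q' A E₀ g)
include h hB d

theorem dat_S0_le (h3 : p = 3) :
    S0Of p (S : Subgroup G) ≤ Fr p (Dat.E p Q' g) ∧ A ≤ centralizer (Fr p (Dat.E p Q' g) : Set G) := by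
  have := Dat.E_normal h hB d
  have := Dat.N_normal h hB d
  obtain ⟨hquad, -, -, -⟩ := Dat.bar h hB d
  obtain ⟨hA, hZsV, -⟩ := id hB
  set Sg := (S : Subgroup G) with hSg
  set Zs := Sg ⊓ centralizer (Sg : Set G)
  set Q := pCore p G
  set D := Q ⊓ Q'
  set W := ⁅Dat.E p Q' g, Dat.E p Q' g⁆
  have hQS : Q ≤ Sg := PCore.pCore_le_sylow S
  have hQn : Sg ≤ normalizer (Q : Set G) := le_top.trans (normalizer_eq_top_iff.mpr inferInstance).ge
  have hD : Sg ≤ normalizer (D : Set G) := Dat.normD h d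
  have hWn : Sg ≤ normalizer (W : Set G) :=
    le_top.trans (normalizer_eq_top_iff.mpr (Subgroup.commutator_normal _ _)).ge
  have hAS : A ≤ Sg := le_sup_left.trans d.Asup.le
  have hdec : ∀ {s : G}, s ∈ Sg → ∃ a ∈ A, ∃ q ∈ Q, a * q = s := fun hs =>
    (Coprime.mem_sup_iff_of_le_normalizer (hAS.trans hQn)).mp (d.Asup.ge hs)
  have hbr : Bracket A (Dat.E p Q' g) Zs :=
    ⟨fun a ha x hx => Dat.comm_AD h hB d ha hx.1, fun t ht x hx => ht.2 x (hAS hx),
      fun t ht y hy => ht.2 y (hQS hy.1.1), fun t ht t' ht' => (ht.2 t' ht'.1).symm⟩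
  refine ⟨?_, hbr.le_centralizer_Fr (PGroup.isElementaryAbelian_mono hA.elem hZsV)⟩
  have hFrS : Fr p Sg ≤ D := by
    refine sup_le (comm_le_of_sup d.Asup hQn hD (PGroup.le_centralizer_of_isMulCommutative d.elemA.1)
      (fun a ha q hq => hquad a (hAS ha) q hq) fun x hx y hy => hquad x (hQS hx) y hy)
      (PGroup.powerClosure_le_iff.mpr fun s hs => ?_)
    rw [pow_one]
    obtain ⟨a, ha, q, hq, rfl⟩ := hdec hs
    refine pow_mem_of_comm (hD (hAS ha)) (hD (hQS hq)) (hquad a (hAS ha) q hq)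
      (by rw [d.elemA.2 a ha]; exact one_mem _) ?_
    obtain ⟨b, hb, r, hr, rfl⟩ := Dat.Qdec h d hq
    have hbQ := Dat.BleQ h d hb
    refine pow_mem_of_comm (hD (hQS hbQ)) (hD (hQS hr.1)) (hquad b (hQS hbQ) r hr.1)
      (by rw [(PGroup.isElementaryAbelian_map d.elem' _).2 b hb]; exact one_mem _) (pow_mem hr p)
  have hN : Dat.N p Q' g ≤ Zs ⊔ W := sup_le_sup_right
    (le_inf (inf_le_left.trans h.vQ_le_sylow) (inf_le_right.trans (Subgroup.center_le_centralizer _))) _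
  have h1 : ⁅D, Sg⁆ ≤ Zs ⊔ W := commutator_le.mpr fun x hx s hs => by
    obtain ⟨a, ha, q, hq, rfl⟩ := hdec hs
    rw [show ⁅x, a * q⁆ = ⁅a, x⁆⁻¹ * (a * ⁅x, q⁆ * a⁻¹) by simp only [commutatorElement_def]; group]
    refine mul_mem (inv_mem (mem_sup_left (Dat.comm_AD h hB d ha hx))) (hN ?_)
    exact (Dat.N_normal h hB d).conj_mem _ (Dat.QQ_le h hB d (commutator_mem_commutator hx.1 hq)) a
  have h2 : Fr p D ≤ Fr p (Dat.E p Q' g) := by
    refine (Fr_mono (K := V' ⊔ Dat.E p Q' g) fun x hx => ?_).trans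
      (Fr_sup_le d.elem' (le_centralizer_iff.mp ((inf_le_left.trans inf_le_right).trans d.Q'V')))
    obtain ⟨v, hv, r, hr, rfl⟩ := Dat.Ddec h d hx
    exact mul_mem_sup hv hr
  unfold S0Of
  rw [if_neg (by omega), if_pos h3]
  exact sup_le (le_trans (le_trans (commutator_mono ((commutator_mono hFrS le_rfl).trans h1) le_rfl)
    (comm_sup_central_le inf_le_left inf_le_right hWn)) le_sup_left) ((Fr_mono hFrS).trans h2)

end Source

variable {Γ : Type u} [Group Γ] [Finite Γ] {p : ℕ} [Fact p.Prime] {ι : Type v} {C : ι → Cfg Γ}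
  {Sg : Subgroup Γ}

/-- Translates of the modules of type `j` by moved elements of type `i` do not commute. -/
def Linked (C : ι → Cfg Γ) (i j : ι) : Prop :=
  ∀ g ∈ gens C i, ¬ cj g (C j).V ≤ centralizer ((C j).V : Set Γ)

theorem exists_linked (F : Fam p Sg C) (hsrc : ∀ i, HasSource p (C i)) (hg : Good C 1)
    {t : ℕ → ι} {e : ℕ → Γ} (hc : Crit C 1 t e) : ∃ i j, Linked C i j ∧ Linked C j i := by
  have one : ∀ {t : ℕ → ι} {e : ℕ → Γ}, Crit C 1 t e → Linked C (t 0) (t 1) := by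
    intro t e hc g hg'
    have h := (Crit.shift F hg hc Nat.one_pos (Crit.out F hg hc hsrc Nat.one_pos) (g := g⁻¹) (gens_inv hg')).moves
    change ¬ cj (e 0 * g⁻¹⁻¹) (C (t 1)).V ≤ centralizer (cj (e 0) (C (t 1)).V : Set Γ) at h
    rwa [inv_inv, ← cj_cj, le_centralizer_cj_iff] at h
  obtain ⟨g, hgG, hgm⟩ := (F.base (t 0)).moving
  exact ⟨t 0, t 1, one hc,
    one (Crit.shift F hg hc Nat.one_pos (Crit.out F hg hc hsrc Nat.one_pos) ⟨hgG, hgm⟩)⟩

/-- Data at distance two from two linked types. -/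
theorem exists_dat_pair (F : Fam p Sg C) (hg : Good C 1) {i j : ι} {g g' : Γ} (hgi : g ∈ gens C i)
    (hgj : g' ∈ gens C j) (hm : ¬ cj g (C j).V ≤ centralizer ((C j).V : Set Γ))
    (hm' : ¬ cj g' (C i).V ≤ centralizer ((C i).V : Set Γ))
    (hcard : Nat.card ↥(C j).V ≤ Nat.card ↥(C i).V) {G : Type u} [Group G] [Finite G] {S : Sylow p G}
    {M : Subgroup G} (h : Hyp p S M) {f : G →* Γ} (hf : Function.Injective f) (ec : C i = cfg p S f) :
    ∃ (V' Q' A E₀ : Subgroup G) (g₀ : G), f g₀ = g ∧ Q'.map f = (C j).Q ∧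
      E₀.map f = (C i).Q ⊓ (C j).Q ⊓ cj g' (C i).Q ∧ Dat p S M V' Q' A E₀ g₀ := by
  have hbi := F.base i
  have hbj := F.base j
  have eS : (S : Subgroup G).map f = Sg := by rw [← F.sylow i, ec]; rfl
  have eQi : (pCore p G).map f = (C i).Q := by rw [ec]; rfl
  have eVi : (vQ p G).map f = (C i).V := by rw [ec]; rfl
  have eZ : ((S : Subgroup G) ⊓ centralizer ((S : Subgroup G) : Set G)).map f = cs Sg Sg := by
    rw [← F.Zs_eq i, ec]; rfl
  have hpull : ∀ {X : Subgroup Γ}, X ≤ Sg → (X.comap f).map f = X := fun hX =>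
    map_comap_eq_self ((hX.trans eS.ge).trans (map_le_range f _))
  have h1 : (C j).V ≤ (C i).Q := F.V_le_Q hg Nat.one_pos i j
  have h2 : (C i).V ≤ (C j).Q := F.V_le_Q hg Nat.one_pos j i
  have hA : cj g' (C i).V ≤ (C j).Q := F.cj_le_Q hgj.1 h2
  have hgV : cj g (C j).V ≤ Sg := (F.cj_le_Q hgi.1 h1).trans (F.QS i)
  have hVg : (C j).V ≤ cj g Sg := (h1.trans (hbi.conj_Q hgi.1).ge).trans (cj_le_cj.mpr (F.QS i))
  have heS : (C j).Q ≤ cj g' Sg := (hbj.conj_Q hgj.1).ge.trans (cj_le_cj.mpr (F.QS j))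
  have cv := cover_two hbj (hbj.conj g) (card_cj _ _).symm (card_cj _ _).symm
    (hgV.trans (F.sylow j).ge) (by simp only [Cfg.conj, F.sylow]; exact hVg)
    (fun hc => hm (le_centralizer_iff.mp hc))
  have cv' := cover_two (hbj.conj g) hbj (card_cj _ _) (card_cj _ _)
    (by simp only [Cfg.conj, F.sylow]; exact hVg) (hgV.trans (F.sylow j).ge) hm
  have cw := cover_two hbi (hbi.conj g') (card_cj _ _).symm (card_cj _ _).symm
    ((hA.trans (F.QS j)).trans (F.sylow i).ge) (by simp only [Cfg.conj, F.sylow]; exact h2.trans heS)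
    (fun hc => hm' (le_centralizer_iff.mp hc))
  simp only [Cfg.conj, F.sylow, F.Zs_eq] at cv cv' cw
  obtain ⟨g₀, -, hg₀⟩ : g ∈ (⊤ : Subgroup G).map f := by
    have := hgi.1
    rwa [ec] at this
  have eV : ((C j).V.comap f).map f = (C j).V := hpull (F.VS j)
  have eQ : ((C j).Q.comap f).map f = (C j).Q := hpull (F.QS j)
  have eA : ((cj g' (C i).V).comap f).map f = cj g' (C i).V := hpull (hA.trans (F.QS j))
  have eE : (((C i).Q ⊓ (C j).Q ⊓ cj g' (C i).Q).comap f).map f = (C i).Q ⊓ (C j).Q ⊓ cj g' (C i).Q :=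
    hpull ((inf_le_left.trans inf_le_left).trans (F.QS i))
  have hmap : ∀ {X Y : Subgroup G}, X.map f ≤ Y.map f ↔ X ≤ Y := fun {_ _} =>
    map_le_map_iff_of_injective hf
  have hcj : ∀ X : Subgroup G, (cj g₀ X).map f = cj g (X.map f) := fun X => by rw [map_cj, hg₀]
  have hcent : ∀ {X Y : Subgroup G}, X.map f ≤ centralizer (Y.map f : Set Γ) → X ≤ centralizer (Y : Set G) :=
    fun {X Y} hXY x hx y hy => hf (by rw [map_mul, map_mul]; exact hXY (mem_map_of_mem f hx) _ (mem_map_of_mem f hy))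
  refine ⟨(C j).V.comap f, (C j).Q.comap f, (cj g' (C i).V).comap f, _, g₀, hg₀, eQ, eE,
  { notMem := ?_
    Q'S := hmap.mp (by rw [eQ, eS]; exact F.QS j)
    normQ' := ?_
    V'Q := hmap.mp (by rw [eV, eQi]; exact h1)
    VQ' := hmap.mp (by rw [eQ, eVi]; exact h2)
    V'Q' := hmap.mp (by rw [eV, eQ]; exact hbj.VQ)
    Q'V' := hcent (by rw [eQ, eV]; exact hbj.QV)
    elem' := (PGroup.isElementaryAbelian_map_iff hf).mp (by rw [eV]; exact hbj.elem)
    cardV' := by rw [← card_map_of_injective hf, eV, ← card_map_of_injective hf, eVi]; exact hcard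
    ne' := fun hle => by
      have h5 : (C j).V ≤ cs Sg Sg := by rw [← eV, ← eZ]; exact map_mono hle
      exact hbj.ne fun s hs => hbj.centV ⟨hs, fun v hv => ((h5 hv).2 s (F.sylow j ▸ hs)).symm⟩
    quad' := ?_
    ZsV' := hmap.mp (by rw [eV, eZ]; exact F.center_le_V j)
    Bsup := map_injective hf (by rw [Subgroup.map_sup, hcj, eV, eQ, eS]; exact cv.1)
    Binf := map_injective hf (by rw [Subgroup.map_inf _ _ f hf, hcj, hcj, eV, eQ, eZ]; exact cv.2.1)
    Csup := map_injective hf (by rw [Subgroup.map_sup, hcj, hcj, eV, eQ, eS]; exact cv.2.2)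
    Cinf := map_injective hf (by rw [Subgroup.map_inf _ _ f hf, hcj, eV, eQ, eZ]; exact cv'.2.1)
    AQ' := hmap.mp (by rw [eA, eQ]; exact hA)
    elemA := (PGroup.isElementaryAbelian_map_iff hf).mp (by rw [eA]; exact (hbi.conj _).elem)
    Asup := map_injective hf (by rw [Subgroup.map_sup, eA, eQi, eS]; exact cw.1)
    ZsE₀ := hmap.mp (by
      rw [eE, eZ]
      refine le_inf (le_inf ((F.center_le_V i).trans hbi.VQ) ((F.center_le_V j).trans hbj.VQ)) ?_
      exact (F.center_le_V j).trans ((hbj.conj_V hgj.1).ge.trans (cj_le_cj.mpr h1)))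
    E₀le := hmap.mp (by rw [Subgroup.map_inf _ _ f hf, eE, eQ, eQi]; exact inf_le_left)
    E₀A := hcent (by rw [eE, eA]; exact inf_le_right.trans (hbi.conj _).QV)
    dec := hmap.mp ?_ }⟩
  · intro hgM
    obtain ⟨y, hy⟩ := h.exists_not_mem
    obtain ⟨hsup, -, -⟩ := (hbi.dich g hgi.1).resolve_left hgi.2
    have hle : (S : Subgroup G) ⊔ cj g₀ (S : Subgroup G) ≤ M := sup_le h.SM (by
      rintro _ ⟨s, hs, rfl⟩
      exact mul_mem (mul_mem hgM (h.SM hs)) (inv_mem hgM))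
    have htop : (S : Subgroup G) ⊔ cj g₀ (S : Subgroup G) = ⊤ := map_injective hf (by
      rw [Subgroup.map_sup, hcj, eS, ← F.sylow i, hsup, ec]; rfl)
    exact hy (hle (htop ▸ mem_top y))
  · intro s hs
    refine PGroup.mem_normalizer_of_map_conj_eq (map_injective hf ?_)
    show (cj s ((C j).Q.comap f)).map f = _
    rw [map_cj, eQ]
    exact cj_eq_self_of_mem_normalizer (hbj.GQ (hbj.SG ((F.sylow j).symm ▸ eS.le (mem_map_of_mem f hs))))
  · intro s hs v hv
    have := hbj.quad (f s) ((F.sylow j).symm ▸ eS.le (mem_map_of_mem f hs)) (f v) hv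
    rw [F.Zs_eq, ← eZ, ← map_inv, ← map_inv, ← map_mul, ← map_mul, ← map_mul] at this
    exact (Subgroup.mem_map_iff_mem hf).mp this
  · rw [Subgroup.map_sup, Subgroup.map_inf _ _ f hf, eE, eQ, eQi, eVi]
    intro x hx
    have hVn : (C i).V ≤ normalizer (cj g' (C i).Q : Set Γ) := by
      rw [← cj_normalizer]
      exact (h2.trans heS).trans (cj_le_cj.mpr (F.sylow i ▸ hbi.SG.trans hbi.GQ))
    obtain ⟨v, hv, r, hr, rfl⟩ := (Coprime.mem_sup_iff_of_le_normalizer hVn).mp (cw.2.2.ge (heS hx.2))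
    refine mul_mem_sup hv ⟨⟨?_, ?_⟩, hr⟩
    · have := mul_mem (inv_mem (hbi.VQ hv)) hx.1
      rwa [inv_mul_cancel_left] at this
    · have := mul_mem (inv_mem (h2 hv)) hx.2
      rwa [inv_mul_cancel_left] at this

theorem no_linked (F : Fam p Sg C) (hsrc : ∀ i, HasSource p (C i)) (hg : Good C 1) {i j : ι}
    (hij : Linked C i j) (hji : Linked C j i) (hcard : Nat.card ↥(C j).V ≤ Nat.card ↥(C i).V) :
    cs Sg Sg ⊓ S0Of p Sg ≤ (C i).Z := by
  obtain ⟨g, hgG, hgm⟩ := (F.base i).moving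
  obtain ⟨g', hgG', hgm'⟩ := (F.base j).moving
  have hgi : g ∈ gens C i := ⟨hgG, hgm⟩
  have hgj : g' ∈ gens C j := ⟨hgG', hgm'⟩
  obtain ⟨G, _, _, S, M, f, hf, h, hB, ec⟩ := hsrc i
  obtain ⟨G', _, _, S', M', f', hf', h', hB', ec'⟩ := hsrc j
  obtain ⟨V', Q', A, E₀, g₀, -, eQ, eE, d⟩ :=
    exists_dat_pair F hg hgi hgj (hij g hgi) (hji g' hgj) hcard h hf ec
  have hV'c : V'.map f ≤ Sg := by
    rw [← F.sylow i, ec]
    exact map_mono (d.V'Q'.trans d.Q'S)
  have hcard' : Nat.card ↥(C i).V ≤ Nat.card ↥(C j).V := by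
    have e1 := Dat.cardV'_eq h hB d
    have e2 := Dat.cardQ_eq h hB d
    have e3 : (C i).V = (vQ p G).map f := by rw [ec]; rfl
    have e4 := (F.base j).cardV
    have e5 := (F.base i).cardV
    have eQ' : Nat.card ↥Q' = Nat.card ↥(C j).Q := by rw [← eQ, card_map_of_injective hf]
    have hn : cj g₀ V' ≤ normalizer (Q' : Set G) := (le_sup_left.trans d.Bsup.le).trans d.normQ'
    have e6 := Offender.card_sup_mul_card_inf hn
    rw [d.Bsup, d.Binf, card_cj, card_cj, eQ', e1] at e6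
    have e7 : Nat.card ↥(S : Subgroup G) = Nat.card ↥Sg := by
      rw [← F.sylow i, ec]; exact (card_map_of_injective hf).symm
    have e8 : Nat.card ↥((S : Subgroup G) ⊓ centralizer ((S : Subgroup G) : Set G)) =
        Nat.card ↥(cs Sg Sg) := by
      rw [← F.Zs_eq i, ec]; exact (card_map_of_injective hf).symm
    rw [F.sylow j, F.Zs_eq j, ← e7, ← e8, e6] at e4
    rw [e3, card_map_of_injective hf]
    exact (Nat.eq_of_mul_eq_mul_right Nat.card_pos e4).ge
  obtain ⟨V'', Q'', A'', E₀'', g₁, eg₁, eQ'', -, d'⟩ :=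
    exists_dat_pair F hg hgj hgi (hji g' hgj) (hij g hgi) hcard' h' hf' ec'
  obtain ⟨-, hsharp, -, -⟩ := Dat.bar h' hB' d'
  have hsh : ∀ u ∈ pCore p G, u ∉ Q' → ∀ a ∈ A, u * a * u⁻¹ * a⁻¹ ∈ E₀ → a ∈ pCore p G := by
    intro u hu huQ a ha hcomm
    have hu' : f u ∈ (C i).Q := by rw [ec]; exact mem_map_of_mem f hu
    have ha' : f a ∈ (C j).Q := eQ.le (mem_map_of_mem f (d.AQ' ha))
    have hr : f u * f a * (f u)⁻¹ * (f a)⁻¹ ∈ (C i).Q ⊓ (C j).Q ⊓ cj g' (C i).Q := by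
      rw [← eE, ← map_inv, ← map_inv, ← map_mul, ← map_mul, ← map_mul]
      exact mem_map_of_mem f hcomm
    have eS' : (S' : Subgroup G').map f' = Sg := by rw [← F.sylow j, ec']; rfl
    have eQj : (pCore p G').map f' = (C j).Q := by rw [ec']; rfl
    obtain ⟨s, hs, es⟩ := eS'.ge (F.QS i hu')
    obtain ⟨q, hq, eq⟩ := eQj.ge ha'
    have hsQ : s ∉ pCore p G' := fun hsQ => huQ ((Subgroup.mem_map_iff_mem hf).mp
      (eQ.ge (es ▸ eQj.le (mem_map_of_mem f' hsQ))))
    have hE : s * q * s⁻¹ * q⁻¹ ∈ Dat.E p Q'' g₁ := by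
      refine (Subgroup.mem_map_iff_mem hf').mp ?_
      rw [Dat.E, Subgroup.map_inf _ _ f' hf', Subgroup.map_inf _ _ f' hf', map_cj, eQ'', eQj, eg₁,
        map_mul, map_mul, map_mul, map_inv, map_inv, es, eq]
      exact ⟨⟨hr.1.2, hr.1.1⟩, hr.2⟩
    refine (Subgroup.mem_map_iff_mem hf).mp ?_
    have : f a ∈ (C i).Q := eQ''.le (eq ▸ mem_map_of_mem f' (hsharp s hs hsQ q hq hE).2)
    rwa [ec] at this
  obtain ⟨hS0, hA⟩ := dat_S0_le h hB d (Dat.p_eq_three h hB d hsh)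
  have := Dat.E_normal h hB d
  have hAQ : A.map f ⊔ (C i).Q = (C i).S := by
    rw [ec]
    show A.map f ⊔ (pCore p G).map f = (S : Subgroup G).map f
    rw [← Subgroup.map_sup, d.Asup]
  have hW : (C i).G ≤ normalizer ((Fr p (Dat.E p Q' g₀)).map f : Set Γ) := by
    rw [ec]
    refine (map_mono (le_of_eq (normalizer_eq_top_iff.mpr ?_).symm)).trans (le_normalizer_map f)
    exact normalizer_eq_top_iff.mp (top_le_iff.mp (normalizer_Fr (normalizer_eq_top_iff.mpr ‹_›).ge))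
  have hA' : A.map f ≤ centralizer ((Fr p (Dat.E p Q' g₀)).map f : Set Γ) := by
    rintro _ ⟨a, ha, rfl⟩ _ ⟨x, hx, rfl⟩
    rw [← map_mul, ← map_mul, hA ha x hx]
  refine le_trans (inf_le_inf (F.Zs_eq i).ge ?_) (Base.le_Z (F.base i) hAQ hW hA')
  rw [← F.sylow i, ec]
  exact (map_S0Of f (S : Subgroup G)).ge.trans (map_mono hS0)

/-- All translates commute. -/
theorem Fam.all_good (F : Fam p Sg C) (hsrc : ∀ i, HasSource p (C i))
    (hmoved : ∀ i, ¬ cs Sg Sg ⊓ S0Of p Sg ≤ (C i).Z) : ∀ k, Good C k := by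
  by_contra hc
  push Not at hc
  obtain ⟨m, t, e, hg, hcr⟩ := exists_crit hc
  have hm := crit_le_one F hsrc hg hcr
  have hg1 := F.good_one hmoved
  obtain rfl : m = 1 := by
    refine le_antisymm hm (Nat.one_le_iff_ne_zero.mpr ?_)
    rintro rfl
    refine hcr.moves ?_
    exact hg1.comm Nat.one_pos (j := 0) (by rw [inv_mul_cancel]; rfl) _ _
  obtain ⟨i, j, hij, hji⟩ := exists_linked F hsrc hg hcr
  rcases le_total (Nat.card ↥(C j).V) (Nat.card ↥(C i).V) with hle | hle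
  · exact hmoved i (no_linked F hsrc hg hij hji hle)
  · exact hmoved j (no_linked F hsrc hg hji hij hle)

end Cfsg.Agent.PU2
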