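import Cfsg.Agent.Lib.PushingUp2.Closure
import Cfsg.Agent.Lib.PushingUp2.Perm
import Cfsg.Agent.Lib.PushingUp.CentralProduct

/-!
# One subgroup for all embeddings in the residual case

* `exists_universal_of`: the construction, given that all translates commute
* `exists_universal`: a characteristic centrally large subgroup normal in every pushing-up group in which
  `Z(S) ∩ S₀` is not normal
-/

set_option autoImplicit false
set_option linter.unusedSectionVars false

namespace Cfsg.Agent.PU2

open Subgroup
open PushingUp (Cfg Hyp Basics vQ cfg card_cj cj_eq_self_of_mem_normalizer base_map)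
open FFPair (cj mem_cj cj_cj)

universe u

/-- An embedding of `S` as a Sylow subgroup satisfying the pushing-up hypotheses, `T` not normal. -/
structure Emb {S : Type u} [Group S] (p : ℕ) (T : Subgroup S) where
  /-- the group -/
  G : Type u
  [grp : Group G]
  [fin : Finite G]
  /-- the embedding -/
  τ : S →* G
  inj : Function.Injective τ
  /-- its image -/
  P : Sylow p G
  eP : (P : Subgroup G) = τ.range
  /-- the maximal subgroup -/
  M : Subgroup G
  hyp : Hyp p P M
  moved : ¬ (T.map τ).Normal

attribute [instance] Emb.grp Emb.fin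

variable {S : Type u} [Group S] [Finite S] {p : ℕ} [Fact p.Prime]

/-- The assumptions of the residual case. -/
structure Residual (p : ℕ) (S : Type u) [Group S] [Finite S] : Prop where
  large : IsCentrallyLarge (⊤ : Subgroup S)
  maxCL : ∀ A ∈ maxAbelianSubgroups S, IsCentrallyLarge A
  join : thompsonSubgroupA S = ⊤
  elem : IsElementaryAbelian p (Subgroup.center S)

namespace Emb

variable {T : Subgroup S} (hR : Residual p S) (hT : T ≤ Subgroup.center S) (E : Emb p T)

/-- `O_p(G)` seen in `S`. -/
def Qd : Subgroup S := (pCore p E.G).comap E.τ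

/-- The configuration inside the group itself. -/
def conf : Cfg E.G := cfg p E.P (MonoidHom.id E.G)

/-- The partial maps of `O_p(G)` induced by conjugation. -/
def rels : Set (Set (S × S)) :=
  Set.range fun g : E.G => {x | x.1 ∈ E.Qd ∧ E.τ x.2 = g * E.τ x.1 * g⁻¹}

/-- All that matters of the embedding. -/
def data : Subgroup S × Set (Set (S × S)) := (E.Qd, E.rels)

theorem map_Qd : E.Qd.map E.τ = pCore p E.G :=
  map_comap_eq_self ((PCore.pCore_le_sylow E.P).trans E.eP.le)

theorem exists_move {g : E.G} {x : S} (hx : x ∈ E.Qd) : ∃ y ∈ E.Qd, E.τ y = g * E.τ x * g⁻¹ := by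
  have hn : (pCore p E.G).Normal := PCore.pCore_normal
  obtain ⟨y, hy, e⟩ := E.map_Qd.ge (hn.conj_mem _ hx g)
  exact ⟨y, hy, e⟩

include hR hT in
theorem basics : Basics p E.P E.M := by
  have hcz : (Subgroup.center S).map E.τ = (E.P : Subgroup E.G) ⊓ centralizer ((E.P : Subgroup E.G) : Set E.G) := by
    rw [center_map E.τ E.inj, E.eP]; rfl
  have hZn : ¬ ((E.P : Subgroup E.G) ⊓ centralizer ((E.P : Subgroup E.G) : Set E.G)).Normal := fun hn =>
    E.moved (PushingUp.normal_of_le_center (((map_mono hT).trans hcz.le).trans (E.hyp.center_of_normal hn)))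
  have hJ : (E.P : Subgroup E.G) ≤ centralizer (centerThompsonAOf (E.P : Subgroup E.G) : Set E.G) := by
    rw [le_centralizer_iff, centerThompsonAOf, E.eP, thompsonAOf_range E.τ E.inj, hR.join,
      ← MonoidHom.range_eq_map]
    exact inf_le_right
  obtain ⟨hA, hV⟩ := E.hyp.act_of_not_normal hZn hJ
  refine ⟨hA, fun z hz => PGroup.mem_omegaOne_of_pow_eq_one (PushingUp.Hyp.center_le_cQ hz) ?_, hV⟩
  obtain ⟨y, hy, rfl⟩ := hcz.ge hz
  rw [← map_pow, hR.elem.2 y hy, map_one]

include hR hT in
theorem base : PushingUp.Base p E.conf :=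
  base_map E.hyp (E.basics hR hT) _ Function.injective_id

theorem conf_S : E.conf.S = E.τ.range := by
  show (E.P : Subgroup E.G).map (MonoidHom.id E.G) = _
  rw [Subgroup.map_id, E.eP]

theorem conf_Q : E.conf.Q = E.Qd.map E.τ := by
  show (pCore p E.G).map (MonoidHom.id E.G) = _
  rw [Subgroup.map_id, E.map_Qd]

include hR hT in
theorem conf_V : E.conf.V = (centralizer (E.Qd : Set S)).map E.τ := by
  have hL : Large E.conf.S := E.conf_S ▸ large_map E.τ E.inj hR.large
  rw [← Base.cs_Q (E.base hR hT) hL, conf_S, conf_Q, cs_map E.τ E.inj]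

end Emb

/-- One characteristic centrally large subgroup for all embeddings into groups with property `ok`, when
these leave all translates commuting. -/
theorem exists_universal_of (hR : Residual p S) {T : Subgroup S} (hT : T ≤ Subgroup.center S)
    (hTc : T.Characteristic) (ok : ∀ (G : Type u) [Group G] [Finite G], Sylow p G → Prop)
    (hgood : ∀ {Γ : Type u} [Group Γ] [Finite Γ] {ι : Type u} (C : ι → Cfg Γ) (Sg : Subgroup Γ),
      Fam p Sg C → (∀ i, HasSource p (C i)) →
      (∀ i, ∃ (E : Emb p T) (φ : E.G →* Γ), Function.Injective φ ∧ ok E.G E.P ∧ C i = cfg p E.P φ) →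
      ∀ k, Good C k) :
    ∃ S₂ : Subgroup S, S₂.Characteristic ∧ IsCentrallyLarge S₂ ∧ Subgroup.center S ≤ S₂ ∧
      ∀ E : Emb p T, ok E.G E.P → (S₂.map E.τ).Normal := by
  classical
  let D := Set.range fun E : {E : Emb p T // ok E.G E.P} => E.1.data
  have : Finite ↥D := inferInstance
  have : Fintype ↥D := Fintype.ofFinite _
  choose rep' hrep using fun d : ↥D => d.2
  let rep : ↥D → Emb p T := fun d => (rep' d).1
  let N := ∏ d : ↥D, (rep d).τ.range.index
  have hN : 0 < N := Finset.prod_pos fun d _ => Nat.pos_of_ne_zero Subgroup.index_ne_zero_of_finite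
  choose φ hφ hφτ using fun d : ↥D => exists_embedding (rep d).τ (rep d).inj hN
    (Finset.dvd_prod_of_mem (fun d : ↥D => (rep d).τ.range.index) (Finset.mem_univ d))
  let j := shiftHom S N
  have hj : Function.Injective j := shiftHom_injective hN
  let C : ↥D → Cfg (Equiv.Perm (S × Fin N)) := fun d => cfg p (rep d).P (φ d)
  have ecomp : ∀ d, (φ d).comp (rep d).τ = j := fun d => MonoidHom.ext (hφτ d)
  have emap : ∀ d (Y : Subgroup S), (Y.map (rep d).τ).map (φ d) = Y.map j := fun d Y => by
    rw [Subgroup.map_map, ecomp d]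
  have eS : ∀ d, (C d).S = j.range := fun d => by
    show ((rep d).P : Subgroup (rep d).G).map (φ d) = _
    rw [(rep d).eP, MonoidHom.range_eq_map, emap, ← MonoidHom.range_eq_map]
  have eQ : ∀ d, (C d).Q = (rep d).Qd.map j := fun d => by
    show (pCore p (rep d).G).map (φ d) = _
    rw [← (rep d).map_Qd, emap]
  have eV : ∀ d, (C d).V = (centralizer ((rep d).Qd : Set S)).map j := fun d => by
    show (vQ p (rep d).G).map (φ d) = _
    rw [← emap d, ← (rep d).conf_V hR hT]
    show _ = ((vQ p (rep d).G).map (MonoidHom.id _)).map (φ d)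
    rw [Subgroup.map_id]
  have F : Fam p j.range C :=
    { base := fun d => base_map (rep d).hyp ((rep d).basics hR hT) _ (hφ d)
      sylow := eS
      large := large_map j hj hR.large
      genMax := by
        rw [MonoidHom.range_eq_map, ← hR.join, thompsonSubgroupA, Subgroup.map_le_iff_le_comap]
        refine sSup_le fun A hA => Subgroup.map_le_iff_le_comap.mp (le_sSup ?_)
        have := maxAb_map j hj hR.large (hR.maxCL A hA) hA
        show MaxAb (Subgroup.map j (sSup (maxAbelianSubgroups S))) _
        have ht : sSup (maxAbelianSubgroups S) = ⊤ := hR.join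
        rwa [ht, ← MonoidHom.range_eq_map] }
  have hsrc : ∀ d, HasSource p (C d) := fun d =>
    ⟨(rep d).G, inferInstance, inferInstance, (rep d).P, (rep d).M, φ d, hφ d, (rep d).hyp,
      (rep d).basics hR hT, rfl⟩
  have hall := hgood C j.range F hsrc fun d => ⟨rep d, φ d, hφ d, (rep' d).2, rfl⟩
  set X := total C j.range
  set Xs := X.comap j
  have eX : Xs.map j = X := exists_map_eq j hj (F.total_le hall)
  have hjle : ∀ {Y Y' : Subgroup S}, Y.map j ≤ Y'.map j ↔ Y ≤ Y' := fun {_ _} =>
    map_le_map_iff_of_injective hj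
  have hZX : Subgroup.center S ≤ Xs := hjle.mp (by rw [center_map j hj, eX]; exact center_le_total)
  -- the key: every embedding normalises `Xs` and sees its module inside
  have key : ∀ E : Emb p T, ok E.G E.P →
      (Xs.map E.τ).Normal ∧ centralizer (E.Qd : Set S) ≤ Xs := by
    intro E hE
    obtain ⟨hQd, hrel⟩ := Prod.ext_iff.mp (hrep ⟨E.data, ⟨E, hE⟩, rfl⟩)
    set d : ↥D := ⟨E.data, ⟨E, hE⟩, rfl⟩
    change (rep d).Qd = E.Qd at hQd
    change (rep d).rels = E.rels at hrel
    refine ⟨?_, ?_⟩
    · refine ⟨?_⟩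
      rintro _ ⟨x, hx, rfl⟩ g
      obtain ⟨g', hg'⟩ := hrel.ge ⟨g, rfl⟩
      have hxQ : x ∈ (rep d).Qd := hjle.mp (by
        rw [eX, ← eQ d]; exact F.total_le_Q hall d) hx
      obtain ⟨y, hy, e⟩ := (rep d).exists_move (g := g') hxQ
      obtain ⟨-, e'⟩ := (Set.ext_iff.mp hg' (x, y)).mp ⟨hxQ, e⟩
      refine ⟨y, ?_, e'⟩
      show j y ∈ X
      rw [← hφτ d, e, map_mul, map_mul, map_inv, hφτ d]
      exact (mem_normalizer_iff.mp (F.total_normal hall d (mem_map_of_mem (φ d) (mem_top g'))) _).mp
        (eX.le (mem_map_of_mem j hx))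
    · rw [← hQd]
      exact hjle.mp (by rw [← eV d, eX]; exact V_le_total d)
  -- characteristic
  have hXchar : Xs.Characteristic := by
    refine Subgroup.characteristic_iff_map_eq.mpr fun α => ?_
    refine eq_of_le_of_card_ge ?_ (card_map_of_injective α.injective).ge
    rw [Subgroup.map_le_iff_le_comap, ← hjle, eX]
    have hZfix : (Subgroup.center S).map α.toMonoidHom = Subgroup.center S :=
      Subgroup.characteristic_iff_map_eq.mp inferInstance α
    have hTfix : T.map α.symm.toMonoidHom = T := Subgroup.characteristic_iff_map_eq.mp hTc α.symm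
    let tw : Emb p T → Emb p T := fun E =>
      { G := E.G
        τ := E.τ.comp α.symm.toMonoidHom
        inj := E.inj.comp α.symm.injective
        P := E.P
        eP := by
          rw [E.eP, MonoidHom.range_eq_map, MonoidHom.range_eq_map, ← Subgroup.map_map,
            map_top_of_surjective α.symm.toMonoidHom α.symm.surjective]
        M := E.M
        hyp := E.hyp
        moved := by rw [← Subgroup.map_map, hTfix]; exact E.moved }
    refine F.total_minimal hall ?_ (fun b => ?_) fun d g hg x hx hxQ => ?_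
    · rw [← center_map j hj]
      refine map_mono (Subgroup.map_le_iff_le_comap.mp ?_)
      rw [hZfix]
      exact hZX
    · rw [eV b]
      refine map_mono fun x hx => ?_
      refine (key (tw (rep b)) (rep' b).2).2 fun q hq => ?_
      have hq' : α.symm q ∈ (rep b).Qd := hq
      simpa using congrArg α (hx _ hq')
    · obtain ⟨g₀, -, rfl⟩ := hg.1
      obtain ⟨x, hxα, rfl⟩ := hx
      rw [eQ d] at hxQ
      have hxQ' : x ∈ (rep d).Qd := (Subgroup.mem_map_iff_mem hj).mp hxQ
      obtain ⟨y, -, e⟩ := (rep d).exists_move (g := g₀) hxQ'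
      refine ⟨y, ?_, by rw [← hφτ d, e, map_mul, map_mul, map_inv, hφτ d]⟩
      have hn := (key (tw (rep d)) (rep' d).2).1.conj_mem _ (mem_map_of_mem _ (show α x ∈ Xs from hxα)) g₀
      obtain ⟨w, hw, ew⟩ := hn
      have hyw : α y = w := by
        have h1 : (rep d).τ (α.symm w) = (rep d).τ y := by
          rw [e]
          simpa [tw] using ew
        rw [← (rep d).inj h1, MulEquiv.apply_symm_apply]
      show α y ∈ Xs
      exact hyw ▸ hw
  -- the centralizer
  have hXcd : IsCentralizerLarge Xs := (cd_map_iff j hj hR.large Xs).mp (eX.symm ▸ F.total_cd hall)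
  have hXab : Xs ≤ centralizer (Xs : Set S) := fun x hx y hy => hj (by
    rw [map_mul, map_mul]
    exact F.total_comm hall (eX.le (mem_map_of_mem j hx)) _ (eX.le (mem_map_of_mem j hy)))
  refine ⟨centralizer (Xs : Set S), ?_, ?_, Subgroup.center_le_centralizer _, fun E hE => ?_⟩
  · exact Subgroup.characteristic_centralizer (hH := hXchar)
  · obtain ⟨h1, h2⟩ := CLarge.isCentralizerLarge_centralizer hXcd
    exact CLarge.isCentrallyLarge_iff.mpr ⟨h1, h2.le.trans hXab⟩
  · obtain ⟨hn, hV⟩ := key E hE
    have hb := E.base hR hT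
    have hVX : E.conf.V ≤ Xs.map E.τ := by rw [E.conf_V hR hT]; exact map_mono hV
    have := Base.normal_cs hb hVX
      ((normalizer_eq_top_iff.mpr hn).ge.trans' le_top)
    rw [E.conf_S, ← cs_map E.τ E.inj] at this
    refine normalizer_eq_top_iff.mp (top_le_iff.mp (le_trans ?_ this))
    exact fun g _ => ⟨g, mem_top g, rfl⟩

/-- One characteristic centrally large subgroup for all embeddings moving `Z(S) ∩ S₀`. -/
theorem exists_universal (hR : Residual p S) :
    ∃ S₂ : Subgroup S, S₂.Characteristic ∧ IsCentrallyLarge S₂ ∧ Subgroup.center S ≤ S₂ ∧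
      ∀ E : Emb p (Subgroup.center S ⊓ S0Of p (⊤ : Subgroup S)), (S₂.map E.τ).Normal := by
  obtain ⟨S₂, h1, h2, h3, h4⟩ := exists_universal_of hR
    (T := Subgroup.center S ⊓ S0Of p (⊤ : Subgroup S)) inf_le_left
    (characteristic_iff_map_eq.mpr fun φ => by
      rw [Subgroup.map_inf _ _ _ φ.injective, map_S0Of, map_top_of_surjective _ φ.surjective,
        Subgroup.characteristic_iff_map_eq.mp (inferInstance : (Subgroup.center S).Characteristic) φ])
    (fun _ _ _ _ => True) fun C Sg F hsrc hC => F.all_good hsrc fun i hle => by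
      obtain ⟨E, φ, hφ, -, eC⟩ := hC i
      have eS : E.τ.range.map φ = Sg := by rw [← E.eP, ← F.sylow i, eC]; rfl
      have hj : Function.Injective (φ.comp E.τ) := hφ.comp E.inj
      rw [← eS, MonoidHom.range_eq_map, Subgroup.map_map, ← MonoidHom.range_eq_map,
        ← center_map _ hj, MonoidHom.range_eq_map, ← map_S0Of, ← Subgroup.map_inf _ _ _ hj,
        ← Subgroup.map_map, eC] at hle
      exact E.moved (PushingUp.normal_of_le_center (((map_le_map_iff_of_injective hφ).mp hle).trans
        (inf_le_right.trans (by rw [coe_top, centralizer_univ]))))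
  exact ⟨S₂, h1, h2, h3, fun E => h4 E trivial⟩

end Cfsg.Agent.PU2
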